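import Mathlib
import Cfsg.Agent.H6.Basic
import Cfsg.Agent.H30.CyclicNormal
import Cfsg.Agent.H70.SolvableQuotTwo

/-!
`p`-groups of linear maps with all orbits on nonzero vectors of the same size.
-/

set_option autoImplicit false
set_option linter.unusedSectionVars false
set_option linter.style.haveILetI false

namespace H33.HalfTrans

variable {V : Type*} [AddCommGroup V] [Finite V] {G : Type*} [Group G] [Finite G]
  (ρ : G →* AddMonoid.End V)

/-- stabiliser of a vector -/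
def St (v : V) : Subgroup G where
  carrier := {g | ρ g v = v}
  mul_mem' := fun {a b} (ha : ρ a v = v) (hb : ρ b v = v) => by
    show ρ (a * b) v = v
    rw [map_mul]
    show ρ a (ρ b v) = v
    rw [hb, ha]
  one_mem' := by show ρ 1 v = v; rw [map_one]; rfl
  inv_mem' := fun {a} (ha : ρ a v = v) => by
    show ρ a⁻¹ v = v
    calc ρ a⁻¹ v = (ρ a⁻¹ * ρ a) v := by show _ = ρ a⁻¹ (ρ a v); rw [ha]
      _ = v := by rw [← map_mul, inv_mul_cancel, map_one]; rfl

lemma mem_St {v : V} {g : G} : g ∈ St ρ v ↔ ρ g v = v := Iff.rfl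

lemma act_mul (a b : G) (v : V) : ρ (a * b) v = ρ a (ρ b v) := by rw [map_mul]; rfl

lemma act_one (v : V) : ρ (1 : G) v = v := by rw [map_one]; rfl

lemma act_inv_act (a : G) (v : V) : ρ a⁻¹ (ρ a v) = v := by
  rw [← act_mul, inv_mul_cancel, act_one]

lemma act_act_inv (a : G) (v : V) : ρ a (ρ a⁻¹ v) = v := by
  rw [← act_mul, mul_inv_cancel, act_one]

lemma orbit_card_mul (v : V) :
    Nat.card {u : V | ∃ g : G, ρ g v = u} * Nat.card (St ρ v) = Nat.card G := by
  rw [← (St ρ v).index_mul_card]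
  congr 1
  rw [Subgroup.index_eq_card]
  refine (Nat.card_congr (Equiv.ofBijective (fun x : G ⧸ St ρ v =>
    (⟨Quotient.liftOn' x (fun g => ρ g v) (fun a b hab => ?_), ?_⟩ : {u : V | ∃ g : G, ρ g v = u})) ⟨?_, ?_⟩)).symm
  · rw [QuotientGroup.leftRel_apply] at hab
    have h1 : ρ a (ρ (a⁻¹ * b) v) = ρ a v := congrArg (ρ a) hab
    rw [← act_mul, mul_inv_cancel_left] at h1
    exact h1.symm
  · obtain ⟨g, rfl⟩ := QuotientGroup.mk_surjective x
    exact ⟨g, rfl⟩
  · intro x y hxy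
    obtain ⟨a, rfl⟩ := QuotientGroup.mk_surjective x
    obtain ⟨b, rfl⟩ := QuotientGroup.mk_surjective y
    have h1 : ρ a v = ρ b v := congrArg Subtype.val hxy
    refine QuotientGroup.eq.2 ?_
    rw [mem_St, act_mul, ← h1, act_inv_act]
  · rintro ⟨u, g, rfl⟩
    exact ⟨QuotientGroup.mk g, rfl⟩

/-- the common hypotheses -/
structure Hyp (q p : ℕ) : Prop where
  pp : p.Prime
  qp : q.Prime
  ne : q ≠ p
  tor : ∀ v : V, q • v = 0
  grp : IsPGroup p G
  inj : Function.Injective ρ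
  half : ∀ v w : V, v ≠ 0 → w ≠ 0 → Nat.card (St ρ v) = Nat.card (St ρ w)

variable {ρ} {q p : ℕ}

lemma Hyp.nsmul_eq_zero (h : Hyp ρ q p) {n : ℕ} (hn : ¬ q ∣ n) {v : V} (hv : n • v = 0) : v = 0 := by
  have h1 : addOrderOf v ∣ q := addOrderOf_dvd_of_nsmul_eq_zero (h.tor v)
  have h2 : addOrderOf v ∣ n := addOrderOf_dvd_of_nsmul_eq_zero hv
  rcases (Nat.dvd_prime h.qp).1 h1 with h3 | h3
  · exact AddMonoid.addOrderOf_eq_one_iff.1 h3
  · exact absurd (h3 ▸ h2) hn

lemma Hyp.not_dvd_p (h : Hyp ρ q p) : ¬ q ∣ p := fun hd =>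
  h.ne ((Nat.prime_dvd_prime_iff_eq h.qp h.pp).1 hd)

lemma Hyp.not_dvd_of_pgroup (h : Hyp ρ q p) (K : Subgroup G) : ¬ q ∣ Nat.card K := by
  haveI := Fact.mk h.pp
  obtain ⟨k, hk⟩ := IsPGroup.iff_card.1 (h.grp.to_subgroup K)
  rw [hk]
  exact fun hd => h.not_dvd_p (h.qp.dvd_of_dvd_pow hd)

/-- sum over a subgroup -/
noncomputable def nrm (ρ : G →* AddMonoid.End V) (K : Subgroup G) (v : V) : V :=
  letI : Fintype K := Fintype.ofFinite K
  ∑ k : K, ρ k v

lemma act_nrm (K : Subgroup G) {k : G} (hk : k ∈ K) (v : V) : ρ k (nrm ρ K v) = nrm ρ K v := by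
  letI : Fintype K := Fintype.ofFinite K
  unfold nrm
  rw [map_sum]
  refine Fintype.sum_equiv (Equiv.mulLeft (⟨k, hk⟩ : K)) _ _ fun x => ?_
  exact (act_mul ρ k x v).symm

lemma nrm_of_fixed (K : Subgroup G) {v : V} (hv : ∀ k ∈ K, ρ k v = v) :
    nrm ρ K v = Nat.card K • v := by
  letI : Fintype K := Fintype.ofFinite K
  unfold nrm
  rw [Finset.sum_congr rfl (fun (x : K) _ => hv (x : G) x.2), Finset.sum_const, Finset.card_univ,
    Nat.card_eq_fintype_card]

lemma act_nrm_comm (K : Subgroup G) [hK : K.Normal] (g : G) (v : V) :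
    ρ g (nrm ρ K v) = nrm ρ K (ρ g v) := by
  letI : Fintype K := Fintype.ofFinite K
  unfold nrm
  rw [map_sum]
  refine Fintype.sum_equiv (MulAut.conjNormal g : MulAut K).toEquiv _ _ fun x => ?_
  show _ = ρ ((MulAut.conjNormal g x : K) : G) (ρ g v)
  rw [MulAut.conjNormal_apply, ← act_mul, ← act_mul, inv_mul_cancel_right]

/-- a nontrivial normal subgroup fixes no nonzero vector -/
theorem Hyp.fpf (h : Hyp ρ q p) (K : Subgroup G) [hK : K.Normal] (hne : K ≠ ⊥) {v : V}
    (hv : ∀ k ∈ K, ρ k v = v) : v = 0 := by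
  by_contra hv0
  set n := Nat.card K with hn
  have hqn : ¬ q ∣ n := h.not_dvd_of_pgroup K
  -- every vector killed by the norm is fixed by `K`
  have hker : ∀ w : V, nrm ρ K w = 0 → ∀ k ∈ K, ρ k w = w := by
    intro w hw
    by_cases hw0 : w = 0
    · intro k _; rw [hw0, map_zero]
    have hvw : v + w ≠ 0 := by
      intro he
      have h1 : nrm ρ K (v + w) = nrm ρ K v := by
        unfold nrm at hw ⊢
        simp only [map_add, Finset.sum_add_distrib, hw, add_zero]
      rw [he] at h1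
      rw [nrm_of_fixed K hv, nrm_of_fixed K (fun k _ => map_zero _), smul_zero] at h1
      exact hv0 (h.nsmul_eq_zero hqn h1.symm)
    have hle : St ρ (v + w) ≤ St ρ v ⊓ St ρ w := by
      intro g hg
      rw [mem_St, map_add] at hg
      have h1 := congrArg (nrm ρ K) hg
      have hadd : ∀ a b, nrm ρ K (a + b) = nrm ρ K a + nrm ρ K b := fun a b => by
        unfold nrm
        simp only [map_add, Finset.sum_add_distrib]
      rw [hadd, hadd, ← act_nrm_comm, ← act_nrm_comm, hw, map_zero, add_zero, nrm_of_fixed K hv,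
        map_nsmul] at h1
      have h2 : ρ g v = v := by
        apply sub_eq_zero.1
        apply h.nsmul_eq_zero hqn
        rw [smul_sub, hn, h1]
        simp
      refine ⟨h2, ?_⟩
      rw [h2] at hg
      exact add_left_cancel hg
    have e1 : St ρ (v + w) = St ρ v := Subgroup.eq_of_le_of_card_ge (hle.trans inf_le_left)
      (h.half _ _ hv0 hvw).le
    intro k hk
    exact (hle (e1 ▸ (hv k hk : k ∈ St ρ v))).2
  -- hence `K` is trivial
  apply hne
  rw [eq_bot_iff]
  intro k hk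
  apply h.inj
  rw [map_one]
  refine AddMonoidHom.ext fun u => ?_
  show ρ k u = u
  set w := n • u - nrm ρ K u with hwdef
  have hw : nrm ρ K w = 0 := by
    have hsub : ∀ a b, nrm ρ K (a - b) = nrm ρ K a - nrm ρ K b := fun a b => by
      unfold nrm
      simp only [map_sub, Finset.sum_sub_distrib]
    have hsmul : ∀ (m : ℕ) a, nrm ρ K (m • a) = m • nrm ρ K a := fun m a => by
      unfold nrm
      simp only [map_nsmul, Finset.smul_sum]
    rw [hwdef, hsub, hsmul, nrm_of_fixed K (fun x hx => act_nrm K hx u), sub_self]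
  have h1 := hker w hw k hk
  rw [hwdef, map_sub, map_nsmul, act_nrm K hk, sub_left_inj] at h1
  apply sub_eq_zero.1
  apply h.nsmul_eq_zero hqn
  rw [smul_sub, h1, sub_self]

/-- semiregularity from central elements of order `p` -/
theorem Hyp.semiregular (h : Hyp ρ q p) (hc : ∀ x : G, orderOf x = p → x ∈ Subgroup.center G) :
    ∀ v : V, v ≠ 0 → ∀ g : G, ρ g v = v → g = 1 := by
  haveI := Fact.mk h.pp
  intro v hv g hg
  by_contra hg1
  obtain ⟨k, hk⟩ := h.grp g
  have hz : Subgroup.zpowers g ≠ ⊥ := by simpa using hg1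
  have : Nontrivial (Subgroup.zpowers g) := (Subgroup.nontrivial_iff_ne_bot _).2 hz
  obtain ⟨x, hx⟩ := exists_prime_orderOf_dvd_card' (G := Subgroup.zpowers g) p
    ((h.grp.to_subgroup _).card_eq_or_dvd.resolve_left Finite.one_lt_card.ne')
  have hxg : (x : G) ∈ St ρ v := (Subgroup.zpowers_le.2 (hg : g ∈ St ρ v)) x.2
  have hxo : orderOf (x : G) = p := by rw [Subgroup.orderOf_coe, hx]
  have hn : (Subgroup.zpowers (x : G)).Normal :=
    Subgroup.Normal.mk fun y hy a => by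
      have hy' : y ∈ Subgroup.center G := (Subgroup.zpowers_le.2 (hc _ hxo)) hy
      rwa [(Subgroup.mem_center_iff.1 hy' a), mul_inv_cancel_right]
  refine hv (h.fpf _ ?_ fun y hy => (Subgroup.zpowers_le.2 hxg) hy)
  intro h0
  rw [Subgroup.zpowers_eq_bot] at h0
  rw [h0, orderOf_one] at hxo
  exact h.pp.one_lt.ne hxo

lemma Hyp.half_card (h : Hyp ρ q p) {v w : V} (hv : v ≠ 0) (hw : w ≠ 0) :
    Nat.card {u : V | ∃ g : G, ρ g v = u} = Nat.card {u : V | ∃ g : G, ρ g w = u} := by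
  have h1 := orbit_card_mul ρ v
  rw [h.half v w hv hw, ← orbit_card_mul ρ w] at h1
  exact Nat.eq_of_mul_eq_mul_right Nat.card_pos h1

/-- the data of a normal elementary abelian subgroup of order `p²` -/
theorem Hyp.square (h : Hyp ρ q p) (E : Subgroup G) [E.Normal] (hEc : IsMulCommutative E)
    (hEp : ∀ e ∈ E, e ^ p = 1) (hEcard : Nat.card E = p ^ 2) :
    ∃ z b g₀ : G, z ∈ Subgroup.center G ∧ orderOf z = p ∧ b ^ p = 1 ∧
      b ∉ Subgroup.zpowers z ∧ g₀ * b * g₀⁻¹ ≠ b ∧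
      (∀ g : G, ∃ j : ℕ, g * b * g⁻¹ = b * z ^ j) ∧
      (∀ v : V, ρ z v = v → v = 0) ∧
      ∀ v : V, p • v = ∑ i ∈ Finset.range p, ∑ l ∈ Finset.range p, ρ ((b * z ^ i) ^ l) v := by
  haveI := Fact.mk h.pp
  have hp2 : 1 < p ^ 2 := Nat.one_lt_pow two_ne_zero h.pp.one_lt
  have hEne : E ≠ ⊥ := fun h0 => by rw [h0, Subgroup.card_bot] at hEcard; omega
  obtain ⟨z, hzE, hzZ, hz⟩ := H6.exists_mem_center_orderOf h.grp hEne
  have hZcard : Nat.card (Subgroup.zpowers z) = p := by rw [Nat.card_zpowers, hz]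
  obtain ⟨b, hbE, hb⟩ : ∃ b ∈ E, b ∉ Subgroup.zpowers z := by
    by_contra! hc
    have := Subgroup.card_le_of_le (show E ≤ Subgroup.zpowers z from hc)
    rw [hZcard, hEcard, pow_two] at this
    have h2 := h.pp.two_le
    nlinarith
  have hcomm : ∀ x ∈ E, ∀ y ∈ E, x * y = y * x := fun x hx y hy =>
    congrArg Subtype.val (hEc.is_comm.comm ⟨x, hx⟩ ⟨y, hy⟩)
  have hzn : (Subgroup.zpowers z).Normal := Subgroup.Normal.mk fun y hy a => by
    have hy' : y ∈ Subgroup.center G := (Subgroup.zpowers_le.2 hzZ) hy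
    rwa [(Subgroup.mem_center_iff.1 hy' a), mul_inv_cancel_right]
  have hfz : ∀ v : V, ρ z v = v → v = 0 := by
    intro v hv
    refine h.fpf (Subgroup.zpowers z) ?_ fun y hy => (mem_St ρ).1 ((Subgroup.zpowers_le.2 (show z ∈ St ρ v from hv)) hy)
    rw [Ne, Subgroup.zpowers_eq_bot]
    intro h0
    rw [h0, orderOf_one] at hz
    exact h.pp.one_lt.ne hz
  -- conjugation
  have hconj : ∀ g : G, ∃ j : ℕ, g * b * g⁻¹ = b * z ^ j := by
    intro g
    have hN : ((Subgroup.zpowers z).subgroupOf E).Normal := inferInstance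
    -- the image of `E` in `G ⧸ ⟨z⟩` has order `p`, hence is central
    set π := QuotientGroup.mk' (Subgroup.zpowers z)
    have hmapn : (E.map π).Normal := Subgroup.Normal.map inferInstance π (QuotientGroup.mk'_surjective _)
    have hmapc : Nat.card (E.map π) = p := by
      have hle : Subgroup.zpowers z ≤ E := Subgroup.zpowers_le.2 hzE
      have h1 : (E.map π).index = E.index := by
        rw [Subgroup.index_map, QuotientGroup.ker_mk', sup_eq_left.2 hle, (QuotientGroup.range_mk' _),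
          Subgroup.index_top, mul_one]
      have h2 := (E.map π).card_mul_index
      rw [h1, ← Subgroup.index_eq_card] at h2
      have h3 := (Subgroup.zpowers z).card_mul_index
      rw [hZcard, ← h2, ← E.card_mul_index, hEcard, ← mul_assoc, pow_two] at h3
      exact Nat.eq_of_mul_eq_mul_left h.pp.pos (Nat.eq_of_mul_eq_mul_right
        (Nat.pos_of_ne_zero E.index_ne_zero_of_finite) h3)
    have hcen := H6.le_center_of_card_eq_prime (h.grp.to_quotient _) hmapc (Subgroup.mem_map_of_mem π hbE)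
    have h4 : π (b⁻¹ * (g * b * g⁻¹)) = 1 := by
      rw [map_mul, map_inv, map_mul, map_mul, map_inv, Subgroup.mem_center_iff.1 hcen (π g),
        mul_inv_cancel_right, inv_mul_cancel]
    rw [← MonoidHom.mem_ker, QuotientGroup.ker_mk', ← mem_powers_iff_mem_zpowers,
      Submonoid.mem_powers_iff] at h4
    obtain ⟨j, hj⟩ := h4
    exact ⟨j, by rw [hj, mul_inv_cancel_left]⟩
  have hsum : ∀ v : V, p • v = ∑ i ∈ Finset.range p, ∑ l ∈ Finset.range p, ρ ((b * z ^ i) ^ l) v := by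
    intro v
    have hzero : ∀ l : ℕ, 0 < l → l < p → ∑ i ∈ Finset.range p, ρ ((b * z ^ i) ^ l) v
        = ρ (b ^ l) (∑ i ∈ Finset.range p, ρ ((z ^ l) ^ i) v) := by
      intro l _ _
      rw [map_sum]
      refine Finset.sum_congr rfl fun i _ => ?_
      rw [← act_mul, Commute.mul_pow (hcomm b hbE _ (pow_mem hzE i)), ← pow_mul, ← pow_mul, mul_comm i l]
    have hzero' : ∀ l : ℕ, 0 < l → l < p → ∑ i ∈ Finset.range p, ρ ((z ^ l) ^ i) v = 0 := by
      intro l hl0 hlp
      apply hfz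
      have hinv : ρ (z ^ l) (∑ i ∈ Finset.range p, ρ ((z ^ l) ^ i) v)
          = ∑ i ∈ Finset.range p, ρ ((z ^ l) ^ i) v := by
        rw [map_sum]
        have h1 := Finset.sum_range_succ (fun i => ρ ((z ^ l) ^ i) v) p
        have h2 := Finset.sum_range_succ' (fun i => ρ ((z ^ l) ^ i) v) p
        rw [h2] at h1
        have h3 : (z ^ l) ^ p = 1 := by rw [← pow_mul, mul_comm, pow_mul, ← hz, pow_orderOf_eq_one, one_pow]
        rw [h3, pow_zero] at h1
        simp only [← act_mul, ← pow_succ']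
        exact add_right_cancel h1
      obtain ⟨m, hm⟩ := exists_pow_eq_self_of_coprime (x := z) (n := l)
        (by rw [hz]; exact ((h.pp.coprime_iff_not_dvd).2 (Nat.not_dvd_of_pos_of_lt hl0 hlp)).symm)
      have hmem : z ∈ St ρ (∑ i ∈ Finset.range p, ρ ((z ^ l) ^ i) v) := by
        have := pow_mem (show z ^ l ∈ St ρ _ from hinv) m
        rwa [hm] at this
      exact hmem
    rw [Finset.sum_comm, Finset.sum_eq_single 0]
    · simp only [pow_zero, act_one, Finset.sum_const, Finset.card_range]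
    · intro l hl hl0
      rw [hzero l (Nat.pos_of_ne_zero hl0) (Finset.mem_range.1 hl),
        hzero' l (Nat.pos_of_ne_zero hl0) (Finset.mem_range.1 hl), map_zero]
    · intro h0
      exact absurd (Finset.mem_range.2 h.pp.pos) h0
  have hbp : b ^ p = 1 := hEp b hbE
  obtain ⟨g₀, hg₀⟩ : ∃ g₀ : G, g₀ * b * g₀⁻¹ ≠ b := by
    by_contra! hc
    have hbZ : b ∈ Subgroup.center G := Subgroup.mem_center_iff.2 fun g => by
      have := hc g
      rw [mul_inv_eq_iff_eq_mul] at this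
      exact this
    -- every line is then fixed point free
    have hline : ∀ i : ℕ, ∀ v : V, ρ (b * z ^ i) v = v → v = 0 := by
      intro i v hv
      have hyz : b * z ^ i ∈ Subgroup.center G := mul_mem hbZ (pow_mem hzZ i)
      haveI : (Subgroup.zpowers (b * z ^ i)).Normal := Subgroup.Normal.mk fun y hy a => by
        have hy' : y ∈ Subgroup.center G := (Subgroup.zpowers_le.2 hyz) hy
        rwa [(Subgroup.mem_center_iff.1 hy' a), mul_inv_cancel_right]
      refine h.fpf (Subgroup.zpowers (b * z ^ i)) ?_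
        fun y hy => (mem_St ρ).1 ((Subgroup.zpowers_le.2 (show b * z ^ i ∈ St ρ v from hv)) hy)
      rw [Ne, Subgroup.zpowers_eq_bot]
      intro h0
      apply hb
      rw [show b = (z ^ i)⁻¹ from eq_inv_of_mul_eq_one_left h0]
      exact inv_mem (Subgroup.npow_mem_zpowers z i)
    have hV : ∀ v : V, v = 0 := by
      intro v
      refine h.nsmul_eq_zero h.not_dvd_p ?_
      rw [hsum v]
      refine Finset.sum_eq_zero fun i _ => hline i _ ?_
      have hyp : (b * z ^ i) ^ p = 1 := hEp _ (mul_mem hbE (pow_mem hzE i))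
      rw [map_sum]
      have h1 := Finset.sum_range_succ (fun l => ρ ((b * z ^ i) ^ l) v) p
      rw [Finset.sum_range_succ' (fun l => ρ ((b * z ^ i) ^ l) v) p, hyp, pow_zero] at h1
      simp only [← act_mul, ← pow_succ']
      exact add_right_cancel h1
    have : z = 1 := h.inj (AddMonoidHom.ext fun v => by rw [hV v]; exact (map_zero _).trans (map_zero _).symm)
    rw [this, orderOf_one] at hz
    exact h.pp.one_lt.ne hz
  exact ⟨z, b, g₀, hzZ, hz, hbp, hb, hg₀, hconj, hfz, hsum⟩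

/-- for odd `p` there is no normal elementary abelian subgroup of order `p²` -/
theorem Hyp.odd_no_square (h : Hyp ρ q p) (hp2 : p ≠ 2) [Nontrivial V] (E : Subgroup G) [E.Normal]
    (hEc : IsMulCommutative E) (hEp : ∀ e ∈ E, e ^ p = 1) (hEcard : Nat.card E = p ^ 2) : False := by
  obtain ⟨z, b, g₀, hzZ, hz, hbp, hb, hg₀, hconj, hfz, hsum⟩ := h.square E hEc hEp hEcard
  haveI := Fact.mk h.pp
  have hzc : ∀ g : G, g * z = z * g := fun g => Subgroup.mem_center_iff.1 hzZ g
  have hgen : ∀ c : ℕ, ∀ x : V, ρ (z ^ c) x = x → z ^ c ≠ 1 → x = 0 := by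
    intro c x hx hne
    have hcop : c.Coprime (orderOf z) := by
      rw [hz]
      exact ((h.pp.coprime_iff_not_dvd).2 fun hd => hne (by
        rw [← orderOf_dvd_iff_pow_eq_one, hz]; exact hd)).symm
    obtain ⟨m, hm⟩ := exists_pow_eq_self_of_coprime hcop
    have hmem : z ∈ St ρ x := by
      have := pow_mem (show z ^ c ∈ St ρ x from hx) m
      rwa [hm] at this
    exact hfz x hmem
  -- projection to the fixed vectors of `b * z ^ i`
  let P : ℕ → V → V := fun i x => ∑ l ∈ Finset.range p, ρ ((b * z ^ i) ^ l) x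
  have hfixP : ∀ i x, ρ (b * z ^ i) x = x → P i x = p • x := by
    intro i x hx
    rw [show p • x = ∑ _l ∈ Finset.range p, x by rw [Finset.sum_const, Finset.card_range]]
    refine Finset.sum_congr rfl fun l _ => ?_
    exact pow_mem (show b * z ^ i ∈ St ρ x from hx) l
  have hpz : z ^ p = 1 := by rw [← hz]; exact pow_orderOf_eq_one z
  have hpbz : ∀ i, (b * z ^ i) ^ p = 1 := fun i => by
    rw [Commute.mul_pow (show Commute b (z ^ i) from Commute.pow_right (hzc b) i), hbp, ← pow_mul, mul_comm,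
      pow_mul, hpz, one_pow, one_mul]
  have hPfix : ∀ i x, ρ (b * z ^ i) (P i x) = P i x := by
    intro i x
    simp only [P, map_sum]
    have h1 := Finset.sum_range_succ (fun l => ρ ((b * z ^ i) ^ l) x) p
    rw [Finset.sum_range_succ' (fun l => ρ ((b * z ^ i) ^ l) x) p, hpbz, pow_zero] at h1
    simp only [← act_mul, ← pow_succ']
    exact add_right_cancel h1
  -- vanishing on other lines
  have hzeroP : ∀ i c x, ρ (b * z ^ i * z ^ c) x = x → z ^ c ≠ 1 → P i x = 0 := by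
    intro i c x hx hne
    refine hgen c _ ?_ hne
    have h1 : ρ (b * z ^ i * z ^ c) (P i x) = P i x := by
      simp only [P, map_sum]
      refine Finset.sum_congr rfl fun l _ => ?_
      rw [← act_mul]
      have hcm : b * z ^ i * z ^ c * (b * z ^ i) ^ l = (b * z ^ i) ^ l * (b * z ^ i * z ^ c) :=
        (((Commute.refl (b * z ^ i)).mul_left (Commute.pow_left (show Commute z (b * z ^ i) from (hzc _).symm) c)).pow_right l).eq
      rw [hcm, act_mul, hx]
    have h2 : z ^ c * (b * z ^ i) = b * z ^ i * z ^ c := ((Commute.pow_left (show Commute z (b * z ^ i) from (hzc _).symm) c)).eq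
    rw [← h2, act_mul, hPfix] at h1
    exact h1
  obtain ⟨j, hj⟩ := hconj g₀
  have hj1 : z ^ j ≠ 1 := fun h1 => hg₀ (by rw [hj, h1, mul_one])
  -- a nonzero fixed vector of `b`
  obtain ⟨v, hv0, hv⟩ : ∃ v : V, v ≠ 0 ∧ ρ b v = v := by
    by_contra! hc
    obtain ⟨x, hx⟩ := exists_ne (0 : V)
    apply hx
    refine h.nsmul_eq_zero h.not_dvd_p ?_
    rw [hsum x]
    refine Finset.sum_eq_zero fun i _ => ?_
    show P i x = 0
    have hP : ∀ y : V, ρ b y = y → y = 0 := fun y hy => by_contra fun hne => hc y hne hy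
    -- `b * z ^ i` is conjugate to `b`
    have hcop : j.Coprime (orderOf z) := by
      rw [hz]
      exact ((h.pp.coprime_iff_not_dvd).2 fun hd => hj1 (by
        rw [← orderOf_dvd_iff_pow_eq_one, hz]; exact hd)).symm
    obtain ⟨m, hm⟩ := exists_pow_eq_self_of_coprime hcop
    have hk : ∀ k : ℕ, g₀ ^ k * b * (g₀ ^ k)⁻¹ = b * z ^ (j * k) := by
      intro k
      induction k with
      | zero => simp
      | succ k ih =>
        have hzg : g₀ * z ^ (j * k) = z ^ (j * k) * g₀ := (Commute.pow_right (hzc g₀) (j * k)).eq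
        calc g₀ ^ (k + 1) * b * (g₀ ^ (k + 1))⁻¹ = g₀ * (g₀ ^ k * b * (g₀ ^ k)⁻¹) * g₀⁻¹ := by
              rw [pow_succ']; group
          _ = g₀ * b * (z ^ (j * k) * g₀⁻¹) := by rw [ih]; group
          _ = g₀ * b * (g₀⁻¹ * z ^ (j * k)) := by
              rw [((Commute.pow_right (hzc g₀) (j * k)).inv_left).eq]
          _ = b * z ^ j * z ^ (j * k) := by rw [← hj]; group
          _ = b * z ^ (j * (k + 1)) := by rw [mul_assoc, ← pow_add]; ring_nf
    have hki := hk (m * i)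
    rw [show j * (m * i) = j * m * i by ring, pow_mul z (j * m) i, pow_mul z j m, hm] at hki
    have h1 : ρ (g₀ ^ (m * i))⁻¹ (P i x) = 0 := by
      apply hP
      rw [← act_mul, show b * (g₀ ^ (m * i))⁻¹ = (g₀ ^ (m * i))⁻¹ * (g₀ ^ (m * i) * b * (g₀ ^ (m * i))⁻¹) by group,
        hki, act_mul, hPfix]
    have h2 := congrArg (ρ (g₀ ^ (m * i))) h1
    rwa [act_act_inv, map_zero] at h2
  set w := ρ g₀ v with hwdef
  have hw : ρ (b * z ^ j) w = w := by
    rw [hwdef, ← act_mul, ← hj, inv_mul_cancel_right, act_mul, hv]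
  have hw0 : w ≠ 0 := fun h0 => hv0 (by rw [← act_inv_act ρ g₀ v, ← hwdef, h0, map_zero])
  have hbw : ρ b w ≠ w := fun hbw => hw0 (hgen j w (by
    rw [act_mul] at hw
    have h1 : ρ b (ρ (z ^ j) w) = ρ b w := by rw [hw, hbw]
    have := congrArg (ρ b⁻¹) h1
    rwa [act_inv_act, act_inv_act] at this) hj1)
  have hv' : ρ (b * z ^ 0) v = v := by rw [pow_zero, mul_one, hv]
  have hPv : P 0 v = p • v := hfixP 0 v hv'
  have hPw : P j w = p • w := hfixP j w hw
  have hPw0 : P 0 w = 0 := hzeroP 0 j w (by rw [pow_zero, mul_one, hw]) hj1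
  have hjp : z ^ (j * (p - 1)) * z ^ j = 1 := by
    rw [← pow_add, ← Nat.mul_succ, Nat.succ_eq_add_one, Nat.sub_add_cancel h.pp.one_lt.le, mul_comm,
      pow_mul, hpz, one_pow]
  have hPvj : P j v = 0 := by
    refine hzeroP j (j * (p - 1)) v ?_ fun h1 => hj1 (by rwa [h1, one_mul] at hjp)
    rw [mul_assoc, ← pow_add, add_comm, pow_add, hjp, mul_one, hv]
  have hvw : v + w ≠ 0 := by
    intro he
    apply hv0
    refine h.nsmul_eq_zero h.not_dvd_p ?_
    have hP0 : P 0 (v + w) = P 0 v + P 0 w := by simp only [P, map_add, Finset.sum_add_distrib]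
    rw [hPv, hPw0, add_zero, he] at hP0
    rw [← hP0]
    simp [P]
  have hle : St ρ (v + w) ≤ St ρ v ⊓ St ρ w := by
    intro g hg
    rw [mem_St, map_add] at hg
    obtain ⟨a, ha⟩ := hconj g
    have hgv : ρ (b * z ^ a) (ρ g v) = ρ g v := by
      rw [← act_mul, ← ha, inv_mul_cancel_right, act_mul, hv]
    have hgw : ρ (b * z ^ (a + j)) (ρ g w) = ρ g w := by
      have e1 : b * z ^ (a + j) * g = g * (b * z ^ j) := by
        rw [pow_add, ← mul_assoc, ← ha, mul_assoc, ← (Commute.pow_right (hzc g) j).eq]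
        group
      rw [← act_mul, e1, act_mul, hw]
    have hadd : ∀ i x y, P i (x + y) = P i x + P i y := fun i x y => by
      simp only [P, map_add, Finset.sum_add_distrib]
    by_cases ha1 : z ^ a = 1
    · have hgv' : ρ (b * z ^ 0) (ρ g v) = ρ g v := by rw [pow_zero, ← ha1]; exact hgv
      have hgw' : P 0 (ρ g w) = 0 := hzeroP 0 j _ (by
        rw [pow_add, ha1, one_mul] at hgw
        rw [pow_zero, mul_one]; exact hgw) hj1
      have h1 := congrArg (P 0) hg
      rw [hadd, hadd, hfixP 0 _ hgv', hgw', hPv, hPw0, add_zero, add_zero] at h1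
      have h2 : ρ g v = v := by
        apply sub_eq_zero.1
        apply h.nsmul_eq_zero h.not_dvd_p
        rw [smul_sub, h1, sub_self]
      refine ⟨h2, ?_⟩
      rw [h2] at hg
      exact add_left_cancel hg
    · exfalso
      by_cases ha2 : z ^ (a + j) = 1
      · -- `gv` lies on the line `a`, which must be `j`
        have h1 := congrArg (P j) hg
        have hgw' : P j (ρ g w) = 0 := hzeroP j (j * (p - 1)) _ (by
          rw [ha2, mul_one] at hgw
          rw [mul_assoc, ← pow_add, add_comm, pow_add, hjp, mul_one]; exact hgw)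
          fun h1 => hj1 (by rwa [h1, one_mul] at hjp)
        rw [hadd, hadd, hgw', hPvj, hPw, add_zero, zero_add] at h1
        by_cases hsame : z ^ (a + j * (p - 1)) = 1
        · -- then `2 j ≡ 0`
          have e1 : z ^ a = z ^ j := by
            have := congrArg (· * z ^ j) hsame
            simp only [one_mul, pow_add, mul_assoc, hjp, mul_one] at this
            exact this
          rw [pow_add, e1, ← pow_add, ← two_mul, mul_comm, pow_mul] at ha2
          have h2 : orderOf (z ^ j) ∣ 2 := orderOf_dvd_of_pow_eq_one ha2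
          have h3 : orderOf (z ^ j) ∣ p := orderOf_dvd_of_pow_eq_one (by rw [← pow_mul, mul_comm, pow_mul, hpz, one_pow])
          rcases (Nat.dvd_prime h.pp).1 h3 with h4 | h4
          · exact hj1 (orderOf_eq_one_iff.1 h4)
          · rw [h4] at h2
            exact hp2 ((Nat.prime_dvd_prime_iff_eq h.pp Nat.prime_two).1 h2)
        · rw [hzeroP j (a + j * (p - 1)) (ρ g v) (by
            rw [mul_assoc, ← pow_add, show j + (a + j * (p - 1)) = a + (j * (p - 1) + j) by ring, pow_add,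
              pow_add z (j * (p - 1)), hjp, mul_one]; exact hgv) hsame] at h1
          exact hw0 (h.nsmul_eq_zero h.not_dvd_p h1.symm)
      · have h1 := congrArg (P 0) hg
        rw [hadd, hadd, hzeroP 0 a _ (by rw [pow_zero, mul_one]; exact hgv) ha1,
          hzeroP 0 (a + j) _ (by rw [pow_zero, mul_one]; exact hgw) ha2, hPv, hPw0, add_zero, add_zero] at h1
        exact hv0 (h.nsmul_eq_zero h.not_dvd_p h1.symm)
  have e1 : St ρ (v + w) = St ρ v :=
    Subgroup.eq_of_le_of_card_ge (hle.trans inf_le_left) (h.half _ _ hv0 hvw).le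
  exact hbw (hle (e1 ▸ (hv : b ∈ St ρ v))).2

/-- fixed and anti-fixed vectors of an element -/
def fixA (ρ : G →* AddMonoid.End V) (t : G) : AddSubgroup V where
  carrier := {x | ρ t x = x}
  add_mem' := fun {x y} (hx : ρ t x = x) (hy : ρ t y = y) => by
    show ρ t (x + y) = x + y
    rw [map_add, hx, hy]
  zero_mem' := map_zero _
  neg_mem' := fun {x} (hx : ρ t x = x) => by
    show ρ t (-x) = -x
    rw [map_neg, hx]

/-- anti-fixed vectors -/
def antiA (ρ : G →* AddMonoid.End V) (t : G) : AddSubgroup V where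
  carrier := {x | ρ t x = -x}
  add_mem' := fun {x y} (hx : ρ t x = -x) (hy : ρ t y = -y) => by
    show ρ t (x + y) = -(x + y)
    rw [map_add, hx, hy]; abel
  zero_mem' := by show ρ t 0 = -0; rw [neg_zero]; exact map_zero _
  neg_mem' := fun {x} (hx : ρ t x = -x) => by
    show ρ t (-x) = - -x
    rw [map_neg, hx]

lemma mem_fixA {t : G} {x : V} : x ∈ fixA ρ t ↔ ρ t x = x := Iff.rfl
lemma mem_antiA {t : G} {x : V} : x ∈ antiA ρ t ↔ ρ t x = -x := Iff.rfl

lemma Hyp.two_inj (h : Hyp ρ q 2) {x y : V} (hxy : x + x = y + y) : x = y := by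
  apply sub_eq_zero.1
  apply h.nsmul_eq_zero h.not_dvd_p
  rw [smul_sub, two_nsmul, two_nsmul, hxy, sub_self]

lemma Hyp.add_unique (h : Hyp ρ q 2) {t : G} {a a' c c' : V} (ha : a ∈ fixA ρ t) (ha' : a' ∈ fixA ρ t)
    (hc : c ∈ antiA ρ t) (hc' : c' ∈ antiA ρ t) (he : a + c = a' + c') : a = a' ∧ c = c' := by
  have h1 := congrArg (ρ t) he
  rw [map_add, map_add, mem_fixA.1 ha, mem_fixA.1 ha', mem_antiA.1 hc, mem_antiA.1 hc'] at h1
  have h2 : a = a' := h.two_inj (by
    calc a + a = (a + c) + (a + -c) := by abel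
      _ = (a' + c') + (a' + -c') := by rw [he, h1]
      _ = a' + a' := by abel)
  rw [h2] at he
  exact ⟨h2, add_left_cancel he⟩

lemma Hyp.card_split (h : Hyp ρ q 2) {t : G} (ht : t * t = 1) :
    Nat.card V = Nat.card (fixA ρ t) * Nat.card (antiA ρ t) := by
  rw [← Nat.card_prod]
  refine (Nat.card_eq_of_bijective (fun x : fixA ρ t × antiA ρ t => (x.1 : V) + (x.2 : V)) ⟨?_, ?_⟩).symm
  · intro x y he
    obtain ⟨h1, h2⟩ := h.add_unique x.1.2 y.1.2 x.2.2 y.2.2 he
    exact Prod.ext (Subtype.ext h1) (Subtype.ext h2)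
  · intro x
    obtain ⟨r, hr⟩ := h.qp.odd_of_ne_two h.ne
    have htt : ρ t (ρ t x) = x := by rw [← act_mul, ht, act_one]
    refine ⟨⟨⟨(r + 1) • (x + ρ t x), ?_⟩, ⟨(r + 1) • (x - ρ t x), ?_⟩⟩, ?_⟩
    · rw [mem_fixA, map_nsmul, map_add, htt, add_comm (ρ t x) x]
    · rw [mem_antiA, map_nsmul, map_sub, htt, ← smul_neg, neg_sub]
    · show (r + 1) • (x + ρ t x) + (r + 1) • (x - ρ t x) = x
      rw [← smul_add, add_add_sub_cancel, ← two_nsmul, ← mul_smul,
        show (r + 1) * 2 = q + 1 by omega, add_smul, h.tor, zero_add, one_smul]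

lemma Hyp.exists_card_pow (h : Hyp ρ q p) (W : AddSubgroup V) : ∃ d, Nat.card W = q ^ d := by
  refine ⟨_, Nat.eq_prime_pow_of_unique_prime_dvd Nat.card_pos.ne' fun {r} hr hd => ?_⟩
  haveI := Fact.mk hr
  obtain ⟨x, hx⟩ := exists_prime_addOrderOf_dvd_card' (G := W) r hd
  have h1 : addOrderOf x ∣ q := addOrderOf_dvd_of_nsmul_eq_zero (Subtype.ext (h.tor x))
  rw [hx] at h1
  exact (Nat.prime_dvd_prime_iff_eq hr h.qp).1 h1

lemma odd_geom {q e : ℕ} (hq : q % 2 = 1) : (∑ i ∈ Finset.range e, q ^ i) % 2 = e % 2 := by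
  rw [Finset.sum_nat_mod, Finset.sum_congr rfl (fun i _ => by rw [Nat.pow_mod, hq, one_pow])]
  simp

theorem pow_sub_one_two_pow {q d k : ℕ} (hq : q % 2 = 1) (hq3 : 3 ≤ q) (hqp : q.Prime)
    (h : q ^ d = 2 ^ k + 1) : d = 1 ∨ q ^ d = 9 := by
  rcases Nat.even_or_odd' d with ⟨e, rfl | rfl⟩
  · right
    rw [mul_comm, pow_mul] at h
    have hsq : (q ^ e - 1) * (q ^ e + 1) = 2 ^ k := by
      rw [mul_comm, ← Nat.sq_sub_sq, one_pow, h, Nat.add_sub_cancel]
    obtain ⟨a, -, ha⟩ := (Nat.dvd_prime_pow Nat.prime_two).1 (Dvd.intro _ hsq : q ^ e - 1 ∣ 2 ^ k)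
    obtain ⟨c, -, hc⟩ := (Nat.dvd_prime_pow Nat.prime_two).1 (Dvd.intro_left _ hsq : q ^ e + 1 ∣ 2 ^ k)
    have he : q ^ e = 3 := by
      have hpos : 1 ≤ q ^ e := Nat.one_le_pow _ _ (by omega)
      rcases a with _ | _ | a
      · exfalso
        have h2 : q ^ e = 2 := by omega
        have : q ^ e % 2 = 1 := by simp [Nat.pow_mod, hq]
        omega
      · omega
      · exfalso
        rcases c with _ | _ | c
        · simp only [pow_zero] at hc; omega
        · simp only [zero_add, pow_one] at hc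
          rw [show a + 1 + 1 = a + 2 from rfl, pow_add] at ha
          have := Nat.one_le_two_pow (n := a)
          omega
        · rw [show a + 1 + 1 = a + 2 from rfl, pow_add] at ha
          rw [show c + 1 + 1 = c + 2 from rfl, pow_add] at hc
          omega
    rw [mul_comm, pow_mul, he]
    norm_num
  · left
    have hg := geom_sum_mul_add (q - 1) (2 * e + 1)
    rw [Nat.sub_add_cancel (by omega : 1 ≤ q)] at hg
    have hdvd : (∑ i ∈ Finset.range (2 * e + 1), q ^ i) ∣ 2 ^ k := ⟨q - 1, by omega⟩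
    obtain ⟨a, -, ha⟩ := (Nat.dvd_prime_pow Nat.prime_two).1 hdvd
    have hodd := odd_geom (e := 2 * e + 1) hq
    rw [ha] at hodd
    rcases a with _ | a
    · rcases Nat.eq_zero_or_pos e with rfl | he
      · rfl
      · have h1 : q ^ 1 ≤ ∑ i ∈ Finset.range (2 * e + 1), q ^ i :=
          Finset.single_le_sum (f := fun i => q ^ i) (fun _ _ => Nat.zero_le _) (Finset.mem_range.2 (by omega))
        rw [ha, pow_one] at h1
        simp at h1
        omega
    · rw [pow_succ] at hodd; omega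

theorem pow_add_one_two_pow {q d k : ℕ} (hq : q % 2 = 1) (hq3 : 3 ≤ q)
    (h : q ^ d + 1 = 2 ^ k) : d = 1 ∨ d = 0 := by
  rcases Nat.even_or_odd' d with ⟨e, rfl | rfl⟩
  · right
    by_contra hd
    have h1 : q ^ (2 * e) % 4 = 1 := by
      rw [pow_mul, Nat.pow_mod]
      have : q ^ 2 % 4 = 1 := by
        rw [Nat.pow_mod]
        rcases (show q % 4 = 1 ∨ q % 4 = 3 by omega) with h | h <;> rw [h] <;> rfl
      simp [this]
    have h2 : 1 < q ^ (2 * e) := Nat.one_lt_pow hd (by omega)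
    rcases k with _ | _ | k
    · simp at h; omega
    · simp at h; omega
    · rw [show k + 1 + 1 = k + 2 from rfl, pow_add] at h
      omega
  · left
    have hg : ((q : ℤ) + 1) ∣ (q : ℤ) ^ (2 * e + 1) + 1 := by
      have := (odd_two_mul_add_one e).add_dvd_pow_add_pow (q : ℤ) 1
      simpa using this
    have hd1 : q + 1 ∣ 2 ^ k := by rw [← h]; exact_mod_cast hg
    obtain ⟨c, hc⟩ := hg
    have hs : (∑ i ∈ Finset.range (2 * e + 1), (-(q : ℤ)) ^ i) * (-(q : ℤ) - 1) = (-(q : ℤ)) ^ (2 * e + 1) - 1 :=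
      geom_sum_mul _ _
    have hceq : c = ∑ i ∈ Finset.range (2 * e + 1), (-(q : ℤ)) ^ i := by
      rw [Odd.neg_pow (odd_two_mul_add_one e)] at hs
      have h4 : ((q : ℤ) + 1) * c = ((q : ℤ) + 1) * ∑ i ∈ Finset.range (2 * e + 1), (-(q : ℤ)) ^ i := by
        rw [← hc]; linear_combination hs
      exact mul_left_cancel₀ (by positivity) h4
    have hcodd : (c : ZMod 2) = 1 := by
      rw [hceq]
      push_cast
      have : ((q : ℕ) : ZMod 2) = 1 := by
        rw [← Nat.cast_one, ZMod.natCast_eq_natCast_iff']; omega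
      simp only [this, show (-1 : ZMod 2) = 1 by decide, one_pow, Finset.sum_const, Finset.card_range,
        nsmul_eq_mul, mul_one]
      simp [Nat.cast_add, Nat.cast_mul, show (2 : ZMod 2) = 0 by decide]
    have hcpos : 0 ≤ c := by
      by_contra hneg
      push Not at hneg
      have : (0 : ℤ) < (q : ℤ) ^ (2 * e + 1) + 1 := by positivity
      rw [hc] at this
      nlinarith
    obtain ⟨c', rfl⟩ := Int.eq_ofNat_of_zero_le hcpos
    have hc2 : (q + 1) * c' = 2 ^ k := by rw [← h]; exact_mod_cast hc.symm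
    obtain ⟨a, -, ha⟩ := (Nat.dvd_prime_pow Nat.prime_two).1 (Dvd.intro_left _ hc2 : c' ∣ 2 ^ k)
    rcases a with _ | a
    · rw [ha, pow_zero, mul_one] at hc2
      have h3 : q ^ (2 * e + 1) = q ^ 1 := by rw [pow_one]; omega
      exact Nat.pow_right_injective (by omega) h3
    · exfalso
      rw [ha] at hcodd
      push_cast at hcodd
      simp [pow_succ, show (2 : ZMod 2) = 0 by decide] at hcodd

/-- the case of a normal four-group -/
theorem Hyp.two_square (h : Hyp ρ q 2) [Nontrivial V] (E : Subgroup G) [E.Normal]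
    (hEc : IsMulCommutative E) (hEp : ∀ e ∈ E, e ^ 2 = 1) (hEcard : Nat.card E = 2 ^ 2) :
    ∃ b : G, ∃ k Q : ℕ, b * b = 1 ∧ Nat.card (fixA ρ b) = Q ∧ Nat.card (antiA ρ b) = Q ∧
      Nat.card V = Q * Q ∧ Q = 2 ^ k + 1 ∧
      (∀ v ∈ fixA ρ b, ∀ w ∈ antiA ρ b, v ≠ 0 → w ≠ 0 → ∃ g : G, ρ g v = w ∧ ρ g w = v) ∧
      (∀ g : G, ∀ v ∈ fixA ρ b, ρ g v ∈ fixA ρ b ∨ ρ g v ∈ antiA ρ b) ∧
      (∀ v ∈ fixA ρ b, ∀ w ∈ antiA ρ b, v ≠ 0 → w ≠ 0 → Nat.card (St ρ v) ≤
        2 * Nat.card (St ρ v ⊓ St ρ w : Subgroup G)) := by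
  obtain ⟨z, b, g₀, hzZ, hz, hbp, hb, hg₀, hconj, hfz, hsum⟩ := h.square E hEc hEp hEcard
  have hzz : z * z = 1 := by rw [← pow_two, ← hz, pow_orderOf_eq_one]
  have hbb : b * b = 1 := by rw [← pow_two, hbp]
  have hzneg : ∀ x : V, ρ z x = -x := by
    intro x
    refine eq_neg_of_add_eq_zero_left (hfz _ ?_)
    rw [map_add, ← act_mul, hzz, act_one, add_comm]
  have hzpow : ∀ j : ℕ, z ^ j = 1 ∨ z ^ j = z := fun j => by
    rcases Nat.even_or_odd' j with ⟨e, rfl | rfl⟩
    · left; rw [pow_mul, pow_two, hzz, one_pow]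
    · right; rw [pow_succ, pow_mul, pow_two, hzz, one_pow, one_mul]
  have hcj : ∀ g : G, g * b = b * g ∨ g * b = b * z * g := by
    intro g
    obtain ⟨j, hj⟩ := hconj g
    rw [mul_inv_eq_iff_eq_mul] at hj
    rcases hzpow j with e | e
    · left; rw [hj, e, mul_one]
    · right; rw [hj, e]
  -- elements not commuting with `b` swap the two spaces
  have hswap : ∀ g : G, g * b = b * z * g → ∀ x : V,
      (x ∈ fixA ρ b → ρ g x ∈ antiA ρ b) ∧ (x ∈ antiA ρ b → ρ g x ∈ fixA ρ b) := by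
    intro g hg x
    have h1 : ρ g (ρ b x) = -(ρ b (ρ g x)) := by
      rw [← act_mul, hg, act_mul, act_mul, hzneg, map_neg]
    constructor
    · intro hx
      rw [mem_antiA]
      rw [mem_fixA.1 hx] at h1
      rw [eq_comm, neg_eq_iff_eq_neg] at h1
      exact h1
    · intro hx
      rw [mem_fixA]
      rw [mem_antiA.1 hx, map_neg, neg_inj] at h1
      exact h1.symm
  have hkeep : ∀ g : G, g * b = b * g → ∀ x : V,
      (x ∈ fixA ρ b → ρ g x ∈ fixA ρ b) ∧ (x ∈ antiA ρ b → ρ g x ∈ antiA ρ b) := by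
    intro g hg x
    have h1 : ρ g (ρ b x) = ρ b (ρ g x) := by rw [← act_mul, hg, act_mul]
    constructor
    · intro hx
      rw [mem_fixA.1 hx] at h1
      exact h1.symm
    · intro hx
      rw [mem_antiA.1 hx, map_neg] at h1
      exact h1.symm
  have hg₀' : g₀ * b = b * z * g₀ := (hcj g₀).resolve_left fun e => hg₀ (by rw [e, mul_inv_cancel_right])
  have hanti0 : ∀ x ∈ fixA ρ b, x ∈ antiA ρ b → x = 0 := by
    intro x hx hx'
    apply h.nsmul_eq_zero h.not_dvd_p
    rw [two_nsmul]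
    nth_rw 1 [← mem_fixA.1 hx]
    rw [mem_antiA.1 hx', neg_add_cancel]
  have hexists : ∀ v ∈ fixA ρ b, ∀ w ∈ antiA ρ b, v ≠ 0 → w ≠ 0 →
      (∀ g ∈ St ρ (v + w), g * b = b * g → g ∈ St ρ v ⊓ St ρ w) ∧
      ∃ g : G, ρ g v = w ∧ ρ g w = v := by
    intro v hv w hw hv0 hw0
    have hvw : v + w ≠ 0 := fun he => hv0 (h.add_unique hv (zero_mem _) hw (zero_mem _) (by rw [he, add_zero])).1
    have hC : ∀ g ∈ St ρ (v + w), g * b = b * g → g ∈ St ρ v ⊓ St ρ w := by
      intro g hg hgb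
      rw [mem_St, map_add] at hg
      exact h.add_unique ((hkeep g hgb v).1 hv) hv ((hkeep g hgb w).2 hw) hw hg
    refine ⟨hC, ?_⟩
    by_cases hall : ∀ g ∈ St ρ (v + w), g * b = b * g
    · exfalso
      have hle : St ρ (v + w) ≤ St ρ v ⊓ St ρ w := fun g hg => hC g hg (hall g hg)
      have e1 : St ρ (v + w) = St ρ v :=
        Subgroup.eq_of_le_of_card_ge (hle.trans inf_le_left) (h.half _ _ hv0 hvw).le
      exact hw0 (hanti0 w (hle (e1 ▸ (mem_fixA.1 hv : b ∈ St ρ v))).2 hw)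
    · push Not at hall
      obtain ⟨g, hg, hgb⟩ := hall
      have hgb' := (hcj g).resolve_left hgb
      rw [mem_St, map_add, add_comm] at hg
      obtain ⟨h1, h2⟩ := h.add_unique ((hswap g hgb' w).2 hw) hv ((hswap g hgb' v).1 hv) hw hg
      exact ⟨g, h2, h1⟩
  -- sizes
  obtain ⟨v₀, hv₀, hv₀0⟩ : ∃ v ∈ fixA ρ b, v ≠ 0 := by
    obtain ⟨x, hx⟩ := exists_ne (0 : V)
    by_contra! hc
    apply hx
    have h1 : x + ρ b x = 0 := hc _ (by rw [mem_fixA, map_add, ← act_mul, hbb, act_one, add_comm])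
    have h2 : ρ b x = -x := eq_neg_of_add_eq_zero_right h1
    have h3 : ρ g₀ x = 0 := hc _ ((hswap g₀ hg₀' x).2 h2)
    rw [← act_inv_act ρ g₀ x, h3, map_zero]
  set w₀ := ρ g₀ v₀ with hw₀def
  have hw₀ : w₀ ∈ antiA ρ b := (hswap g₀ hg₀' v₀).1 hv₀
  have hw₀0 : w₀ ≠ 0 := fun e => hv₀0 (by rw [← act_inv_act ρ g₀ v₀, ← hw₀def, e, map_zero])
  have hinv : g₀⁻¹ * b = b * z * g₀⁻¹ := by
    refine (hcj g₀⁻¹).resolve_left fun e => hg₀ ?_
    calc g₀ * b * g₀⁻¹ = g₀ * (b * g₀⁻¹) := mul_assoc _ _ _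
      _ = g₀ * (g₀⁻¹ * b) := by rw [e]
      _ = b := mul_inv_cancel_left _ _
  have hQeq : Nat.card (fixA ρ b) = Nat.card (antiA ρ b) :=
    Nat.card_congr
      { toFun := fun x => ⟨ρ g₀ x, (hswap g₀ hg₀' x).1 x.2⟩
        invFun := fun x => ⟨ρ g₀⁻¹ x, (hswap g₀⁻¹ hinv x).2 x.2⟩
        left_inv := fun x => Subtype.ext (act_inv_act ρ g₀ x)
        right_inv := fun x => Subtype.ext (act_act_inv ρ g₀ x) }
  -- the orbit of `v₀`
  have horb : {u : V | ∃ g : G, ρ g v₀ = u} =
      ((fixA ρ b : Set V) \ {0}) ∪ ((antiA ρ b : Set V) \ {0}) := by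
    ext u
    constructor
    · rintro ⟨g, rfl⟩
      have hu0 : ρ g v₀ ≠ 0 := fun e => hv₀0 (by rw [← act_inv_act ρ g v₀, e, map_zero])
      rcases hcj g with e | e
      · exact Or.inl ⟨(hkeep g e v₀).1 hv₀, hu0⟩
      · exact Or.inr ⟨(hswap g e v₀).1 hv₀, hu0⟩
    · rintro (⟨hu, hu0⟩ | ⟨hu, hu0⟩)
      · obtain ⟨g₁, h1, -⟩ := (hexists v₀ hv₀ w₀ hw₀ hv₀0 hw₀0).2
        obtain ⟨g₂, -, h2⟩ := (hexists u hu w₀ hw₀ hu0 hw₀0).2
        exact ⟨g₂ * g₁, by rw [act_mul, h1, h2]⟩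
      · obtain ⟨g₁, h1, -⟩ := (hexists v₀ hv₀ u hu hv₀0 hu0).2
        exact ⟨g₁, h1⟩
  have hdis : Disjoint ((fixA ρ b : Set V) \ {0}) ((antiA ρ b : Set V) \ {0}) :=
    Set.disjoint_left.2 fun u hu hu' => hu.2 (hanti0 u hu.1 hu'.1)
  have hcard : Nat.card {u : V | ∃ g : G, ρ g v₀ = u} = 2 * (Nat.card (fixA ρ b) - 1) := by
    rw [horb, Nat.card_coe_set_eq, Set.ncard_union_eq hdis (Set.toFinite _) (Set.toFinite _),
      Set.ncard_sdiff_singleton_of_mem (zero_mem (fixA ρ b) : (0 : V) ∈ (fixA ρ b : Set V)),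
      Set.ncard_sdiff_singleton_of_mem (zero_mem (antiA ρ b) : (0 : V) ∈ (antiA ρ b : Set V)),
      ← Nat.card_coe_set_eq, ← Nat.card_coe_set_eq]
    show Nat.card (fixA ρ b) - 1 + (Nat.card (antiA ρ b) - 1) = _
    rw [← hQeq, two_mul]
  haveI : Fact (Nat.Prime 2) := ⟨Nat.prime_two⟩
  obtain ⟨a, ha⟩ := IsPGroup.iff_card.1 h.grp
  have hdvd : Nat.card (fixA ρ b) - 1 ∣ 2 ^ a :=
    ⟨2 * Nat.card (St ρ v₀), by rw [← ha, ← orbit_card_mul ρ v₀, hcard]; ring⟩
  obtain ⟨k, -, hk⟩ := (Nat.dvd_prime_pow Nat.prime_two).1 hdvd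
  refine ⟨b, k, Nat.card (fixA ρ b), hbb, rfl, hQeq.symm, ?_, ?_,
    fun v hv w hw hv0 hw0 => (hexists v hv w hw hv0 hw0).2, fun g v hv => ?_, fun v hv w hw hv0 hw0 => ?_⟩
  · rw [h.card_split hbb, ← hQeq]
  · have := Nat.card_pos (α := fixA ρ b)
    omega
  · rcases hcj g with e | e
    · exact Or.inl ((hkeep g e v).1 hv)
    · exact Or.inr ((hswap g e v).1 hv)
  · have hvw : v + w ≠ 0 := fun he => hv0 (h.add_unique hv (zero_mem _) hw (zero_mem _) (by rw [he, add_zero])).1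
    rw [h.half v (v + w) hv0 hvw]
    set H := St ρ (v + w)
    set K := St ρ v ⊓ St ρ w
    obtain ⟨gs, hgs1, hgs2⟩ := (hexists v hv w hw hv0 hw0).2
    classical
    -- `H` is covered by two cosets of `K`
    refine le_trans (Nat.card_le_card_of_injective (fun x : H =>
      if hx : (x : G) * b = b * x then ((0 : Fin 2), (⟨x, (hexists v hv w hw hv0 hw0).1 x x.2 hx⟩ : K))
      else ((1 : Fin 2), (⟨gs⁻¹ * x, ?_⟩ : K))) ?_) (by rw [Nat.card_prod, Nat.card_fin])
    · have hx' := (hcj (x : G)).resolve_left hx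
      have h1 : ρ (x : G) (v + w) = v + w := x.2
      rw [map_add, add_comm] at h1
      obtain ⟨e1, e2⟩ := h.add_unique ((hswap _ hx' w).2 hw) hv ((hswap _ hx' v).1 hv) hw h1
      refine ⟨?_, ?_⟩
      · show ρ (gs⁻¹ * x) v = v
        rw [act_mul, e2, ← hgs1, act_inv_act]
      · show ρ (gs⁻¹ * x) w = w
        rw [act_mul, e1, ← hgs2, act_inv_act]
    · intro x y hxy
      simp only at hxy
      split_ifs at hxy with hx hy hy
      · exact Subtype.ext (congrArg (fun t : Fin 2 × K => (t.2 : G)) hxy)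
      · exact absurd (congrArg Prod.fst hxy) (by simp)
      · exact absurd (congrArg Prod.fst hxy) (by simp)
      · exact Subtype.ext (mul_left_cancel (congrArg (fun t : Fin 2 × K => (t.2 : G)) hxy))

/-- dihedral-like groups: the count -/
theorem Hyp.inv_cyclic (h : Hyp ρ q 2) [Nontrivial V] {m e r : ℕ} (u t : G) (he : e + 2 ≤ m)
    (he1 : e ≤ 1) (hu : orderOf u = 2 ^ m) (hidx : (Subgroup.zpowers u).index = 2)
    (ht : t ∉ Subgroup.zpowers u) (htt : t * t = 1) (hconj : t * u * t⁻¹ = u ^ r)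
    (hr : r + 1 = 2 ^ (m - e)) :
    Nat.card V = q ^ 2 ∧ q + 1 = 2 ^ (m - e) := by
  classical
  set U := Subgroup.zpowers u with hU
  haveI : U.Normal := Subgroup.normal_of_index_eq_two hidx
  set z := u ^ 2 ^ (m - 1) with hzdef
  have hm : 2 ^ m = 2 * 2 ^ (m - 1) := by rw [← pow_succ']; congr 1; omega
  have hz : orderOf z = 2 := by
    rw [hzdef, orderOf_pow' u (pow_ne_zero _ two_ne_zero), hu, Nat.gcd_eq_right (pow_dvd_pow 2 (by omega)),
      Nat.pow_div (by omega) two_pos, show m - (m - 1) = 1 by omega, pow_one]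
  have hU2 : ∀ g ∈ U, g ^ 2 = 1 → g = 1 ∨ g = z := by
    intro g hg hg2
    rw [hU, ← mem_powers_iff_mem_zpowers, Submonoid.mem_powers_iff] at hg
    obtain ⟨i, rfl⟩ := hg
    rw [← pow_mul, ← orderOf_dvd_iff_pow_eq_one, hu, hm, mul_comm i] at hg2
    obtain ⟨c, rfl⟩ := (Nat.mul_dvd_mul_iff_left two_pos).1 hg2
    rw [pow_mul, ← hzdef]
    rcases Nat.even_or_odd' c with ⟨d, rfl | rfl⟩
    · left; rw [pow_mul, ← hz, pow_orderOf_eq_one, one_pow]
    · right; rw [pow_succ, pow_mul, ← hz, pow_orderOf_eq_one, one_pow, one_mul]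
  have hzne : z ≠ 1 := fun e1 => by rw [e1, orderOf_one] at hz; omega
  have hzU : z ∈ U := pow_mem (Subgroup.mem_zpowers u) _
  have hzc : ∀ g : G, g * z = z * g := by
    intro g
    have h1 : g * z * g⁻¹ ∈ U := Subgroup.Normal.conj_mem inferInstance z hzU g
    rcases hU2 _ h1 (by rw [conj_pow, ← hz, pow_orderOf_eq_one, mul_one, mul_inv_cancel]) with e1 | e1
    · exact absurd (by rwa [mul_inv_eq_one, mul_eq_left] at e1) hzne
    · rw [mul_inv_eq_iff_eq_mul] at e1; exact e1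
  have hfz : ∀ v : V, ρ z v = v → v = 0 := by
    intro v hv
    haveI : (Subgroup.zpowers z).Normal := Subgroup.Normal.mk fun y hy g => by
      have hy' : y ∈ Subgroup.center G :=
        (Subgroup.zpowers_le.2 (Subgroup.mem_center_iff.2 hzc)) hy
      rwa [(Subgroup.mem_center_iff.1 hy' g), mul_inv_cancel_right]
    refine h.fpf (Subgroup.zpowers z) (by rwa [Ne, Subgroup.zpowers_eq_bot]) fun y hy => ?_
    exact (mem_St ρ).1 ((Subgroup.zpowers_le.2 (show z ∈ St ρ v from hv)) hy)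
  have hzz : z * z = 1 := by rw [← pow_two, ← hz, pow_orderOf_eq_one]
  have hzneg : ∀ x : V, ρ z x = -x := by
    intro x
    refine eq_neg_of_add_eq_zero_left (hfz _ ?_)
    rw [map_add, ← act_mul, hzz, act_one, add_comm]
  have hsmall : ∀ v : V, v ≠ 0 → ∀ g ∈ St ρ v, g ∈ U → g = 1 := by
    intro v hv0 g hg hgU
    by_contra hg1
    haveI : Fact (Nat.Prime 2) := ⟨Nat.prime_two⟩
    haveI : Nontrivial (Subgroup.zpowers g) :=
      (Subgroup.nontrivial_iff_ne_bot _).2 (by rwa [Ne, Subgroup.zpowers_eq_bot])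
    obtain ⟨x, hx⟩ := exists_prime_orderOf_dvd_card' (G := Subgroup.zpowers g) 2
      ((h.grp.to_subgroup _).card_eq_or_dvd.resolve_left Finite.one_lt_card.ne')
    rw [← Subgroup.orderOf_coe] at hx
    rcases hU2 _ ((Subgroup.zpowers_le.2 hgU) x.2) (by rw [← hx, pow_orderOf_eq_one]) with e1 | e1
    · rw [e1, orderOf_one] at hx; omega
    · have hzs : z ∈ St ρ v := e1 ▸ (Subgroup.zpowers_le.2 hg) x.2
      exact hv0 (hfz v hzs)
  -- the involutions outside `U`
  let T : Set G := {g | g ∉ U ∧ g * g = 1}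
  have hsq : ∀ i : ℕ, (u ^ i * t) * (u ^ i * t) = u ^ (i * (r + 1)) := by
    intro i
    calc u ^ i * t * (u ^ i * t) = u ^ i * (t * u ^ i * t⁻¹) * (t * t) := by group
      _ = u ^ i * (t * u * t⁻¹) ^ i := by rw [htt, mul_one, conj_pow]
      _ = _ := by rw [hconj, ← pow_mul, ← pow_add]; ring_nf
  have hTcard : Nat.card T = 2 ^ (m - e) := by
    let φ : Fin (2 ^ (m - e)) → T := fun j => ⟨u ^ (2 ^ e * (j : ℕ)) * t, fun hc =>
      ht ((Subgroup.mul_mem_cancel_left U (pow_mem (Subgroup.mem_zpowers u) _)).1 hc), by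
      rw [hsq, hr, mul_assoc, mul_comm (j : ℕ), ← mul_assoc, ← pow_add,
        show e + (m - e) = m by omega, pow_mul, ← hu, pow_orderOf_eq_one, one_pow]⟩
    refine ((Nat.card_eq_of_bijective φ ⟨?_, ?_⟩).symm.trans (Nat.card_fin _))
    · intro i j hij
      have h1 : u ^ (2 ^ e * (i : ℕ)) = u ^ (2 ^ e * (j : ℕ)) := mul_right_cancel (congrArg Subtype.val hij)
      have hpe : (2 : ℕ) ^ e * 2 ^ (m - e) = 2 ^ m := by rw [← pow_add]; congr 1; omega
      rw [pow_inj_mod, hu, ← hpe, Nat.mul_mod_mul_left, Nat.mul_mod_mul_left,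
        Nat.mod_eq_of_lt i.isLt, Nat.mod_eq_of_lt j.isLt] at h1
      exact Fin.ext (Nat.eq_of_mul_eq_mul_left (pow_pos two_pos e) h1)
    · rintro ⟨g, hgU, hgg⟩
      have h1 : g * t⁻¹ ∈ U := by
        have := (Subgroup.mul_mem_iff_of_index_two hidx (a := g) (b := t⁻¹))
        rw [this]
        exact iff_of_false hgU (fun hc => ht (inv_mem_iff.1 hc))
      rw [hU, ← mem_powers_iff_mem_zpowers, Submonoid.mem_powers_iff] at h1
      obtain ⟨i, hi⟩ := h1
      have hg : g = u ^ i * t := by rw [hi, inv_mul_cancel_right]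
      subst hg
      rw [hsq, ← orderOf_dvd_iff_pow_eq_one, hu, hr,
        show 2 ^ m = 2 ^ e * 2 ^ (m - e) by rw [← pow_add]; congr 1; omega] at hgg
      obtain ⟨c, rfl⟩ := (Nat.mul_dvd_mul_iff_right (pow_pos two_pos _)).1 hgg
      refine ⟨⟨c % 2 ^ (m - e), Nat.mod_lt _ (pow_pos two_pos _)⟩, Subtype.ext ?_⟩
      show u ^ (2 ^ e * (c % 2 ^ (m - e))) * t = u ^ (2 ^ e * c) * t
      congr 1
      rw [pow_inj_mod, hu, ← Nat.mul_mod_mul_left, ← pow_add, show e + (m - e) = m by omega, Nat.mod_mod]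
  -- `x` and `x * z` are conjugate
  have hconjz : ∀ x : G, x ∈ T → ∃ y : G, y * x * y⁻¹ = z * x := by
    intro x hx
    refine ⟨u ^ 2 ^ (m - 2), ?_⟩
    have hxu : x * u * x⁻¹ = u ^ r := by
      have h1 : x * t⁻¹ ∈ U := by
        rw [Subgroup.mul_mem_iff_of_index_two hidx]
        exact iff_of_false hx.1 (fun hc => ht (inv_mem_iff.1 hc))
      rw [hU, ← mem_powers_iff_mem_zpowers, Submonoid.mem_powers_iff] at h1
      obtain ⟨i, hi⟩ := h1
      rw [show x = u ^ i * t by rw [hi, inv_mul_cancel_right]]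
      calc u ^ i * t * u * (u ^ i * t)⁻¹ = u ^ i * (t * u * t⁻¹) * (u ^ i)⁻¹ := by group
        _ = u ^ r := by rw [hconj, ← pow_add, add_comm, pow_add, mul_inv_cancel_right]
    set i := 2 ^ (m - 2) with hi
    have h3 : x * u ^ i * x⁻¹ = u ^ (r * i) := by rw [← conj_pow, hxu, ← pow_mul]
    have h4 : u ^ i = z * u ^ (r * i) := by
      rw [hzdef, ← pow_add, pow_inj_mod, hu]
      have e1 : r * i + i = 2 ^ (m - e) * i := by rw [← hr]; ring
      have e2 : 2 ^ m ∣ 2 ^ (m - e) * i := by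
        rw [hi, ← pow_add]; exact pow_dvd_pow 2 (by omega)
      have e3 : 2 ^ (m - 1) = i + i := by rw [hi, ← two_mul, ← pow_succ']; congr 1; omega
      obtain ⟨c, hc⟩ := e2
      have e4 : 2 ^ (m - 1) + r * i = i + 2 ^ m * c := by rw [← hc, ← e1, e3]; ring
      rw [e4, Nat.add_mul_mod_self_left]
    calc u ^ i * x * (u ^ i)⁻¹ = z * u ^ (r * i) * x * (u ^ i)⁻¹ := by rw [← h4]
      _ = z * (x * u ^ i * x⁻¹) * x * (u ^ i)⁻¹ := by rw [h3]
      _ = z * x := by group
  have hfix : ∀ x ∈ T, Nat.card (fixA ρ x) * Nat.card (fixA ρ x) = Nat.card V := by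
    intro x hx
    rw [h.card_split hx.2]
    congr 1
    obtain ⟨y, hy⟩ := hconjz x hx
    have hy' : y * x = z * x * y := by rw [← hy, inv_mul_cancel_right]
    refine Nat.card_congr
      { toFun := fun w => ⟨ρ y w, ?_⟩
        invFun := fun w => ⟨ρ y⁻¹ w, ?_⟩
        left_inv := fun w => Subtype.ext (act_inv_act ρ y w)
        right_inv := fun w => Subtype.ext (act_act_inv ρ y w) }
    · have h1 : ρ y (ρ x w) = -(ρ x (ρ y w)) := by
        rw [← act_mul, hy', act_mul, act_mul, hzneg]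
      rw [mem_fixA.1 w.2] at h1
      rw [mem_antiA]
      exact (neg_eq_iff_eq_neg.1 h1.symm)
    · rw [mem_fixA]
      have h2 : x * y⁻¹ = y⁻¹ * (z * x) := by
        calc x * y⁻¹ = y⁻¹ * (y * x) * y⁻¹ := by group
          _ = y⁻¹ * (z * x * y) * y⁻¹ := by rw [hy']
          _ = y⁻¹ * (z * x) := by group
      rw [← act_mul, h2, act_mul, act_mul, mem_antiA.1 w.2, hzneg, neg_neg]
  -- stabilisers have order two
  obtain ⟨Q, d, hQd, hQ⟩ : ∃ Q d : ℕ, Q = q ^ d ∧ ∀ x ∈ T, Nat.card (fixA ρ x) = Q := by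
    have htT : t ∈ T := ⟨ht, htt⟩
    obtain ⟨d, hd⟩ := h.exists_card_pow (fixA ρ t)
    refine ⟨_, d, hd, fun x hx => ?_⟩
    exact Nat.mul_self_inj.1 ((hfix x hx).trans (hfix t htT).symm)
  have hVQ : Nat.card V = Q * Q := by rw [← hfix t ⟨ht, htt⟩, hQ t ⟨ht, htt⟩]
  have hQ1 : 1 < Q := by
    have : 1 < Nat.card V := Finite.one_lt_card
    by_contra hle
    interval_cases Q <;> omega
  -- unique fixing involution
  have huniq : ∀ v : V, v ≠ 0 → ∃! x : T, ρ (x : G) v = v := by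
    have hone : ∀ v : V, v ≠ 0 → ∀ a b : G, a ∈ St ρ v → b ∈ St ρ v → a ∉ U → b ∉ U → a = b := by
      intro v hv0 a b ha hb haU hbU
      have h1 : a⁻¹ * b ∈ U := by
        rw [Subgroup.mul_mem_iff_of_index_two hidx]
        exact iff_of_false (fun hc => haU (inv_mem_iff.1 hc)) hbU
      exact inv_mul_eq_one.1 (hsmall v hv0 _ (mul_mem (inv_mem ha) hb) h1)
    obtain ⟨w, hw, hw0⟩ : ∃ w ∈ fixA ρ t, w ≠ 0 := by
      have : 1 < Nat.card (fixA ρ t) := by rw [hQ t ⟨ht, htt⟩]; exact hQ1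
      haveI := Finite.one_lt_card_iff_nontrivial.1 this
      obtain ⟨x, hx⟩ := exists_ne (0 : fixA ρ t)
      exact ⟨x, x.2, fun e1 => hx (Subtype.ext e1)⟩
    intro v hv0
    have hcard : 1 < Nat.card (St ρ v) := by
      rw [h.half v w hv0 hw0]
      refine Finite.one_lt_card_iff_nontrivial.2 ⟨⟨⟨t, hw⟩, 1, fun e1 => ht ?_⟩⟩
      rw [show t = 1 from congrArg Subtype.val e1]
      exact one_mem _
    haveI := Finite.one_lt_card_iff_nontrivial.1 hcard
    obtain ⟨g, hg⟩ := exists_ne (1 : St ρ v)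
    have hgU : (g : G) ∉ U := fun hc => hg (Subtype.ext (hsmall v hv0 g g.2 hc))
    have hgg : (g : G) * g = 1 := by
      refine hsmall v hv0 _ (mul_mem g.2 g.2) ?_
      exact Subgroup.mul_self_mem_of_index_two hidx _
    refine ⟨⟨g, hgU, hgg⟩, g.2, fun y hy => Subtype.ext ?_⟩
    exact hone v hv0 y g hy g.2 y.2.1 hgU
  have hcount : Nat.card V - 1 = 2 ^ (m - e) * (Q - 1) := by
    have e1 : Nat.card {v : V // v ≠ 0} = Nat.card V - 1 := by
      rw [show Nat.card {v : V // v ≠ 0} = Set.ncard ({(0 : V)}ᶜ) from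
        (Nat.card_coe_set_eq _).symm ▸ rfl, Set.ncard_compl, Set.ncard_singleton]
    have e2 : Nat.card (Σ x : T, {v : V // v ≠ 0 ∧ ρ (x : G) v = v}) = Nat.card {v : V // v ≠ 0} := by
      refine Nat.card_eq_of_bijective (fun s => ⟨s.2.1, s.2.2.1⟩) ⟨?_, ?_⟩
      · rintro ⟨x, v, hv0, hv⟩ ⟨y, w, hw0, hw⟩ he
        have hvw : v = w := congrArg Subtype.val he
        subst hvw
        have : x = y := (huniq v hv0).unique hv hw
        subst this
        rfl
      · rintro ⟨v, hv0⟩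
        obtain ⟨x, hx, -⟩ := huniq v hv0
        exact ⟨⟨x, v, hv0, hx⟩, rfl⟩
    haveI : Fintype T := Fintype.ofFinite _
    rw [← e1, ← e2, Nat.card_sigma]
    have e3 : ∀ x : T, Nat.card {v : V // v ≠ 0 ∧ ρ (x : G) v = v} = Q - 1 := by
      intro x
      rw [← hQ x x.2]
      have : {v : V | v ≠ 0 ∧ ρ (x : G) v = v} = (fixA ρ (x : G) : Set V) \ {0} := by
        ext v; exact and_comm
      rw [show Nat.card {v : V // v ≠ 0 ∧ ρ (x : G) v = v} = Set.ncard {v : V | v ≠ 0 ∧ ρ (x : G) v = v} from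
        Nat.card_coe_set_eq _, this,
        Set.ncard_sdiff_singleton_of_mem (zero_mem (fixA ρ (x : G)) : (0 : V) ∈ (fixA ρ (x : G) : Set V)),
        ← Nat.card_coe_set_eq]
      rfl
    rw [Finset.sum_congr rfl (fun x _ => e3 x), Finset.sum_const, Finset.card_univ,
      ← Nat.card_eq_fintype_card, hTcard, smul_eq_mul]
  have hQplus : Q + 1 = 2 ^ (m - e) := by
    rw [hVQ, show Q * Q - 1 = (Q + 1) * (Q - 1) by
      rw [← Nat.sq_sub_sq, one_pow, pow_two]] at hcount
    exact Nat.eq_of_mul_eq_mul_right (by omega) hcount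
  have hq3 : 3 ≤ q := by
    have := h.qp.two_le
    have := h.ne
    omega
  have hqodd : q % 2 = 1 := Nat.odd_iff.1 (h.qp.odd_of_ne_two h.ne)
  rw [hQd] at hQplus hQ1 hVQ
  rcases pow_add_one_two_pow hqodd hq3 hQplus with rfl | rfl
  · rw [pow_one] at hVQ hQplus
    exact ⟨by rw [hVQ, pow_two], hQplus⟩
  · simp at hQ1

end H33.HalfTrans
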