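import Mathlib
import Cfsg.Prelude.Def_Perm
import Cfsg.Agent.H1.Hall

/-!
Groups transitive on the two-dimensional subspaces; orders of semilinear and semiaffine groups.
-/

set_option autoImplicit false
set_option linter.unusedSectionVars false
set_option linter.style.haveILetI false

namespace H33.TwoSub

open Module

variable {p : ℕ} [hp : Fact p.Prime]

section count
variable {V : Type*} [AddCommGroup V] [Module (ZMod p) V] [Finite V]
  {G : Type*} [Group G] [Finite G] (ρ : G →* (V ≃ₗ[ZMod p] V))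

/-- The two-dimensional subspaces. -/
abbrev Planes (p : ℕ) (V : Type*) [AddCommGroup V] [Module (ZMod p) V] :=
  {W : Submodule (ZMod p) V // Module.finrank (ZMod p) W = 2}

theorem card_planes_mul {n : ℕ} (hn : 2 ≤ n) (hV : Nat.card V = p ^ n) :
    Nat.card (Planes p V) * ((p ^ 2 - 1) * (p ^ 2 - p)) = (p ^ n - 1) * (p ^ n - p) := by
  classical
  cases nonempty_fintype V
  have hfin : finrank (ZMod p) V = n := by
    have h := Module.natCard_eq_pow_finrank (K := ZMod p) (V := V)
    rw [hV, Nat.card_zmod] at h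
    exact (Nat.pow_right_injective hp.out.two_le h).symm
  have htot : Nat.card {s : Fin 2 → V // LinearIndependent (ZMod p) s} =
      (p ^ n - 1) * (p ^ n - p) := by
    rw [card_linearIndependent (K := ZMod p) (V := V) (k := 2) (by omega), Fin.prod_univ_two,
      ZMod.card, hfin]
    simp
  have hW : ∀ W : Planes p V,
      Nat.card {s : Fin 2 → W.1 // LinearIndependent (ZMod p) s} = (p ^ 2 - 1) * (p ^ 2 - p) := by
    intro W
    rw [card_linearIndependent (K := ZMod p) (V := W.1) (k := 2) (W.2.ge), Fin.prod_univ_two,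
      ZMod.card, W.2]
    simp
  let f : (Σ W : Planes p V, {s : Fin 2 → W.1 // LinearIndependent (ZMod p) s}) →
      {s : Fin 2 → V // LinearIndependent (ZMod p) s} := fun t =>
    ⟨fun i => (t.2.1 i : V), (t.2.2.map' t.1.1.subtype (Submodule.ker_subtype _))⟩
  have hspan : ∀ (t : Σ W : Planes p V, {s : Fin 2 → W.1 // LinearIndependent (ZMod p) s}),
      t.1.1 = Submodule.span (ZMod p) (Set.range (f t).1) := by
    intro t
    refine (Submodule.eq_of_le_of_finrank_le (Submodule.span_le.2 ?_) ?_).symm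
    · rintro _ ⟨i, rfl⟩
      exact (t.2.1 i).2
    · rw [finrank_span_eq_card (f t).2, t.1.2, Fintype.card_fin]
  have hf : Function.Bijective f := by
    refine ⟨?_, ?_⟩
    · intro a b hab
      have h1 : a.1 = b.1 := Subtype.ext ((hspan a).trans (by rw [hab]; exact (hspan b).symm))
      obtain ⟨W, s⟩ := a
      obtain ⟨W', s'⟩ := b
      subst h1
      have h2 : ∀ i, (s.1 i : V) = s'.1 i := fun i => congrFun (congrArg Subtype.val hab) i
      exact congrArg (Sigma.mk W) (Subtype.ext (funext fun i => Subtype.ext (h2 i)))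
    · intro s
      let W : Planes p V := ⟨Submodule.span (ZMod p) (Set.range s.1), by
        rw [finrank_span_eq_card s.2, Fintype.card_fin]⟩
      refine ⟨⟨W, ⟨fun i => ⟨s.1 i, Submodule.subset_span ⟨i, rfl⟩⟩, ?_⟩⟩, rfl⟩
      exact LinearIndependent.of_comp W.1.subtype s.2
  rw [← htot, ← Nat.card_congr (Equiv.ofBijective f hf), Nat.card_sigma,
    Finset.sum_congr rfl fun W _ => hW W, Finset.sum_const, Finset.card_univ, smul_eq_mul,
    Nat.card_eq_fintype_card]

/-- Transitivity on planes, with scalars present, bounds the number of planes. -/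
theorem planes_dvd
    (htr : ∀ W W' : Planes p V, ∃ g : G, W.1.map (ρ g).toLinearMap = W'.1)
    (hsc : ∀ c : (ZMod p)ˣ, ∃ g : G, ∀ v : V, ρ g v = (c : ZMod p) • v) :
    Nat.card (Planes p V) = 0 ∨ Nat.card (Planes p V) * (p - 1) ∣ Nat.card ρ.range := by
  classical
  rcases isEmpty_or_nonempty (Planes p V) with h | ⟨⟨W₀⟩⟩
  · left; exact Nat.card_of_isEmpty
  right
  letI : MulAction ρ.range (Planes p V) :=
    { smul := fun g W => ⟨W.1.map (g : V ≃ₗ[ZMod p] V).toLinearMap, by
        rw [LinearEquiv.finrank_map_eq]; exact W.2⟩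
      one_smul := fun W => Subtype.ext (Submodule.map_id W.1)
      mul_smul := fun g h W => Subtype.ext (Submodule.map_comp _ _ W.1) }
  have : MulAction.IsPretransitive ρ.range (Planes p V) := ⟨fun W W' => by
    obtain ⟨g, hg⟩ := htr W W'
    exact ⟨⟨ρ g, g, rfl⟩, Subtype.ext hg⟩⟩
  have hidx : (MulAction.stabilizer ρ.range W₀).index = Nat.card (Planes p V) :=
    MulAction.index_stabilizer_of_transitive _ W₀
  rw [← (MulAction.stabilizer ρ.range W₀).card_mul_index, hidx, mul_comm]
  refine mul_dvd_mul_right ?_ _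
  -- the scalars fix every plane
  choose g hg using hsc
  let f : (ZMod p)ˣ →* MulAction.stabilizer ρ.range W₀ := MonoidHom.mk'
    (fun c => ⟨⟨ρ (g c), g c, rfl⟩, Subtype.ext (by
      show W₀.1.map (ρ (g c)).toLinearMap = W₀.1
      refine Submodule.eq_of_le_of_finrank_le ?_ (le_of_eq ?_)
      · rintro _ ⟨v, hv, rfl⟩
        show ρ (g c) v ∈ W₀.1
        rw [hg c v]; exact W₀.1.smul_mem _ hv
      · rw [LinearEquiv.finrank_map_eq])⟩)
    (fun c d => Subtype.ext (Subtype.ext (LinearEquiv.ext fun v => by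
      show ρ (g (c * d)) v = ρ (g c) (ρ (g d) v)
      rw [hg, hg, hg, smul_smul, Units.val_mul])))
  have hf : Function.Injective f := by
    intro c d e
    obtain ⟨v, hv, hv0⟩ : ∃ v ∈ W₀.1, v ≠ 0 := Submodule.exists_mem_ne_zero_of_ne_bot fun h => by
      have := W₀.2
      rw [h, finrank_bot] at this
      omega
    have h1 : ρ (g c) v = ρ (g d) v := by
      have := congrArg (fun t : MulAction.stabilizer ρ.range W₀ => ((t : ρ.range) : V ≃ₗ[ZMod p] V) v) e
      exact this
    rw [hg, hg] at h1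
    exact Units.ext (smul_left_injective (ZMod p) hv0 h1)
  have h2 := Subgroup.card_dvd_of_injective f hf
  rwa [Nat.card_eq_fintype_card, ZMod.card_units p] at h2

end count

/-- The arithmetic consequence. -/
theorem dim_cases {n N₂ : ℕ} (hn : 3 ≤ n)
    (h1 : N₂ * ((p ^ 2 - 1) * (p ^ 2 - p)) = (p ^ n - 1) * (p ^ n - p))
    (h2 : N₂ * (p - 1) ∣ n * (p ^ n - 1)) : n = 3 ∨ (n = 5 ∧ p = 2) := by
  have h2p := hp.out.two_le
  obtain ⟨m, rfl⟩ : ∃ m, n = m + 1 := ⟨n - 1, by omega⟩
  have e1 : p ^ (m + 1) - p = p * (p ^ m - 1) := by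
    rw [Nat.mul_sub, mul_one, pow_succ']
  have e2 : p ^ 2 - p = p * (p - 1) := by
    rw [Nat.mul_sub, mul_one, sq]
  rw [e1, e2] at h1
  have hpos : 0 < p ^ (m + 1) - 1 := Nat.sub_pos_of_lt (Nat.one_lt_pow (by omega) hp.out.one_lt)
  have h3 : p ^ m - 1 ∣ (m + 1) * (p ^ 2 - 1) := by
    have hd := mul_dvd_mul_right h2 ((p ^ 2 - 1) * p)
    have el : N₂ * (p - 1) * ((p ^ 2 - 1) * p) = (p ^ (m + 1) - 1) * (p * (p ^ m - 1)) := by
      rw [← h1]; ring
    have er : (m + 1) * (p ^ (m + 1) - 1) * ((p ^ 2 - 1) * p) =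
        (p ^ (m + 1) - 1) * (p * ((m + 1) * (p ^ 2 - 1))) := by ring
    rw [el, er] at hd
    exact Nat.dvd_of_mul_dvd_mul_left hp.out.pos (Nat.dvd_of_mul_dvd_mul_left hpos hd)
  have hp2pos : 0 < p ^ 2 - 1 := Nat.sub_pos_of_lt (Nat.one_lt_pow two_ne_zero hp.out.one_lt)
  have h4 : p ^ m - 1 ≤ (m + 1) * (p ^ 2 - 1) := Nat.le_of_dvd (by positivity) h3
  have hm : m ≤ 4 := by
    by_contra hm
    have h5 : ∀ j : ℕ, j + 7 ≤ 2 ^ (j + 3) := by
      intro j
      induction j with
      | zero => norm_num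
      | succ j ih => rw [show j + 1 + 3 = (j + 3) + 1 by ring, pow_succ]; omega
    obtain ⟨j, rfl⟩ : ∃ j, m = j + 5 := ⟨m - 5, by omega⟩
    have h6 : j + 7 ≤ p ^ (j + 3) := (h5 j).trans (Nat.pow_le_pow_left h2p _)
    have h7 : (j + 7) * p ^ 2 ≤ p ^ (j + 5) := by
      rw [show j + 5 = (j + 3) + 2 by ring, pow_add]
      exact Nat.mul_le_mul_right _ h6
    have h8 : 4 ≤ p ^ 2 := by nlinarith
    rw [Nat.mul_sub, mul_one] at h4
    have h9 : (j + 7) * p ^ 2 = (j + 5 + 1) * p ^ 2 + p ^ 2 := by ring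
    have h10 : (j + 5 + 1) * 1 ≤ (j + 5 + 1) * p ^ 2 := Nat.mul_le_mul_left _ (by omega)
    omega
  rcases (by omega : m = 2 ∨ m = 3 ∨ m = 4) with rfl | rfl | rfl
  · exact Or.inl rfl
  · exfalso
    have hpb : p ≤ 4 := by
      by_contra hc
      push Not at hc
      have : (3 + 1) * (p ^ 2 - 1) < p ^ 3 - 1 := by
        have : 5 * p ^ 2 ≤ p ^ 3 := by rw [pow_succ' p 2]; exact Nat.mul_le_mul_right _ hc
        have : 4 ≤ p ^ 2 := by nlinarith
        omega
      omega
    interval_cases p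
    · norm_num at h3
    · norm_num at h3
    · exact absurd hp.out (by norm_num)
  · refine Or.inr ⟨rfl, ?_⟩
    have hpb : p ≤ 2 := by
      by_contra hc
      push Not at hc
      have : (4 + 1) * (p ^ 2 - 1) < p ^ 4 - 1 := by
        have : 9 * p ^ 2 ≤ p ^ 4 := by
          rw [show p ^ 4 = p ^ 2 * p ^ 2 by ring]; exact Nat.mul_le_mul_right _ (by nlinarith)
        have : 9 ≤ p ^ 2 := by nlinarith
        omega
      omega
    omega

section field
variable (F : Type*) [Field F] [Finite F]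

theorem card_ringEquiv {n : ℕ} (hF : Nat.card F = p ^ n) : Nat.card (F ≃+* F) = n := by
  classical
  cases nonempty_fintype F
  haveI : CharP F p := charP_of_card_eq_prime_pow (by rw [← hF, Nat.card_eq_fintype_card])
  letI : Algebra (ZMod p) F := ZMod.algebra F p
  have hfin : finrank (ZMod p) F = n := by
    have h := Module.natCard_eq_pow_finrank (K := ZMod p) (V := F)
    rw [hF, Nat.card_zmod] at h
    exact (Nat.pow_right_injective hp.out.two_le h).symm
  let e : (F ≃+* F) ≃ (F ≃ₐ[ZMod p] F) :=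
    { toFun := fun σ => AlgEquiv.ofRingEquiv (f := σ) fun c =>
        RingHom.congr_fun (Subsingleton.elim ((σ : F →+* F).comp (algebraMap (ZMod p) F)) (algebraMap (ZMod p) F)) c
      invFun := fun σ => σ.toRingEquiv
      left_inv := fun σ => RingEquiv.ext fun x => rfl
      right_inv := fun σ => AlgEquiv.ext fun x => rfl }
  rw [Nat.card_congr e, IsGalois.card_aut_eq_finrank, hfin]

/-- The maps `x ↦ a σ x`. -/
def gammaL (F : Type*) [Field F] : Subgroup (Equiv.Perm F) :=
  Cfsg.semiaffineGroup F ⊓ MulAction.stabilizer (Equiv.Perm F) (0 : F)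

theorem mem_gammaL {π : Equiv.Perm F} :
    π ∈ gammaL F ↔ ∃ a : Fˣ, ∃ σ : F ≃+* F, ∀ x, π x = (a : F) * σ x := by
  constructor
  · rintro ⟨⟨a, b, σ, h⟩, h0⟩
    have h1 : π 0 = 0 := h0
    rw [h, map_zero, mul_zero, zero_add] at h1
    exact ⟨a, σ, fun x => by rw [h, h1, add_zero]⟩
  · rintro ⟨a, σ, h⟩
    exact ⟨⟨a, 0, σ, fun x => by rw [h, add_zero]⟩, by
      show π 0 = 0
      rw [h, map_zero, mul_zero]⟩

theorem card_semiaffine {n : ℕ} (hF : Nat.card F = p ^ n) :
    Nat.card (Cfsg.semiaffineGroup F) = p ^ n * (n * (p ^ n - 1)) ∧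
    Nat.card (gammaL F) = n * (p ^ n - 1) ∧
    Nat.card (Cfsg.affineGroup F) = p ^ n * (p ^ n - 1) := by
  classical
  cases nonempty_fintype F
  have hunits : Nat.card Fˣ = p ^ n - 1 := by rw [Nat.card_units, hF]
  let mk : Fˣ → F → (F ≃+* F) → Equiv.Perm F := fun a b σ =>
    (σ.toEquiv.trans (Equiv.mulLeft₀ (a : F) a.ne_zero)).trans (Equiv.addRight b)
  have hmk : ∀ a b σ x, mk a b σ x = (a : F) * σ x + b := fun a b σ x => rfl
  have hinj : ∀ a a' : Fˣ, ∀ b b' : F, ∀ σ σ' : F ≃+* F, mk a b σ = mk a' b' σ' →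
      a = a' ∧ b = b' ∧ σ = σ' := by
    intro a a' b b' σ σ' e
    have h0 := Equiv.congr_fun e 0
    rw [hmk, hmk, map_zero, map_zero, mul_zero, mul_zero, zero_add, zero_add] at h0
    have h1 := Equiv.congr_fun e 1
    rw [hmk, hmk, map_one, map_one, mul_one, mul_one, h0, add_left_inj] at h1
    refine ⟨Units.ext h1, h0, RingEquiv.ext fun x => ?_⟩
    have h2 := Equiv.congr_fun e x
    rw [hmk, hmk, h0, add_left_inj, h1] at h2
    exact mul_left_cancel₀ a'.ne_zero h2
  refine ⟨?_, ?_, ?_⟩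
  · let f : F × (F ≃+* F) × Fˣ → Cfsg.semiaffineGroup F := fun t =>
      ⟨mk t.2.2 t.1 t.2.1, t.2.2, t.1, t.2.1, fun x => hmk _ _ _ x⟩
    have hf : Function.Bijective f := by
      refine ⟨fun s t e => ?_, ?_⟩
      · obtain ⟨h1, h2, h3⟩ := hinj _ _ _ _ _ _ (congrArg Subtype.val e)
        exact Prod.ext h2 (Prod.ext h3 h1)
      · rintro ⟨π, a, b, σ, h⟩
        exact ⟨(b, σ, a), Subtype.ext (Equiv.ext fun x => (hmk a b σ x).trans (h x).symm)⟩
    rw [← Nat.card_congr (Equiv.ofBijective f hf), Nat.card_prod, Nat.card_prod, hF,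
      card_ringEquiv F hF, hunits]
  · let f : (F ≃+* F) × Fˣ → gammaL F := fun t =>
      ⟨mk t.2 0 t.1, (mem_gammaL F).2 ⟨t.2, t.1, fun x => by rw [hmk, add_zero]⟩⟩
    have hf : Function.Bijective f := by
      refine ⟨fun s t e => ?_, ?_⟩
      · obtain ⟨h1, -, h3⟩ := hinj _ _ _ _ _ _ (congrArg Subtype.val e)
        exact Prod.ext h3 h1
      · rintro ⟨π, hπ⟩
        obtain ⟨a, σ, h⟩ := (mem_gammaL F).1 hπ
        exact ⟨(σ, a), Subtype.ext (Equiv.ext fun x => by
          show mk a 0 σ x = π x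
          rw [hmk, h, add_zero])⟩
    rw [← Nat.card_congr (Equiv.ofBijective f hf), Nat.card_prod, card_ringEquiv F hF, hunits]
  · let f : F × Fˣ → Cfsg.affineGroup F := fun t =>
      ⟨mk t.2 t.1 (RingEquiv.refl F), t.2, t.1, fun x => hmk _ _ _ x⟩
    have hf : Function.Bijective f := by
      refine ⟨fun s t e => ?_, ?_⟩
      · obtain ⟨h1, h2, -⟩ := hinj _ _ _ _ _ _ (congrArg Subtype.val e)
        exact Prod.ext h2 h1
      · rintro ⟨π, a, b, h⟩
        exact ⟨(b, a), Subtype.ext (Equiv.ext fun x => (hmk a b _ x).trans (h x).symm)⟩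
    rw [← Nat.card_congr (Equiv.ofBijective f hf), Nat.card_prod, hF, hunits]

/-- In `ΓL₁(8)` a subgroup of order `7` consists of multiplications. -/
theorem seven_subgroup (hF : Nat.card F = 8) {S : Subgroup (Equiv.Perm F)} (hS : S ≤ gammaL F)
    (hcard : Nat.card S = 7) {π : Equiv.Perm F} (hπ : π ∈ S) :
    ∃ a : Fˣ, ∀ x, π x = (a : F) * x := by
  classical
  cases nonempty_fintype F
  haveI : Fact (Nat.Prime 2) := ⟨Nat.prime_two⟩
  haveI : Fact (Nat.Prime 7) := ⟨by norm_num⟩
  have hG : Nat.card (gammaL F) = 21 := by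
    rw [(card_semiaffine (p := 2) F (n := 3) (by rw [hF]; norm_num)).2.1]; norm_num
  let μ : Fˣ →* Equiv.Perm F := MonoidHom.mk' (fun a => Equiv.mulLeft₀ (a : F) a.ne_zero)
    (fun a b => Equiv.ext fun x => by simp [mul_assoc])
  have hμle : μ.range ≤ gammaL F := by
    rintro _ ⟨a, rfl⟩
    exact (mem_gammaL F).2 ⟨a, RingEquiv.refl F, fun x => rfl⟩
  have hμc : Nat.card μ.range = 7 := by
    rw [← Nat.card_congr (MonoidHom.ofInjective (f := μ) ?_).toEquiv, Nat.card_units, hF]
    intro a b e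
    have := Equiv.congr_fun e 1
    exact Units.ext (by simpa [μ] using this)
  have hfac : (21 : ℕ).factorization 7 = 1 := by
    rw [show (21 : ℕ) = 7 * 3 by norm_num, Nat.factorization_mul (by norm_num) (by norm_num),
      Finsupp.add_apply, Nat.Prime.factorization_self (by norm_num),
      Nat.factorization_eq_zero_of_not_dvd (by norm_num)]
  let P1 : Sylow 7 (gammaL F) := Sylow.ofCard (S.subgroupOf (gammaL F)) (by
    rw [Nat.card_congr (Subgroup.subgroupOfEquivOfLe hS).toEquiv, hG, hfac, hcard]; rfl)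
  let P2 : Sylow 7 (gammaL F) := Sylow.ofCard (μ.range.subgroupOf (gammaL F)) (by
    rw [Nat.card_congr (Subgroup.subgroupOfEquivOfLe hμle).toEquiv, hG, hfac, hμc]; rfl)
  have hone : Nat.card (Sylow 7 (gammaL F)) = 1 := by
    have h1 : Nat.card (Sylow 7 (gammaL F)) ∣ 3 := by
      refine (P1.card_dvd_index).trans (dvd_of_eq ?_)
      have h2 := (P1 : Subgroup (gammaL F)).card_mul_index
      have h3 : Nat.card (P1 : Subgroup (gammaL F)) = 7 :=
        (Nat.card_congr (Subgroup.subgroupOfEquivOfLe hS).toEquiv).trans hcard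
      rw [h3, hG] at h2
      omega
    have h2 := card_sylow_modEq_one 7 (gammaL F)
    rcases (Nat.dvd_prime (by norm_num)).1 h1 with h | h
    · exact h
    · rw [h] at h2; exact absurd h2 (by decide)
  haveI := (Nat.card_eq_one_iff_unique.1 hone).1
  have e : S.subgroupOf (gammaL F) = μ.range.subgroupOf (gammaL F) :=
    congrArg (fun P : Sylow 7 (gammaL F) => (P : Subgroup (gammaL F))) (Subsingleton.elim P1 P2)
  obtain ⟨a, ha⟩ : π ∈ μ.range := by
    have : (⟨π, hS hπ⟩ : gammaL F) ∈ S.subgroupOf (gammaL F) := Subgroup.mem_subgroupOf.2 hπ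
    rw [e] at this
    exact Subgroup.mem_subgroupOf.1 this
  exact ⟨a, fun x => by rw [← ha]; rfl⟩

end field

section eightyone
variable {V : Type*} [AddCommGroup V] [Module (ZMod 3) V] [Finite V]

theorem fixed_five (hV : Nat.card V = 81) {y : V ≃ₗ[ZMod 3] V} (hy : y ^ 5 = 1) {v : V}
    (hv : v ≠ 0) (hfix : y v = v) : y = 1 := by
  classical
  cases nonempty_fintype V
  haveI : Fact (Nat.Prime 5) := ⟨by norm_num⟩
  haveI : Fact (Nat.Prime 3) := ⟨by norm_num⟩
  let W : Submodule (ZMod 3) V := LinearMap.eqLocus y.toLinearMap LinearMap.id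
  let P : Subgroup (V ≃ₗ[ZMod 3] V) := Subgroup.zpowers y
  letI : MulAction P V := MulAction.compHom V P.subtype
  have hP : IsPGroup 5 P := by
    obtain ⟨i, -, hi⟩ := (Nat.dvd_prime_pow (by norm_num : Nat.Prime 5)).1
      (orderOf_dvd_of_pow_eq_one (show y ^ 5 ^ 1 = 1 by rw [pow_one]; exact hy))
    exact IsPGroup.of_card (n := i) (by rw [Nat.card_zpowers, hi])
  have h := hP.card_modEq_card_fixedPoints V
  have hfp : Nat.card (MulAction.fixedPoints P V) = Nat.card W := by
    refine Nat.card_congr (Equiv.subtypeEquivRight fun x => ⟨fun hx => hx ⟨y, Subgroup.mem_zpowers y⟩,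
      fun hx g => ?_⟩)
    obtain ⟨k, hk⟩ := Subgroup.mem_zpowers_iff.1 g.2
    have hs : y ∈ MulAction.stabilizer (V ≃ₗ[ZMod 3] V) x := hx
    show (g : V ≃ₗ[ZMod 3] V) • x = x
    rw [← hk]
    exact (MulAction.stabilizer (V ≃ₗ[ZMod 3] V) x).zpow_mem hs k
  have hW : ∃ d : ℕ, d ≤ 4 ∧ Nat.card W = 3 ^ d ∧ 1 ≤ d := by
    refine ⟨Module.finrank (ZMod 3) W, ?_, ?_, ?_⟩
    · have h1 := Submodule.finrank_le W
      have h2 := Module.natCard_eq_pow_finrank (K := ZMod 3) (V := V)
      rw [hV, Nat.card_zmod, show 81 = 3 ^ 4 by norm_num] at h2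
      rw [← Nat.pow_right_injective (le_refl 2 |>.trans (by norm_num : 2 ≤ 3)) h2] at h1
      exact h1
    · rw [Module.natCard_eq_pow_finrank (K := ZMod 3) (V := W), Nat.card_zmod]
    · exact Module.finrank_pos_iff.2 ⟨⟨v, hfix⟩, 0, fun e => hv (congrArg Subtype.val e)⟩
  obtain ⟨d, hd4, hd, hd1⟩ := hW
  rw [hfp, hV, hd] at h
  have hd' : d = 4 := by
    interval_cases d <;> first | rfl | exact absurd h (by decide)
  subst hd'
  have htop : W = ⊤ := Submodule.eq_top_of_finrank_eq (by
    have h1 := Module.natCard_eq_pow_finrank (K := ZMod 3) (V := W)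
    have h2 := Module.natCard_eq_pow_finrank (K := ZMod 3) (V := V)
    rw [hd, Nat.card_zmod] at h1
    rw [hV, Nat.card_zmod] at h2
    exact Nat.pow_right_injective (by norm_num : 2 ≤ 3) (h1.symm.trans ((show (3:ℕ) ^ 4 = 81 by norm_num).trans h2)))
  exact LinearEquiv.ext fun x => (htop ▸ Submodule.mem_top : x ∈ W)

theorem fixed_thirteen (hV : Nat.card V = 81) {x : V ≃ₗ[ZMod 3] V} (hx : x ^ 13 = 1) (hx1 : x ≠ 1) :
    Nat.card (LinearMap.eqLocus x.toLinearMap LinearMap.id) = 3 := by
  classical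
  cases nonempty_fintype V
  haveI : Fact (Nat.Prime 13) := ⟨by norm_num⟩
  haveI : Fact (Nat.Prime 3) := ⟨by norm_num⟩
  let W : Submodule (ZMod 3) V := LinearMap.eqLocus x.toLinearMap LinearMap.id
  let P : Subgroup (V ≃ₗ[ZMod 3] V) := Subgroup.zpowers x
  letI : MulAction P V := MulAction.compHom V P.subtype
  have hP : IsPGroup 13 P := IsPGroup.of_card (n := 1) (by
    rw [Nat.card_zpowers, orderOf_eq_prime hx hx1, pow_one])
  have h := hP.card_modEq_card_fixedPoints V
  have hfp : Nat.card (MulAction.fixedPoints P V) = Nat.card W := by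
    refine Nat.card_congr (Equiv.subtypeEquivRight fun y => ⟨fun hy => hy ⟨x, Subgroup.mem_zpowers x⟩,
      fun hy g => ?_⟩)
    obtain ⟨k, hk⟩ := Subgroup.mem_zpowers_iff.1 g.2
    have hs : x ∈ MulAction.stabilizer (V ≃ₗ[ZMod 3] V) y := hy
    show (g : V ≃ₗ[ZMod 3] V) • y = y
    rw [← hk]
    exact (MulAction.stabilizer (V ≃ₗ[ZMod 3] V) y).zpow_mem hs k
  have h2 := Module.natCard_eq_pow_finrank (K := ZMod 3) (V := V)
  have h3 := Module.natCard_eq_pow_finrank (K := ZMod 3) (V := W)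
  rw [hV, Nat.card_zmod, show 81 = 3 ^ 4 by norm_num] at h2
  rw [Nat.card_zmod] at h3
  have h4 := Nat.pow_right_injective (by norm_num : 2 ≤ 3) h2
  have h1 := Submodule.finrank_le W
  rw [← h4] at h1
  have hne : finrank (ZMod 3) W ≠ 4 := fun e => hx1 (LinearEquiv.ext fun y => by
    have htop : W = ⊤ := Submodule.eq_top_of_finrank_eq (e.trans h4)
    exact (htop ▸ Submodule.mem_top : y ∈ W))
  rw [hfp, hV, h3] at h
  show Nat.card W = 3
  rw [h3]
  interval_cases hd : finrank (ZMod 3) W <;> first | rfl | omega | exact absurd h (by decide)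

/-- A `13`-group in `GL₄(3)` has order less than `169`. -/
theorem order_169 (hV : Nat.card V = 81) {K : Type*} [Group K] {B : Subgroup K} [Finite B]
    (T : Subgroup B) (_i : B →* K) (val : B → (V ≃ₗ[ZMod 3] V)) (hval : ∀ a b, val (a * b) = val a * val b)
    (hinj : Function.Injective val) (hT : Nat.card T = 13 ^ 2) : False := by
  classical
  cases nonempty_fintype V
  haveI : Fact (Nat.Prime 13) := ⟨by norm_num⟩
  let φ : T →* (V ≃ₗ[ZMod 3] V) := MonoidHom.mk' (fun t => val t) (fun a b => hval a b)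
  have hφ : Function.Injective φ := fun a b e => Subtype.ext (hinj e)
  haveI : Finite T := Nat.finite_of_card_ne_zero (by rw [hT]; norm_num)
  have hTp : IsPGroup 13 T := IsPGroup.of_card hT
  letI : MulAction T V := MulAction.compHom V φ
  have hcomm : ∀ a b : T, a * b = b * a :=
    (IsPGroup.isMulCommutative_of_card_eq_prime_sq hT).is_comm.comm
  obtain ⟨z, hz⟩ := exists_prime_orderOf_dvd_card' (G := T) 13 (by rw [hT]; norm_num)
  have hz1 : φ z ≠ 1 := fun e => by
    rw [hφ (e.trans (map_one φ).symm), orderOf_one] at hz; omega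
  have hzc := fixed_thirteen hV (x := φ z) (by rw [← map_pow, ← hz, pow_orderOf_eq_one, map_one]) hz1
  set W := LinearMap.eqLocus (φ z).toLinearMap LinearMap.id
  -- `T` fixes `W` pointwise
  have hW : ∀ t : T, ∀ v ∈ W, φ t v = v := by
    intro t v hv
    have hmem : ∀ s : T, φ s v ∈ W := fun s => by
      show φ z (φ s v) = φ s v
      calc φ z (φ s v) = φ (z * s) v := by rw [map_mul]; rfl
        _ = φ s (φ z v) := by rw [hcomm, map_mul]; rfl
        _ = φ s v := by rw [show φ z v = v from hv]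
    have ho : Nat.card (MulAction.orbit T v) ∣ 13 ^ 2 := by
      rw [Nat.card_congr (MulAction.orbitEquivQuotientStabilizer T v), ← hT]
      exact Subgroup.index_dvd_card _
    have hle : Nat.card (MulAction.orbit T v) ≤ 3 := by
      rw [← hzc]
      exact Nat.card_le_card_of_injective (fun u : MulAction.orbit T v => (⟨u.1, by
        obtain ⟨s, hs⟩ := u.2; exact hs ▸ hmem s⟩ : W))
        (fun a b e => Subtype.ext (congrArg (fun x : W => (x : V)) e))
    obtain ⟨i, -, hi⟩ := (Nat.dvd_prime_pow (by norm_num : Nat.Prime 13)).1 ho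
    rcases i with _ | i
    · haveI := (Nat.card_eq_one_iff_unique.1 hi).1
      exact congrArg Subtype.val (Subsingleton.elim (⟨φ t v, t, rfl⟩ : MulAction.orbit T v) ⟨v, MulAction.mem_orbit_self v⟩)
    · exfalso; rw [hi, pow_succ] at hle; have := Nat.one_le_pow i 13 (by norm_num); omega
  obtain ⟨v, hv⟩ : ∃ v : V, v ∉ W := by
    by_contra hc
    push Not at hc
    have : Nat.card V ≤ Nat.card W :=
      Nat.card_le_card_of_injective (fun v => (⟨v, hc v⟩ : W)) fun a b e => congrArg Subtype.val e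
    omega
  have hst : MulAction.stabilizer T v ≠ ⊥ := by
    intro e
    have h1 := Nat.card_congr (MulAction.orbitEquivQuotientStabilizer T v)
    rw [← Subgroup.index, e, Subgroup.index_bot, hT] at h1
    have h2 : Nat.card (MulAction.orbit T v) ≤ Nat.card V :=
      Nat.card_le_card_of_injective _ Subtype.val_injective
    omega
  obtain ⟨u, hu⟩ := exists_prime_orderOf_dvd_card' (G := MulAction.stabilizer T v) 13
    ((hTp.to_subgroup _).card_eq_or_dvd.resolve_left fun e => hst (Subgroup.eq_bot_of_card_eq _ e))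
  rw [← Subgroup.orderOf_coe] at hu
  have hu1 : φ (u : T) ≠ 1 := fun e => by
    rw [hφ (e.trans (map_one φ).symm), orderOf_one] at hu; omega
  have huc := fixed_thirteen hV (x := φ (u : T)) (by rw [← map_pow, ← hu, pow_orderOf_eq_one, map_one]) hu1
  have hlt : W < LinearMap.eqLocus (φ (u : T)).toLinearMap LinearMap.id := by
    refine SetLike.lt_iff_le_and_exists.2 ⟨fun x hx => hW u x hx, v, ?_, hv⟩
    exact u.2
  have hfr := Submodule.finrank_lt_finrank_of_lt hlt
  haveI : Fact (Nat.Prime 3) := ⟨by norm_num⟩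
  have h1 := Module.natCard_eq_pow_finrank (K := ZMod 3) (V := W)
  have h2 := Module.natCard_eq_pow_finrank (K := ZMod 3) (V := LinearMap.eqLocus (φ (u : T)).toLinearMap LinearMap.id)
  rw [hzc, Nat.card_zmod] at h1
  rw [huc, Nat.card_zmod] at h2
  exact absurd (Nat.pow_right_injective (by norm_num : 2 ≤ 3) (h1.symm.trans h2)) hfr.ne

/-- No soluble `3'`-subgroup of `GL₄(3)` has order divisible by `65`. -/
theorem no_sixtyfive (hV : Nat.card V = 81) {H : Subgroup (V ≃ₗ[ZMod 3] V)} [Finite H]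
    (hsol : Group.IsSolvable H) (h5 : 5 ∣ Nat.card H) (h13 : 13 ∣ Nat.card H) : False := by
  classical
  cases nonempty_fintype V
  haveI : Fact (Nat.Prime 5) := ⟨by norm_num⟩
  haveI : Fact (Nat.Prime 13) := ⟨by norm_num⟩
  haveI : Fact (Nat.Prime 3) := ⟨by norm_num⟩
  haveI := hsol
  obtain ⟨v, hv⟩ : ∃ v : V, v ≠ 0 := by
    by_contra hc
    push Not at hc
    have : Subsingleton V := ⟨fun a b => by rw [hc a, hc b]⟩
    rw [Nat.card_of_subsingleton (0 : V)] at hV
    omega
  have h5le : ∀ (S : Subgroup H), IsPGroup 5 S → Nat.card S ∣ 5 := by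
    intro S hS
    obtain ⟨k, hk⟩ := IsPGroup.iff_card.1 hS
    rcases k with _ | _ | k
    · rw [hk]; norm_num
    · rw [hk]; norm_num
    exfalso
    have h25 : 5 ^ 2 ∣ Nat.card S := hk ▸ pow_dvd_pow 5 (by omega)
    let f : S → V := fun s => ((s : H) : V ≃ₗ[ZMod 3] V) v
    have hf : Function.Injective f := by
      intro s t e
      have hfix : (((s⁻¹ * t : S) : H) : V ≃ₗ[ZMod 3] V) v = v := by
        have e' : ((s : H) : V ≃ₗ[ZMod 3] V) v = ((t : H) : V ≃ₗ[ZMod 3] V) v := e
        show ((s : H) : V ≃ₗ[ZMod 3] V).symm (((t : H) : V ≃ₗ[ZMod 3] V) v) = v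
        rw [← e', LinearEquiv.symm_apply_apply]
      obtain ⟨i, hi⟩ := hS (s⁻¹ * t)
      by_contra hne
      obtain ⟨j, -, hj⟩ := (Nat.dvd_prime_pow (by norm_num : Nat.Prime 5)).1 (orderOf_dvd_of_pow_eq_one hi)
      have hne1 : (s⁻¹ * t) ≠ 1 := fun e => hne (inv_mul_eq_one.1 e)
      rcases j with _ | j
      · exact hne1 (orderOf_eq_one_iff.1 (by simpa using hj))
      set u := (s⁻¹ * t) ^ 5 ^ j with hu
      have hu1 : u ≠ 1 := pow_ne_one_of_lt_orderOf (by positivity)
        (hj ▸ Nat.pow_lt_pow_right (by norm_num) (by omega))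
      have hu5 : u ^ 5 = 1 := by
        rw [hu, ← pow_mul, ← pow_succ, ← hj, pow_orderOf_eq_one]
      have := fixed_five (y := ((u : H) : V ≃ₗ[ZMod 3] V)) hV
        (congrArg (fun z : S => ((z : H) : V ≃ₗ[ZMod 3] V)) hu5) hv (by
          have hs : ((((s⁻¹ * t : S) : H)) : V ≃ₗ[ZMod 3] V) ∈ MulAction.stabilizer (V ≃ₗ[ZMod 3] V) v := hfix
          exact (MulAction.stabilizer (V ≃ₗ[ZMod 3] V) v).pow_mem hs (5 ^ j))
      exact hu1 (Subtype.ext (Subtype.ext this))
    -- free orbits of order at least 25 on the 80 non-zero vectors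
    letI : MulAction S {w : V // w ≠ 0} :=
      { smul := fun s w => ⟨((s : H) : V ≃ₗ[ZMod 3] V) w.1, fun e => w.2 ((LinearEquiv.map_eq_zero_iff _).1 e)⟩
        one_smul := fun w => rfl
        mul_smul := fun a b w => rfl }
    have hfree : ∀ w : {w : V // w ≠ 0}, MulAction.stabilizer S w = ⊥ := by
      intro w
      rw [eq_bot_iff]
      intro s hs
      rw [Subgroup.mem_bot]
      by_contra hs1
      obtain ⟨i, hi⟩ := hS s
      obtain ⟨j, -, hj⟩ := (Nat.dvd_prime_pow (by norm_num : Nat.Prime 5)).1 (orderOf_dvd_of_pow_eq_one hi)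
      rcases j with _ | j
      · exact hs1 (orderOf_eq_one_iff.1 (by simpa using hj))
      have hu1 : s ^ 5 ^ j ≠ 1 := pow_ne_one_of_lt_orderOf (by positivity)
        (hj ▸ Nat.pow_lt_pow_right (by norm_num) (by omega))
      have hu5 : (s ^ 5 ^ j) ^ 5 = 1 := by rw [← pow_mul, ← pow_succ, ← hj, pow_orderOf_eq_one]
      have := fixed_five (y := (((s ^ 5 ^ j : S) : H) : V ≃ₗ[ZMod 3] V)) hV
        (congrArg (fun z : S => ((z : H) : V ≃ₗ[ZMod 3] V)) hu5) w.2
        (congrArg Subtype.val ((MulAction.stabilizer S w).pow_mem hs (5 ^ j)))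
      exact hu1 (Subtype.ext (Subtype.ext this))
    have hdiv : Nat.card S ∣ Nat.card {w : V // w ≠ 0} := by
      rw [Nat.card_congr (MulAction.selfEquivSigmaOrbits S {w : V // w ≠ 0}), Nat.card_sigma]
      refine Finset.dvd_sum fun o _ => dvd_of_eq ?_
      rw [Nat.card_congr (MulAction.orbitEquivQuotientStabilizer S o.out), ← Subgroup.index, hfree,
        Subgroup.index_bot]
    have h80 : Nat.card {w : V // w ≠ 0} = 80 := by
      have := Nat.card_congr (Equiv.sumCompl (fun w : V => w = 0))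
      have h0 : Nat.card {w : V // w = 0} = 1 := Nat.card_unique
      rw [Nat.card_sum, hV, h0] at this
      show Nat.card {w : V // ¬ w = 0} = 80
      omega
    rw [h80] at hdiv
    exact absurd (h25.trans hdiv) (by norm_num)
  -- a Hall subgroup for {5, 13}
  let π : ℕ → Prop := fun r => r = 5 ∨ r = 13
  obtain ⟨U, -, hU, hUi⟩ := H1.hall_pi_exists_ge π (⊥ : Subgroup H)
    (fun r hr hd => absurd (by simpa using hd) hr.ne_one)
  have hU5 : 5 ∣ Nat.card U := by
    rcases (Nat.Prime.dvd_mul (by norm_num : Nat.Prime 5)).1 (U.card_mul_index.symm ▸ h5) with h | h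
    · exact h
    · exact absurd (Or.inl rfl) (hUi 5 (by norm_num) h)
  have hU13 : 13 ∣ Nat.card U := by
    rcases (Nat.Prime.dvd_mul (by norm_num : Nat.Prime 13)).1 (U.card_mul_index.symm ▸ h13) with h | h
    · exact h
    · exact absurd (Or.inr rfl) (hUi 13 (by norm_num) h)
  obtain ⟨P5⟩ : Nonempty (Sylow 5 U) := inferInstance
  have hP5 : Nat.card (P5 : Subgroup U) = 5 := by
    have h1 := h5le ((P5 : Subgroup U).map U.subtype) (P5.isPGroup'.map _)
    rw [Subgroup.card_map_of_injective U.subtype_injective] at h1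
    have h2 : 5 ∣ Nat.card (P5 : Subgroup U) :=
      P5.dvd_card_of_dvd_card hU5
    exact Nat.dvd_antisymm h1 h2
  have h13sylow : Nat.card (Sylow 13 U) = 1 := by
    obtain ⟨P13⟩ : Nonempty (Sylow 13 U) := inferInstance
    have h1 : Nat.card (Sylow 13 U) ∣ 5 := by
      refine (P13.card_dvd_index).trans ?_
      have hfac : ∀ r : ℕ, r.Prime → r ∣ (P13 : Subgroup U).index → r = 5 := by
        intro r hr hd
        rcases hU r hr (hd.trans (Subgroup.index_dvd_card _)) with h | h
        · exact h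
        · exact absurd (h ▸ hd) P13.not_dvd_index
      obtain ⟨b, hb⟩ : ∃ b, (P13 : Subgroup U).index = 5 ^ b :=
        ⟨_, Nat.eq_prime_pow_of_unique_prime_dvd Subgroup.index_ne_zero_of_finite fun {r} hr hd => hfac r hr hd⟩
      rw [hb]
      have hco : Nat.Coprime (5 ^ b) (Nat.card (P13 : Subgroup U)) := by
        obtain ⟨k, hk⟩ := IsPGroup.iff_card.1 P13.isPGroup'
        rw [hk]
        exact Nat.Coprime.pow _ _ (by norm_num)
      have h2 : 5 ^ b ∣ Nat.card U := hb ▸ Subgroup.index_dvd_card _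
      have h3 : 5 ^ b ≤ Nat.card (P5 : Subgroup U) := by
        rw [P5.card_eq_multiplicity]
        exact Nat.pow_le_pow_right (by norm_num)
          ((Nat.Prime.pow_dvd_iff_le_factorization (by norm_num) Nat.card_pos.ne').1 h2)
      rw [hP5] at h3
      rcases b with _ | _ | b
      · norm_num
      · norm_num
      · exfalso; rw [pow_succ, pow_succ] at h3; have := Nat.one_le_pow b 5 (by norm_num); nlinarith
    have h2 := card_sylow_modEq_one 13 U
    rcases (Nat.dvd_prime (by norm_num)).1 h1 with h | h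
    · exact h
    · rw [h] at h2; exact absurd h2 (by decide)
  obtain ⟨P13⟩ : Nonempty (Sylow 13 U) := inferInstance
  haveI := (Nat.card_eq_one_iff_unique.1 h13sylow).1
  haveI : (P13 : Subgroup U).Normal := Sylow.normal_of_subsingleton P13
  obtain ⟨⟨x0, hx0P⟩, hx0o⟩ := exists_prime_orderOf_dvd_card' (G := (P13 : Subgroup U)) 13
    (P13.dvd_card_of_dvd_card hU13)
  obtain ⟨⟨y, hyP⟩, hyo⟩ := exists_prime_orderOf_dvd_card' (G := (P5 : Subgroup U)) 5 (by rw [hP5])
  rw [← Subgroup.orderOf_coe] at hx0o hyo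
  simp only at hx0o hyo
  -- `y` permutes the non-trivial vectors fixed by the normal Sylow 13-subgroup
  let val : U → (V ≃ₗ[ZMod 3] V) := fun u => ((u : H) : V ≃ₗ[ZMod 3] V)
  have hxval : (val x0) ^ 13 = 1 := by
    have := congrArg val (hx0o ▸ pow_orderOf_eq_one x0 : x0 ^ 13 = 1)
    simpa [val] using this
  have hx1 : val x0 ≠ 1 := fun e => by
    have : x0 = 1 := Subtype.ext (Subtype.ext e)
    rw [this, orderOf_one] at hx0o; omega
  set W := LinearMap.eqLocus (val x0).toLinearMap LinearMap.id with hW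
  have hWc := fixed_thirteen hV hxval hx1
  obtain ⟨w, hw⟩ : ∃ w : W, w ≠ 0 := by
    haveI : Nontrivial W := Finite.one_lt_card_iff_nontrivial.1 (by rw [hWc]; norm_num)
    exact exists_ne 0
  -- the fixed space of `P13` is that of `x0`
  have hall : ∀ u ∈ (P13 : Subgroup U), ∀ z ∈ W, val u z = z := by
    intro u hu z hz
    -- `P13` is cyclic of order 13
    by_contra hne
    obtain ⟨k, hk⟩ := IsPGroup.iff_card.1 P13.isPGroup'
    have hk1 : k = 1 := by
      have h1 : 13 ∣ Nat.card (P13 : Subgroup U) := P13.dvd_card_of_dvd_card hU13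
      rcases k with _ | _ | k
      · rw [hk] at h1; norm_num at h1
      · rfl
      exfalso
      obtain ⟨T, hT⟩ := Sylow.exists_subgroup_card_pow_prime 13
        (show 13 ^ 2 ∣ Nat.card (P13 : Subgroup U) from hk ▸ pow_dvd_pow 13 (by omega))
      exact order_169 hV T ((P13 : Subgroup U).subtype) (fun t => val t) (fun a b => rfl)
        (fun a b e => Subtype.ext (Subtype.ext (Subtype.ext e))) hT
    have hgen : Subgroup.zpowers x0 = (P13 : Subgroup U) := by
      refine Subgroup.eq_of_le_of_card_ge (Subgroup.zpowers_le.2 hx0P) ?_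
      rw [Nat.card_zpowers, hx0o, hk, hk1, pow_one]
    obtain ⟨i, rfl⟩ := Subgroup.mem_zpowers_iff.1 (hgen.symm ▸ hu)
    have hs : val x0 ∈ MulAction.stabilizer (V ≃ₗ[ZMod 3] V) z := hz
    have := (MulAction.stabilizer (V ≃ₗ[ZMod 3] V) z).zpow_mem hs i
    exact hne (by simpa [val] using this)
  have hyW : ∀ z ∈ W, val y z ∈ W := by
    intro z hz
    show val x0 (val y z) = val y z
    have h1 := hall _ ((inferInstance : (P13 : Subgroup U).Normal).conj_mem' x0 hx0P y) z hz
    have h2 : val (y⁻¹ * x0 * y) z = (val y).symm (val x0 (val y z)) := rfl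
    rw [h2, LinearEquiv.symm_apply_eq] at h1
    exact h1
  have hyfix : val y (w : V) = (w : V) := by
    let f : Equiv.Perm {z : W // z ≠ 0} := Equiv.ofBijective
      (fun z => ⟨⟨val y z.1.1, hyW _ z.1.2⟩, fun e => z.2 (Subtype.ext ((LinearEquiv.map_eq_zero_iff _).1 (congrArg Subtype.val e)))⟩)
      (Finite.injective_iff_bijective.1 fun a b e => Subtype.ext (Subtype.ext ((val y).injective (congrArg (fun t : {z : W // z ≠ 0} => (t.1 : V)) e))))
    have hpow : ∀ i : ℕ, ∀ z : {z : W // z ≠ 0}, (((f ^ i) z).1 : V) = val (y ^ i) (z.1 : V) := by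
      intro i
      induction i with
      | zero => intro z; rfl
      | succ i ih =>
        intro z
        rw [pow_succ' f, pow_succ' y, Equiv.Perm.mul_apply]
        show val y (((f ^ i) z).1 : V) = _
        rw [ih]; rfl
    have h5 : f ^ 5 = 1 := Equiv.ext fun z => Subtype.ext (Subtype.ext (by
      rw [hpow, show y ^ 5 = 1 from hyo ▸ pow_orderOf_eq_one y]; rfl))
    have hcard : Nat.card {z : W // z ≠ 0} = 2 := by
      have := Nat.card_congr (Equiv.sumCompl (fun z : W => z = 0))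
      have h0 : Nat.card {z : W // z = 0} = 1 := Nat.card_unique
      rw [Nat.card_sum, hWc, h0] at this
      show Nat.card {z : W // ¬ z = 0} = 2
      omega
    have h2 : f ^ 2 = 1 := by
      have := pow_card_eq_one' (G := Equiv.Perm {z : W // z ≠ 0}) (x := f)
      rwa [Nat.card_perm, hcard] at this
    have hf1 : f = 1 := by
      have : f ^ 5 = f ^ 2 * f ^ 2 * f := by group
      rw [h5, h2, one_mul, one_mul] at this
      exact this.symm
    exact congrArg (fun t : {z : W // z ≠ 0} => (t.1 : V)) (Equiv.congr_fun hf1 ⟨w, hw⟩)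
  have := fixed_five hV (y := val y) (by
    have := congrArg val (hyo ▸ pow_orderOf_eq_one y : y ^ 5 = 1)
    simpa [val] using this) (fun e => hw (Subtype.ext e)) hyfix
  have : y = 1 := Subtype.ext (Subtype.ext this)
  rw [this, orderOf_one] at hyo
  omega

end eightyone

end H33.TwoSub
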