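import Cfsg.Agent.H5.PResidual
import Cfsg.Agent.H1.CoprimeAction
import Mathlib.GroupTheory.Nilpotent

set_option autoImplicit false

/-!
Groups with a nilpotent maximal subgroup: reduction of solvability to normal `p`-complements.
-/

namespace H33

open Subgroup

set_option linter.style.haveILetI false
set_option linter.unusedSectionVars false

universe u

variable {G : Type u} [Group G]

theorem le_of_coreFree {M U : Subgroup G} (hmax : IsCoatom M) (hcore : M.normalCore = ⊥)
    (hUM : U ≤ M) (hU : U ≠ ⊥) (hn : M ≤ normalizer (U : Set G)) :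
    normalizer (U : Set G) = M := by
  rcases hmax.le_iff.mp hn with h | h
  · haveI : U.Normal := normalizer_eq_top_iff.mp h
    exact absurd (le_bot_iff.mp (hcore ▸ normal_le_normalCore.mpr hUM)) hU
  · exact h

variable [Finite G]

theorem isPGroup_map_sylow {M : Subgroup G} {p : ℕ} (P : Sylow p M) :
    IsPGroup p ((P : Subgroup M).map M.subtype : Subgroup G) :=
  P.isPGroup'.map _

/-- The data of a Sylow subgroup of a core-free nilpotent maximal subgroup. -/
theorem sylow_of_coreFree {M : Subgroup G} (hmax : IsCoatom M) (hnil : Group.IsNilpotent M)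
    (hcore : M.normalCore = ⊥) {p : ℕ} [Fact p.Prime] (hp : p ∣ Nat.card M) :
    ∃ S : Sylow p G, (S : Subgroup G) ≤ M ∧ (S : Subgroup G) ≠ ⊥ ∧
      normalizer ((S : Subgroup G) : Set G) = M := by
  obtain ⟨P⟩ : Nonempty (Sylow p M) := inferInstance
  haveI := hnil
  haveI hPn : (P : Subgroup M).Normal := inferInstance
  set Q : Subgroup G := (P : Subgroup M).map M.subtype with hQ
  have hQM : Q ≤ M := map_subtype_le _
  have hQne : Q ≠ ⊥ := by
    rw [hQ, Ne, map_eq_bot_iff_of_injective _ M.subtype_injective]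
    exact P.ne_bot_of_dvd_card hp
  have hn : M ≤ normalizer (Q : Set G) := by
    intro m hm
    refine mem_normalizer_fintype ?_
    rintro _ ⟨x, hx, rfl⟩
    exact ⟨⟨m, hm⟩ * x * ⟨m, hm⟩⁻¹, hPn.conj_mem x hx ⟨m, hm⟩, rfl⟩
  have hNQ := le_of_coreFree hmax hcore hQM hQne hn
  obtain ⟨S, hS⟩ := (isPGroup_map_sylow P).exists_le_sylow
  suffices h : (S : Subgroup G) = Q by exact ⟨S, h ▸ hQM, h ▸ hQne, h ▸ hNQ⟩
  by_contra hne
  have hlt : Q < (S : Subgroup G) := lt_of_le_of_ne hS (Ne.symm hne)
  have hnc : NormalizerCondition (S : Subgroup G) := by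
    haveI : Group.IsNilpotent (S : Subgroup G) := S.isPGroup'.isNilpotent
    exact Group.normalizerCondition_of_isNilpotent
  have hsub : (Q.subgroupOf (S : Subgroup G)) < ⊤ := by
    rw [lt_top_iff_ne_top]
    intro h
    exact hne (le_antisymm (subgroupOf_eq_top.mp h) hS)
  obtain ⟨x, hx, hxQ⟩ := SetLike.exists_of_lt (hnc _ hsub)
  have hxN : (x : G) ∈ normalizer (Q : Set G) := by
    rw [← subgroupOf_normalizer_eq hS] at hx
    exact hx
  rw [hNQ] at hxN
  have hPle : (P : Subgroup M) ≤ (S : Subgroup G).subgroupOf M := fun y hy =>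
    hS (mem_map_of_mem _ hy)
  have heq := P.is_maximal' (S.isPGroup'.comap_of_injective M.subtype M.subtype_injective) hPle
  exact hxQ ⟨⟨x, hxN⟩, heq.le (show (⟨x, hxN⟩ : M) ∈ (S : Subgroup G).subgroupOf M from x.2), rfl⟩

theorem isSolvable_quotient_inf (A B : Subgroup G) [A.Normal] [B.Normal]
    (hA : Group.IsSolvable (G ⧸ A)) (hB : Group.IsSolvable (G ⧸ B)) :
    Group.IsSolvable (G ⧸ (A ⊓ B)) := by
  haveI := hA
  haveI := hB
  let f : G →* (G ⧸ A) × (G ⧸ B) := (QuotientGroup.mk' A).prod (QuotientGroup.mk' B)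
  have hf : ∀ x, f x = 1 ↔ x ∈ A ⊓ B := by
    intro x
    simp [f, Prod.ext_iff, QuotientGroup.eq_one_iff]
  refine Group.isSolvable_of_isSolvable_injective
    (f := QuotientGroup.lift (A ⊓ B) f (fun x hx => (hf x).mpr hx)) ?_
  rw [injective_iff_map_eq_one]
  intro y hy
  induction y using QuotientGroup.induction_on with
  | _ x => exact (QuotientGroup.eq_one_iff x).mpr ((hf x).mp hy)

/-- A core-free nilpotent maximal subgroup with normal `p`-complements in `G` for all its primes. -/
theorem isSolvable_of_coreFree {M : Subgroup G} (hmax : IsCoatom M) (hnil : Group.IsNilpotent M)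
    (hcore : M.normalCore = ⊥)
    (h : ∀ p, p.Prime → p ∣ Nat.card M → Cfsg.HasNormalPComplement p G) :
    Group.IsSolvable G := by
  classical
  have key : ∀ s : Finset ℕ, (∀ p ∈ s, p.Prime ∧ p ∣ Nat.card M) →
      ∃ K : Subgroup G, ∃ _ : K.Normal, Group.IsSolvable (G ⧸ K) ∧
        ∀ p ∈ s, ¬ p ∣ Nat.card K := by
    intro s
    induction s using Finset.induction with
    | empty =>
      intro _
      haveI : Subsingleton (G ⧸ (⊤ : Subgroup G)) := QuotientGroup.subsingleton_quotient_top
      exact ⟨⊤, inferInstance, inferInstance, by simp⟩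
    | insert p s hps ih =>
      intro hs
      obtain ⟨K, hK, hsolK, hcard⟩ := ih (fun q hq => hs q (Finset.mem_insert_of_mem hq))
      obtain ⟨hp, hpM⟩ := hs p (Finset.mem_insert_self p s)
      haveI : Fact p.Prime := ⟨hp⟩
      have hsolp : Group.IsSolvable (G ⧸ Cfsg.pResidual p G) := by
        haveI : Group.IsNilpotent (G ⧸ Cfsg.pResidual p G) :=
          H5.isPGroup_quotient_pResidual.isNilpotent
        infer_instance
      refine ⟨K ⊓ Cfsg.pResidual p G, inferInstance, isSolvable_quotient_inf _ _ hsolK hsolp, ?_⟩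
      intro q hq hd
      rcases Finset.mem_insert.mp hq with rfl | hq
      · exact H5.hasNormalPComplement_iff_not_dvd.mp (h q hp hpM)
          (hd.trans (card_dvd_of_le inf_le_right))
      · exact hcard q hq (hd.trans (card_dvd_of_le inf_le_left))
  obtain ⟨K, hKn, hsolK, hK⟩ := key (Nat.card M).primeFactors
    (fun p hp => ⟨Nat.prime_of_mem_primeFactors hp, Nat.dvd_of_mem_primeFactors hp⟩)
  haveI := hsolK
  suffices hKs : Group.IsSolvable K by
    haveI := hKs
    exact Group.isSolvable_of_ker_le_range K.subtype (QuotientGroup.mk' K) (by simp)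
  by_cases hKb : K = ⊥
  · haveI : Subsingleton K := by rw [hKb]; infer_instance
    infer_instance
  have hcop : (Nat.card M).Coprime (Nat.card K) := by
    refine Nat.coprime_of_dvd fun q hq h1 h2 => hK q ?_ h2
    exact Nat.mem_primeFactors.mpr ⟨hq, h1, Nat.card_pos.ne'⟩
  obtain ⟨q, hq, hqK⟩ := Nat.exists_prime_and_dvd (n := Nat.card K)
    (fun hc => hKb (card_eq_one.mp hc))
  haveI : Fact q.Prime := ⟨hq⟩
  haveI := hnil
  obtain ⟨Q, hQ⟩ := H1.exists_invariant_sylow (A := M) (K := K)
    (by rw [normalizer_eq_top]; exact le_top) hcop (Or.inl inferInstance) q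
  set R : Subgroup G := (Q : Subgroup K).map K.subtype with hR
  have hRne : R ≠ ⊥ := by
    rw [hR, Ne, map_eq_bot_iff_of_injective _ K.subtype_injective]
    exact Q.ne_bot_of_dvd_card hqK
  have hKM : K ⊓ M = ⊥ := inf_eq_bot_of_coprime hcop.symm
  have hRK : R ≤ K := map_subtype_le _
  have hRM : ¬ R ≤ M := fun h' => hRne (le_bot_iff.mp (hKM ▸ le_inf hRK h'))
  have htop : R ⊔ M = ⊤ :=
    hmax.lt_iff.mp (lt_of_le_of_ne le_sup_right fun e => hRM (e ▸ le_sup_left))
  have hQtop : (Q : Subgroup K) = ⊤ := by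
    rw [eq_top_iff]
    intro x _
    have hx : (x : G) ∈ ((R ⊔ M : Subgroup G) : Set G) := by rw [htop]; trivial
    rw [coe_mul_of_right_le_normalizer_left R M hQ] at hx
    obtain ⟨r, hr, m, hm, hrm⟩ := hx
    simp only at hrm
    have hmK : m ∈ K := by
      have : m = r⁻¹ * (x : G) := by rw [← hrm]; group
      rw [this]
      exact mul_mem (inv_mem (hRK hr)) x.2
    have hm1 : m = 1 := mem_bot.mp (hKM ▸ mem_inf.mpr ⟨hmK, hm⟩)
    obtain ⟨y, hy, hye⟩ := hr
    have hxy : y = x := Subtype.ext (by rw [← hrm, hm1, mul_one]; exact hye)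
    exact hxy ▸ hy
  have hKp : IsPGroup q (⊤ : Subgroup K) := hQtop ▸ Q.isPGroup'
  haveI := (hKp.of_equiv Subgroup.topEquiv).isNilpotent
  infer_instance

/-- Solvability of groups with a nilpotent maximal subgroup in a class stable under quotients. -/
theorem isSolvable_of_nilpotent_maximal (C : ∀ (G : Type u) [Group G], Subgroup G → Prop)
    (hC : ∀ (G : Type u) [Group G] [Finite G] (M N : Subgroup G) [N.Normal], N ≤ M → C G M →
      C (G ⧸ N) (M.map (QuotientGroup.mk' N)))
    (hcrit : ∀ (G : Type u) [Group G] [Finite G] (M : Subgroup G), IsCoatom M →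
      Group.IsNilpotent M → M.normalCore = ⊥ → C G M →
      ∀ p, p.Prime → p ∣ Nat.card M → Cfsg.HasNormalPComplement p G) :
    ∀ (n : ℕ) (G : Type u) [Group G] [Finite G], Nat.card G ≤ n → ∀ M : Subgroup G,
      IsCoatom M → Group.IsNilpotent M → C G M → Group.IsSolvable G := by
  intro n
  induction n with
  | zero => intro G _ _ hn; exact absurd (Nat.card_pos (α := G)) (by omega)
  | succ n ih =>
  intro G _ _ hn M hmax hnil hM
  by_cases hcore : M.normalCore = ⊥
  · exact isSolvable_of_coreFree hmax hnil hcore (hcrit G M hmax hnil hcore hM)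
  set N := M.normalCore with hN
  have hNM : N ≤ M := normalCore_le M
  have hmapnil : Group.IsNilpotent (M.map (QuotientGroup.mk' N)) := by
    haveI := hnil
    exact Group.nilpotent_of_surjective _ (MonoidHom.subgroupMap_surjective (QuotientGroup.mk' N) M)
  have hcomap : (M.map (QuotientGroup.mk' N)).comap (QuotientGroup.mk' N) = M :=
    comap_map_eq_self (by rwa [QuotientGroup.ker_mk'])
  have hmax' : IsCoatom (M.map (QuotientGroup.mk' N)) := by
    refine ⟨fun e => hmax.1 ?_, fun b hb => ?_⟩
    · rw [← hcomap, e, comap_top]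
    · have h1 : M < b.comap (QuotientGroup.mk' N) := by
        conv_lhs => rw [← hcomap]
        exact (comap_lt_comap_of_surjective (QuotientGroup.mk'_surjective N)).mpr hb
      have h2 := hmax.lt_iff.mp h1
      rw [← comap_top (QuotientGroup.mk' N)] at h2
      exact comap_injective (QuotientGroup.mk'_surjective N) h2
  have hcard : Nat.card (G ⧸ N) ≤ n := by
    have h1 := card_eq_card_quotient_mul_card_subgroup N
    have h2 : 1 < Nat.card N := N.one_lt_card_iff_ne_bot.mpr hcore
    have h3 : 0 < Nat.card (G ⧸ N) := Nat.card_pos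
    nlinarith
  haveI := ih (G ⧸ N) hcard _ hmax' hmapnil (hC G M N hNM hM)
  haveI := hnil
  haveI : Group.IsSolvable N :=
    Group.isSolvable_of_isSolvable_injective (f := Subgroup.inclusion hNM) (Subgroup.inclusion_injective hNM)
  exact Group.isSolvable_of_ker_le_range N.subtype (QuotientGroup.mk' N) (by simp)

end H33
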