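import Cfsg.Agent.S3911
import Cfsg.Agent.H33.Basic
import Cfsg.Agent.H35.ConjAbelian
import Cfsg.Agent.H1.Fitting
import Cfsg.Agent.H3.MinNormal
import Cfsg.Agent.H60.Basic

set_option autoImplicit false

/-!
Finite solvable groups in which abelian subgroups of equal order are conjugate.
-/

namespace H33

open Subgroup

set_option linter.style.haveILetI false
set_option linter.unusedSectionVars false

universe u

/-- Abelian subgroups of equal order are conjugate. -/
def AbConj (G : Type u) [Group G] : Prop :=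
  ∀ A B : Subgroup G, IsMulCommutative A → IsMulCommutative B → Nat.card A = Nat.card B →
    ∃ g : G, B = A.map (MulAut.conj g).toMonoidHom

/-- The Sylow `p`-subgroups have at most one subgroup of order `p`. -/
def UType (p : ℕ) (G : Type u) [Group G] : Prop :=
  ∀ (P : Sylow p G) (H K : Subgroup (P : Subgroup G)), Nat.card H = p → Nat.card K = p → H = K

variable {G : Type u} [Group G] [Finite G]

theorem uType_or_pow {p : ℕ} [Fact p.Prime] (hB : AbConj G) :
    UType p G ∨ ∀ x : G, (∃ k, orderOf x = p ^ k) → x ^ p = 1 := by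
  by_cases h : UType p G
  · exact Or.inl h
  right
  simp only [UType, not_forall] at h
  obtain ⟨P, H, K, hH, hK, hne⟩ := h
  have hexp := (H35.unique_or_pow_eq_one hB P.isPGroup').resolve_left fun h' => hne (h' H K hH hK)
  intro x ⟨k, hk⟩
  obtain ⟨S, hS⟩ := (IsPGroup.of_card (p := p) (G := zpowers x) (n := k)
    (by rw [Nat.card_zpowers, hk])).exists_le_sylow
  obtain ⟨g, hg⟩ := MulAction.exists_smul_eq G S P
  have h1 : MulAut.conj g x ∈ (P : Subgroup G) := by
    rw [← hg]
    exact smul_mem_pointwise_smul _ (MulAut.conj g) _ (hS (mem_zpowers x))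
  have h2 := hexp _ h1
  rwa [← map_pow, MulEquiv.map_eq_one_iff] at h2

/-- A normal subgroup containing a nontrivial `p`-element contains all elements of order `p`. -/
theorem mem_of_orderOf_prime (hB : AbConj G) {p : ℕ} [Fact p.Prime] (M : Subgroup G) [M.Normal]
    (hpM : p ∣ Nat.card M) {x : G} (hx : orderOf x = p) : x ∈ M := by
  obtain ⟨m, hm⟩ := exists_prime_orderOf_dvd_card' (G := M) p hpM
  exact H35.mem_normal_of_orderOf hB M m.2 (by rw [Subgroup.orderOf_coe, hm, hx])

/-- Under exponent `p`, a normal subgroup meeting the `p`-elements contains all of them. -/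
theorem mem_of_pow {p : ℕ} [Fact p.Prime] (hB : AbConj G)
    (hE : ∀ x : G, (∃ k, orderOf x = p ^ k) → x ^ p = 1) (M : Subgroup G) [M.Normal]
    (hpM : p ∣ Nat.card M) {x : G} (hx : ∃ k, orderOf x = p ^ k) : x ∈ M := by
  by_cases h1 : x = 1
  · exact h1 ▸ one_mem M
  · exact mem_of_orderOf_prime hB M hpM (orderOf_eq_prime (hE x hx) h1)

theorem card_eq_prime_of_uType {p : ℕ} [Fact p.Prime] (hU : UType p G) (M : Subgroup G) [M.Normal]
    (hM : M ≠ ⊥) (hMp : IsPGroup p M) (hexp : ∀ x ∈ M, x ^ p = 1) : Nat.card M = p := by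
  obtain ⟨⟨m, hm⟩, hm1⟩ := ne_bot_iff_exists_ne_one.mp hM
  obtain ⟨P⟩ : Nonempty (Sylow p G) := inferInstance
  have hMP : M ≤ (P : Subgroup G) := hMp.le_sylow_of_normal P
  have ho : ∀ x ∈ M, x ≠ 1 → orderOf x = p := fun x hx h1 => orderOf_eq_prime (hexp x hx) h1
  have hm' : m ≠ 1 := fun e => hm1 (Subtype.ext e)
  have hle : M ≤ zpowers m := by
    intro x hx
    by_cases hx1 : x = 1
    · exact hx1 ▸ one_mem _
    have h := hU P (zpowers ⟨m, hMP hm⟩) (zpowers ⟨x, hMP hx⟩)
      (by rw [Nat.card_zpowers, Subgroup.orderOf_mk, ho m hm hm'])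
      (by rw [Nat.card_zpowers, Subgroup.orderOf_mk, ho x hx hx1])
    obtain ⟨k, hk⟩ := mem_zpowers_iff.mp
      (h.symm ▸ mem_zpowers (⟨x, hMP hx⟩ : (P : Subgroup G)) :
        (⟨x, hMP hx⟩ : (P : Subgroup G)) ∈ zpowers (⟨m, hMP hm⟩ : (P : Subgroup G)))
    exact mem_zpowers_iff.mpr ⟨k, by simpa using congrArg Subtype.val hk⟩
  rw [le_antisymm hle (zpowers_le.mpr hm), Nat.card_zpowers, ho m hm hm']

theorem quotient_odd (hB : AbConj G) (M : Subgroup G) [M.Normal] (hM : Odd (Nat.card M)) :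
    AbConj (G ⧸ M) :=
  Cfsg.Agent.S3911.result hB M hM

/-- A quaternion Sylow `2`-subgroup of a solvable group of this kind has order at most `8`. -/
theorem quaternion_le : ∀ (N : ℕ) (G : Type u) [Group G] [Finite G] [Group.IsSolvable G],
    Nat.card G ≤ N → AbConj G → ∀ (Q : Sylow 2 G) (n : ℕ),
      Nonempty ((Q : Subgroup G) ≃* QuaternionGroup (2 ^ n)) → n ≤ 1 := by
  intro N
  induction N with
  | zero => intro G _ _ _ hN; exact absurd (Nat.card_pos (α := G)) (by omega)
  | succ N ih =>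
  intro G _ _ _ hN hB Q n ⟨e⟩
  by_contra hn
  haveI : NeZero (2 ^ n) := ⟨by positivity⟩
  by_cases hodd : ∃ M : Subgroup G, M.Normal ∧ M ≠ ⊥ ∧ Odd (Nat.card M)
  · obtain ⟨M, hMn, hM0, hMo⟩ := hodd
    have hlt : Nat.card (G ⧸ M) ≤ N := by
      have h1 := card_eq_card_quotient_mul_card_subgroup M
      have h2 : 1 < Nat.card M := M.one_lt_card_iff_ne_bot.mpr hM0
      have h3 : 0 < Nat.card (G ⧸ M) := Nat.card_pos
      nlinarith
    haveI : Group.IsSolvable (G ⧸ M) :=
      Group.isSolvable_of_surjective (QuotientGroup.mk'_surjective M)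
    have hinj : Function.Injective ((QuotientGroup.mk' M).subgroupMap (Q : Subgroup G)) := by
      rw [injective_iff_map_eq_one]
      intro x hx
      have hxM : (x : G) ∈ M := (QuotientGroup.eq_one_iff _).mp (congrArg Subtype.val hx)
      obtain ⟨k, hk⟩ := IsPGroup.iff_orderOf.mp Q.isPGroup' x
      rw [← orderOf_eq_one_iff]
      refine Nat.eq_one_of_dvd_coprimes ((Nat.coprime_two_left.mpr hMo).pow_left k) (hk ▸ dvd_rfl) ?_
      rw [← Subgroup.orderOf_coe]
      exact Subgroup.orderOf_dvd_natCard M hxM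
    let e' := MulEquiv.ofBijective _ ⟨hinj, MonoidHom.subgroupMap_surjective _ _⟩
    exact hn (ih (G ⧸ M) hlt (quotient_odd hB M hMo) (Q.mapSurjective
      (QuotientGroup.mk'_surjective M)) n ⟨e'.symm.trans e⟩)
  push Not at hodd
  set T := Cfsg.pCore 2 G with hT
  haveI hTn : T.Normal := H1.pCore_normal' 2 G
  have hTp : IsPGroup 2 T := H1.isPGroup_pCore 2 G
  have hTQ : T ≤ (Q : Subgroup G) := hTp.le_sylow_of_normal Q
  have hcent : centralizer (T : Set G) ≤ T := by
    have hF : Cfsg.fittingSubgroup G = T := by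
      rw [H1.fittingSubgroup_eq_iSup_pCore]
      refine le_antisymm (iSup_le fun r => ?_) (le_iSup (fun r : Nat.Primes => Cfsg.pCore (r : ℕ) G) ⟨2, Nat.prime_two⟩)
      by_cases hr : (r : ℕ) = 2
      · rw [hr]
      · haveI := Fact.mk r.2
        have h0 : Cfsg.pCore (r : ℕ) G = ⊥ := by
          by_contra h0
          refine hodd _ (H1.pCore_normal' _ G) h0 ?_
          obtain ⟨j, hj⟩ := IsPGroup.iff_card.mp (H1.isPGroup_pCore (r : ℕ) G)
          rw [hj]
          exact (r.2.odd_of_ne_two hr).pow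
        rw [h0]; exact bot_le
    have h := H1.centralizer_fitting_le_of_isSolvable (G := G) inferInstance
    rwa [hF] at h
  have he : ∀ q : (Q : Subgroup G), orderOf (q : G) = orderOf (e q) := fun q => by
    rw [MulEquiv.orderOf_eq, Subgroup.orderOf_coe]
  -- `T` has an element of order `4`
  have hT4 : ∃ t ∈ T, orderOf t = 4 := by
    by_contra h4
    push Not at h4
    have hexp : ∀ t ∈ T, t ^ 2 = 1 := by
      intro t ht
      obtain ⟨k, hk⟩ := IsPGroup.iff_orderOf.mp hTp ⟨t, ht⟩
      rw [Subgroup.orderOf_mk] at hk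
      rcases k with _ | _ | k
      · rw [show t = 1 from orderOf_eq_one_iff.mp (by simpa using hk), one_pow]
      · exact orderOf_dvd_iff_pow_eq_one.mp (dvd_of_eq (hk.trans (pow_one 2)))
      · exfalso
        refine h4 (t ^ 2 ^ k) (pow_mem ht _) ?_
        rw [orderOf_pow_of_dvd (by positivity) (hk ▸ pow_dvd_pow 2 (by omega)), hk,
          Nat.pow_div (by omega) (by norm_num), show k + 1 + 1 - k = 2 by omega]
    have hTle : ∀ (t : G) (ht : t ∈ T), e ⟨t, hTQ ht⟩ ∈ zpowers (QuaternionGroup.a ((2 ^ n : ℕ) : ZMod (2 * 2 ^ n))) := by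
      intro t ht
      have h2 : (e ⟨t, hTQ ht⟩) ^ 2 = 1 := by
        rw [← map_pow, MulEquiv.map_eq_one_iff]; exact Subtype.ext (hexp t ht)
      rcases hq : e ⟨t, hTQ ht⟩ with i | i
      · rw [hq] at h2
        have hmem : (QuaternionGroup.a i : QuaternionGroup (2 ^ n)) ∈
            zpowers (QuaternionGroup.a 1 : QuaternionGroup (2 ^ n)) := by
          rw [← ZMod.natCast_zmod_val i, ← QuaternionGroup.a_one_pow]
          exact pow_mem (mem_zpowers _) _
        have hb : orderOf (QuaternionGroup.a ((2 ^ n : ℕ) : ZMod (2 * 2 ^ n)) : QuaternionGroup (2 ^ n)) = 2 := by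
          rw [← QuaternionGroup.a_one_pow, orderOf_pow_of_dvd (by positivity)
            (by rw [QuaternionGroup.orderOf_a_one]; exact dvd_mul_left _ _),
            QuaternionGroup.orderOf_a_one, Nat.mul_div_cancel _ (by positivity)]
        have hmem' : (QuaternionGroup.a ((2 ^ n : ℕ) : ZMod (2 * 2 ^ n)) : QuaternionGroup (2 ^ n)) ∈
            zpowers (QuaternionGroup.a 1 : QuaternionGroup (2 ^ n)) := by
          rw [← QuaternionGroup.a_one_pow]
          exact pow_mem (mem_zpowers _) _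
        obtain ⟨j, hj⟩ := mem_zpowers_iff.mp
          (H60.mem_zpowers_of_pow_orderOf_eq_one
            (C := zpowers (QuaternionGroup.a 1 : QuaternionGroup (2 ^ n))) inferInstance
            ⟨_, hmem'⟩ ⟨_, hmem⟩ (Subtype.ext (by
              rw [Subgroup.orderOf_mk, hb]
              exact h2)))
        exact mem_zpowers_iff.mpr ⟨j, by simpa using congrArg Subtype.val hj⟩
      · rw [hq] at h2
        have := orderOf_dvd_of_pow_eq_one h2
        rw [QuaternionGroup.orderOf_xa] at this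
        norm_num at this
    have hTc : T ≤ center G := by
      intro t ht
      rw [mem_center_iff]
      intro g
      have h1 := hTn.conj_mem t ht g
      obtain ⟨i, hi⟩ := mem_zpowers_iff.mp (hTle t ht)
      obtain ⟨j, hj⟩ := mem_zpowers_iff.mp (hTle _ h1)
      -- at most one nontrivial element
      have h2 : ∀ m : ℤ, (QuaternionGroup.a ((2 ^ n : ℕ) : ZMod (2 * 2 ^ n)) : QuaternionGroup (2 ^ n)) ^ m = 1 ∨
          (QuaternionGroup.a ((2 ^ n : ℕ) : ZMod (2 * 2 ^ n)) : QuaternionGroup (2 ^ n)) ^ m =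
            QuaternionGroup.a ((2 ^ n : ℕ) : ZMod (2 * 2 ^ n)) := by
        intro m
        have hsq : (QuaternionGroup.a ((2 ^ n : ℕ) : ZMod (2 * 2 ^ n)) : QuaternionGroup (2 ^ n)) ^ (2 : ℤ) = 1 := by
          rw [zpow_ofNat, ← QuaternionGroup.a_one_pow, ← pow_mul]
          refine orderOf_dvd_iff_pow_eq_one.mp ?_
          rw [QuaternionGroup.orderOf_a_one]
          exact dvd_of_eq (mul_comm _ _)
        rcases Int.even_or_odd m with ⟨l, rfl⟩ | ⟨l, rfl⟩
        · exact Or.inl (by rw [← two_mul, zpow_mul, hsq, one_zpow])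
        · exact Or.inr (by rw [zpow_add, zpow_mul, hsq, one_zpow, one_mul, zpow_one])
      have h3 : e ⟨g * t * g⁻¹, hTQ h1⟩ = e ⟨t, hTQ ht⟩ := by
        rcases eq_or_ne t 1 with rfl | ht1
        · simp
        have hne : ∀ (s : G) (hs : s ∈ (Q : Subgroup G)), s ≠ 1 → e ⟨s, hs⟩ ≠ 1 := fun s hs h1 h =>
          h1 (congrArg Subtype.val ((MulEquiv.map_eq_one_iff e).mp h))
        rw [← hi, ← hj]
        rw [((h2 j).resolve_left (hj ▸ hne _ _ (fun h => ht1 (conj_eq_one_iff.mp h)))),
          ((h2 i).resolve_left (hi ▸ hne _ _ ht1))]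
      have h4' := congrArg Subtype.val (e.injective h3)
      exact mul_inv_eq_iff_eq_mul.mp h4'
    have hGT : (⊤ : Subgroup G) ≤ T := le_trans (fun g _ => mem_centralizer_iff.mpr fun t ht =>
      ((mem_center_iff.mp (hTc ht)) g).symm) hcent
    refine h4 ((e.symm (QuaternionGroup.xa 0) : (Q : Subgroup G)) : G) (hGT (mem_top _)) ?_
    rw [he, e.apply_symm_apply, QuaternionGroup.orderOf_xa]
  obtain ⟨t, htT, ht⟩ := hT4
  -- all elements of order four lie in `T`, so `T = Q`
  have hQT : (Q : Subgroup G) ≤ T := by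
    have hxa : ∀ i, ((e.symm (QuaternionGroup.xa i) : (Q : Subgroup G)) : G) ∈ T := fun i =>
      H35.mem_normal_of_orderOf hB T htT
        (by rw [ht, he, e.apply_symm_apply, QuaternionGroup.orderOf_xa])
    intro q hq
    rcases hqe : e ⟨q, hq⟩ with i | i
    · have h1 : e.symm (QuaternionGroup.xa 0) * e.symm (QuaternionGroup.xa (((2 ^ n : ℕ) : ZMod _) * (-1) + i)) =
          ⟨q, hq⟩ := by
        rw [← map_mul, QuaternionGroup.xa_mul_xa]
        refine (e.symm_apply_eq).mpr ?_
        rw [hqe]; congr 1; ring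
      have h2 := mul_mem (hxa 0) (hxa (((2 ^ n : ℕ) : ZMod _) * (-1) + i))
      rw [← Subgroup.coe_mul, h1] at h2
      exact h2
    · have h1 := hxa i
      rwa [← hqe, e.symm_apply_apply] at h1
  set a : G := ((e.symm (QuaternionGroup.a 1) : (Q : Subgroup G)) : G) with ha
  have hao : orderOf a = 2 * 2 ^ n := by
    rw [ha, he, e.apply_symm_apply, QuaternionGroup.orderOf_a_one]
  have hbig : 4 < 2 * 2 ^ n := by
    have : 2 ^ 2 ≤ 2 ^ n := Nat.pow_le_pow_right (by norm_num) (by omega)
    omega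
  haveI hDn : (zpowers a).Normal := by
    have hconj : ∀ g : G, g * a * g⁻¹ ∈ zpowers a := by
      intro g
      have hgQ : g * a * g⁻¹ ∈ (Q : Subgroup G) :=
        hTQ (hTn.conj_mem a (hQT (e.symm (QuaternionGroup.a 1)).2) g)
      have ho : orderOf (g * a * g⁻¹) = 2 * 2 ^ n := by
        rw [← hao]; exact MulEquiv.orderOf_eq (MulAut.conj g) a
      rw [← Subgroup.orderOf_mk _ hgQ, ← MulEquiv.orderOf_eq e] at ho
      rcases hqe : e ⟨_, hgQ⟩ with i | i
      · have h1 : (⟨_, hgQ⟩ : (Q : Subgroup G)) = (e.symm (QuaternionGroup.a 1)) ^ i.val := by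
          rw [← map_pow, QuaternionGroup.a_one_pow, ZMod.natCast_zmod_val, ← hqe, e.symm_apply_apply]
        have h2 := congrArg Subtype.val h1
        simp only [SubmonoidClass.coe_pow] at h2
        rw [h2]
        exact pow_mem (mem_zpowers a) _
      · rw [hqe, QuaternionGroup.orderOf_xa] at ho
        omega
    refine ⟨fun x hx g => ?_⟩
    obtain ⟨k, rfl⟩ := mem_zpowers_iff.mp hx
    rw [← conj_zpow]
    exact zpow_mem (hconj g) k
  -- an element of order `4` outside `⟨a⟩` is conjugate into `⟨a⟩`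
  set b : G := a ^ (2 ^ n / 2) with hb
  have hd : 2 ∣ 2 ^ n := dvd_pow_self 2 (by omega)
  have hbo : orderOf b = 4 := by
    rw [hb, orderOf_pow_of_dvd (by have := Nat.div_pos (Nat.le_of_dvd (by positivity) hd) two_pos; omega)
      (by rw [hao]; exact (Nat.div_dvd_of_dvd hd).mul_left 2), hao]
    obtain ⟨c, hc⟩ := hd
    rw [hc, Nat.mul_div_cancel_left c two_pos]
    have hc0 : 0 < c := by
      rcases Nat.eq_zero_or_pos c with rfl | h
      · simp at hc
      · exact h
    rw [show 2 * (2 * c) = 4 * c by ring, Nat.mul_div_cancel _ hc0]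
  have hx := H35.mem_normal_of_orderOf hB (zpowers a) (m := b)
    (a := ((e.symm (QuaternionGroup.xa 0) : (Q : Subgroup G)) : G)) (pow_mem (mem_zpowers a) _)
    (by rw [hbo, he, e.apply_symm_apply, QuaternionGroup.orderOf_xa])
  obtain ⟨k, hk⟩ := mem_zpowers_iff.mp hx
  have h1 : (e.symm (QuaternionGroup.a 1)) ^ k = e.symm (QuaternionGroup.xa 0) :=
    Subtype.ext (by simpa using hk)
  rw [← map_zpow, e.symm.injective.eq_iff] at h1
  obtain ⟨j, hj⟩ : ∃ j : ℕ, (QuaternionGroup.a 1 : QuaternionGroup (2 ^ n)) ^ k =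
      QuaternionGroup.a 1 ^ j := by
    have h2 := mem_powers_iff_mem_zpowers.mpr
      (zpow_mem (mem_zpowers (QuaternionGroup.a 1 : QuaternionGroup (2 ^ n))) k)
    obtain ⟨j, hj⟩ := h2
    exact ⟨j, hj.symm⟩
  rw [hj, QuaternionGroup.a_one_pow] at h1
  cases h1

end H33
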