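import Mathlib
import Cfsg.Agent.H1.CoprimeAction
import Cfsg.Agent.H1.Hall

set_option autoImplicit false

namespace H33

universe u

variable {G : Type u} [Group G]

/-- `x` is a π-element. -/
def IsPiEl (π : Set ℕ) (x : G) : Prop := ∀ p : ℕ, p.Prime → p ∣ orderOf x → p ∈ π

/-- `x` is a π'-element. -/
def IsPiCoEl (π : Set ℕ) (x : G) : Prop := ∀ p : ℕ, p.Prime → p ∣ orderOf x → p ∉ π

/-- The π-elements form a subgroup. -/
def PiClosed (π : Set ℕ) (G : Type u) [Group G] : Prop :=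
  ∃ K : Subgroup G, ∀ x : G, x ∈ K ↔ IsPiEl π x

/-- Every π-element normalizing a π'-subgroup centralizes it. -/
def PiCoHomogeneous (π : Set ℕ) (G : Type u) [Group G] : Prop :=
  ∀ H : Subgroup G, (∀ p : ℕ, p.Prime → p ∣ Nat.card H → p ∉ π) →
    ∀ x ∈ Subgroup.normalizer (H : Set G), IsPiEl π x → x ∈ Subgroup.centralizer (H : Set G)

theorem isPiEl_of_dvd {H : Type*} [Group H] {π : Set ℕ} {x : G} {y : H} (h : IsPiEl π x)
    (hd : orderOf y ∣ orderOf x) : IsPiEl π y := fun p hp hpd => h p hp (hpd.trans hd)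

theorem eq_one_of_both {π : Set ℕ} {x : G} (h1 : IsPiEl π x) (h2 : IsPiCoEl π x) : x = 1 := by
  rw [← orderOf_eq_one_iff]
  by_contra h
  obtain ⟨p, hp, hd⟩ := Nat.exists_prime_and_dvd h
  exact h2 p hp hd (h1 p hp hd)

theorem isPiEl_mul {π : Set ℕ} {a b : G} (hc : Commute a b) (ha : IsPiEl π a) (hb : IsPiEl π b) :
    IsPiEl π (a * b) := fun p hp hd => by
  rcases hp.dvd_mul.1 (hd.trans hc.orderOf_mul_dvd_mul_orderOf) with h | h
  exacts [ha p hp h, hb p hp h]

variable [Finite G]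

/-- π-part and π'-part of an element. -/
theorem exists_pi_decomp (π : Set ℕ) (x : G) :
    ∃ i j : ℤ, x = x ^ i * x ^ j ∧ IsPiEl π (x ^ i) ∧ IsPiCoEl π (x ^ j) := by
  obtain ⟨m, n, hmn, hcop, hm, hn⟩ := H1.exists_prime_split (fun p => p ∈ π) (orderOf_pos x).ne'
  have hb := Nat.gcd_eq_gcd_ab m n
  rw [hcop.gcd_eq_one, Nat.cast_one] at hb
  refine ⟨(n : ℤ) * Nat.gcdB m n, (m : ℤ) * Nat.gcdA m n, ?_, ?_, ?_⟩
  · rw [← zpow_add, add_comm, ← hb, zpow_one]
  · intro p hp hd
    refine hm p hp (hd.trans (orderOf_dvd_of_pow_eq_one ?_))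
    rw [← zpow_natCast, ← zpow_mul,
      show (n : ℤ) * Nat.gcdB m n * m = ((orderOf x : ℕ) : ℤ) * Nat.gcdB m n by
        rw [hmn]; push_cast; ring, zpow_mul, zpow_natCast, pow_orderOf_eq_one, one_zpow]
  · intro p hp hd
    refine hn p hp (hd.trans (orderOf_dvd_of_pow_eq_one ?_))
    rw [← zpow_natCast, ← zpow_mul,
      show (m : ℤ) * Nat.gcdA m n * n = ((orderOf x : ℕ) : ℤ) * Nat.gcdA m n by
        rw [hmn]; push_cast; ring, zpow_mul, zpow_natCast, pow_orderOf_eq_one, one_zpow]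

/-- A π-element of a quotient lifts to a π-element. -/
theorem exists_pi_lift (π : Set ℕ) (L : Subgroup G) [L.Normal] {y : G ⧸ L} (hy : IsPiEl π y) :
    ∃ x : G, (x : G ⧸ L) = y ∧ IsPiEl π x := by
  obtain ⟨u, rfl⟩ := QuotientGroup.mk_surjective y
  obtain ⟨i, j, hu, hi, hj⟩ := exists_pi_decomp π u
  refine ⟨u ^ i, ?_, hi⟩
  have h1 : IsPiCoEl π ((u ^ j : G) : G ⧸ L) := fun p hp hd =>
    hj p hp (hd.trans (orderOf_map_dvd (QuotientGroup.mk' L) _))
  have h2 : IsPiEl π ((u ^ j : G) : G ⧸ L) := by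
    intro p hp hd
    rw [QuotientGroup.mk_zpow] at hd
    exact hy p hp (hd.trans (orderOf_dvd_of_mem_zpowers (Subgroup.zpow_mem_zpowers _ _)))
  conv_rhs => rw [hu, QuotientGroup.mk_mul, eq_one_of_both h2 h1, mul_one]

/-- A π-closed group: the subgroup of π-elements is a π-group of π'-index. -/
theorem piClosed_card {π : Set ℕ} {K : Subgroup G} (hK : ∀ x : G, x ∈ K ↔ IsPiEl π x) :
    (∀ p : ℕ, p.Prime → p ∣ Nat.card K → p ∈ π) ∧ (∀ p : ℕ, p.Prime → p ∣ K.index → p ∉ π) := by
  constructor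
  · intro p hp hd
    have : Fact p.Prime := ⟨hp⟩
    obtain ⟨x, hx⟩ := exists_prime_orderOf_dvd_card' p hd
    exact (hK x).1 x.2 p hp (by rw [Subgroup.orderOf_coe, hx])
  · intro p hp hd hpπ
    have : Fact p.Prime := ⟨hp⟩
    obtain ⟨P⟩ : Nonempty (Sylow p G) := inferInstance
    refine P.not_dvd_index (hd.trans (Subgroup.index_dvd_of_le fun x hx => (hK x).2 ?_))
    intro q hq hqd
    obtain ⟨k, hk⟩ := (IsPGroup.iff_orderOf (p := p)).1 P.isPGroup' ⟨x, hx⟩
    rw [Subgroup.orderOf_mk] at hk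
    exact (Nat.prime_dvd_prime_iff_eq hq hp).1 (hq.dvd_of_dvd_pow (hk ▸ hqd)) ▸ hpπ

omit [Finite G] in
theorem piClosed_normal {π : Set ℕ} {K : Subgroup G} (hK : ∀ x : G, x ∈ K ↔ IsPiEl π x) :
    K.Normal :=
  ⟨fun n hn g => (hK _).2 (isPiEl_of_dvd ((hK n).1 hn)
    (dvd_of_eq (by rw [← MulAut.conj_apply, MulEquiv.orderOf_eq])))⟩

omit [Finite G] in
theorem isPiEl_of_card {π : Set ℕ} {K : Subgroup G}
    (hK : ∀ p : ℕ, p.Prime → p ∣ Nat.card K → p ∈ π) {x : G} (hx : x ∈ K) : IsPiEl π x :=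
  fun p hp hd => hK p hp (hd.trans (Subgroup.orderOf_dvd_natCard K hx))

/-- Preimages: an extension of a π-group by a π-closed group is π-closed. -/
theorem piClosed_of_quotient {π : Set ℕ} (L : Subgroup G) [L.Normal]
    (hL : ∀ p : ℕ, p.Prime → p ∣ Nat.card L → p ∈ π) (h : PiClosed π (G ⧸ L)) : PiClosed π G := by
  obtain ⟨C, hC⟩ := h
  refine ⟨C.comap (QuotientGroup.mk' L), fun x => ⟨fun hx p hp hd => ?_, fun hx => ?_⟩⟩
  · have h1 : p ∣ orderOf (QuotientGroup.mk' L x) * Nat.card L := by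
      refine hd.trans (orderOf_dvd_of_pow_eq_one ?_)
      have h3 : x ^ orderOf (QuotientGroup.mk' L x) ∈ L := by
        refine (QuotientGroup.eq_one_iff _).1 ?_
        rw [QuotientGroup.mk_pow]
        exact pow_orderOf_eq_one _
      rw [pow_mul]
      exact congrArg Subtype.val (pow_card_eq_one' (G := L) (x := ⟨_, h3⟩))
    rcases hp.dvd_mul.1 h1 with h2 | h2
    · exact (hC _).1 hx p hp h2
    · exact hL p hp h2
  · exact (hC _).2 (isPiEl_of_dvd hx (orderOf_map_dvd _ _))

/-- Central π'-extension step. -/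
theorem piClosed_of_centralized {π : Set ℕ} (K : Subgroup G) [K.Normal]
    (hK : ∀ p : ℕ, p.Prime → p ∣ Nat.card K → p ∉ π) (hq : PiClosed π (G ⧸ K))
    (hc : ∀ x : G, IsPiEl π x → x ∈ Subgroup.centralizer (K : Set G)) : PiClosed π G := by
  obtain ⟨C₀, hC₀⟩ := hq
  set C := Subgroup.closure {x : G | IsPiEl π x} with hCdef
  have hCK : C ≤ Subgroup.centralizer (K : Set G) := (Subgroup.closure_le _).2 fun x hx => hc x hx
  have hC0 : C ≤ C₀.comap (QuotientGroup.mk' K) := (Subgroup.closure_le _).2 fun x hx =>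
    (hC₀ _).2 (isPiEl_of_dvd hx (orderOf_map_dvd _ _))
  set Z := K.subgroupOf C with hZ
  have hidx : ∀ p : ℕ, p.Prime → p ∣ Z.index → p ∈ π := by
    intro p hp hd
    have : Fact p.Prime := ⟨hp⟩
    rw [Subgroup.index_eq_card] at hd
    obtain ⟨y, hy⟩ := exists_prime_orderOf_dvd_card' p hd
    obtain ⟨c, rfl⟩ := QuotientGroup.mk_surjective y
    have h1 := (hC₀ _).1 (hC0 c.2) p hp
    refine h1 ?_
    have h2 : orderOf ((c : C ⧸ Z)) ∣ orderOf (QuotientGroup.mk' K (c : G)) := by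
      apply orderOf_dvd_of_pow_eq_one
      rw [← QuotientGroup.mk_pow, QuotientGroup.eq_one_iff, hZ, Subgroup.mem_subgroupOf,
        SubmonoidClass.coe_pow, ← QuotientGroup.eq_one_iff, QuotientGroup.mk_pow]
      exact pow_orderOf_eq_one _
    exact hy ▸ h2
  have hZcard : ∀ p : ℕ, p.Prime → p ∣ Nat.card Z → p ∉ π := by
    intro p hp hd
    refine hK p hp (hd.trans ?_)
    rw [← Subgroup.card_map_of_injective C.subtype_injective, hZ, Subgroup.subgroupOf_map_subtype]
    exact Subgroup.card_dvd_of_le inf_le_left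
  have hcop : (Nat.card Z).Coprime Z.index :=
    Nat.coprime_of_dvd fun p hp h1 h2 => hZcard p hp h1 (hidx p hp h2)
  obtain ⟨X, hX⟩ := Subgroup.exists_right_complement'_of_coprime hcop
  have hXn : X.Normal := by
    refine ⟨fun x hx c => ?_⟩
    obtain ⟨z, hz, y, hy, rfl⟩ := Subgroup.mem_sup_of_normal_left.1
      (hX.sup_eq_top.symm ▸ Subgroup.mem_top c : c ∈ Z ⊔ X)
    have hzc : ∀ w : C, w * z = z * w := fun w => Subtype.ext
      (Subgroup.mem_centralizer_iff.1 (hCK w.2) _ (Subgroup.mem_subgroupOf.1 hz)).symm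
    have e : z * y * x * (z * y)⁻¹ = y * x * y⁻¹ := by
      calc z * y * x * (z * y)⁻¹ = z * (y * x * y⁻¹) * z⁻¹ := by group
        _ = y * x * y⁻¹ := by rw [← hzc (y * x * y⁻¹), mul_inv_cancel_right]
    rw [e]
    exact mul_mem (mul_mem hy hx) (inv_mem hy)
  have hXidx : ∀ p : ℕ, p.Prime → p ∣ X.index → p ∉ π := fun p hp hd =>
    hZcard p hp (hX.index_eq_card ▸ hd)
  have hall : ∀ c : C, c ∈ X := by
    rintro ⟨c, hc'⟩
    refine Subgroup.closure_induction (p := fun g hg => (⟨g, hg⟩ : C) ∈ X) ?_ (one_mem _)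
      (fun a b _ _ ha hb => X.mul_mem ha hb) (fun a _ ha => X.inv_mem ha) hc'
    intro g hg
    refine (QuotientGroup.eq_one_iff _).1 (eq_one_of_both (π := π) ?_ ?_)
    · refine isPiEl_of_dvd hg ((orderOf_map_dvd (QuotientGroup.mk' X) _).trans ?_)
      exact (Subgroup.orderOf_mk g _).dvd
    · intro p hp hd
      exact hXidx p hp (hd.trans (Subgroup.index_eq_card X ▸ orderOf_dvd_natCard _))
  refine ⟨C, fun x => ⟨fun hx => ?_, fun hx => Subgroup.subset_closure hx⟩⟩
  have hcard : ∀ p : ℕ, p.Prime → p ∣ Nat.card X → p ∈ π := fun p hp hd =>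
    hidx p hp (hX.symm.index_eq_card ▸ hd)
  have := isPiEl_of_card hcard (hall ⟨x, hx⟩)
  intro p hp hd
  exact this p hp (by rwa [Subgroup.orderOf_mk])

/-- An extension of π-closed groups inside a π'-homogeneous group is π-closed. -/
theorem piClosed_extension {π : Set ℕ} (hom : PiCoHomogeneous π G) (K : Subgroup G) [K.Normal]
    (hK : PiClosed π K) (hQ : PiClosed π (G ⧸ K)) : PiClosed π G := by
  obtain ⟨L', hL'⟩ := hK
  set L := L'.map K.subtype with hLdef
  have hLmem : ∀ x : G, x ∈ L ↔ x ∈ K ∧ IsPiEl π x := by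
    intro x
    constructor
    · rintro ⟨k, hk, rfl⟩
      exact ⟨k.2, isPiEl_of_dvd ((hL' k).1 hk) (Subgroup.orderOf_coe k).dvd⟩
    · rintro ⟨hx, hxπ⟩
      exact ⟨⟨x, hx⟩, (hL' _).2 (isPiEl_of_dvd hxπ (Subgroup.orderOf_mk x hx).dvd), rfl⟩
  have hLK : L ≤ K := fun x hx => ((hLmem x).1 hx).1
  have hLn : L.Normal := ⟨fun n hn g => (hLmem _).2 ⟨(‹K.Normal›).conj_mem n ((hLmem n).1 hn).1 g,
    isPiEl_of_dvd ((hLmem n).1 hn).2 (dvd_of_eq (by rw [← MulAut.conj_apply, MulEquiv.orderOf_eq]))⟩⟩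
  have hLc := (piClosed_card hL').1
  have hLcard : ∀ p : ℕ, p.Prime → p ∣ Nat.card L → p ∈ π := fun p hp hd =>
    hLc p hp (by rwa [hLdef, Subgroup.card_map_of_injective K.subtype_injective] at hd)
  apply piClosed_of_quotient L hLcard
  set φ := QuotientGroup.mk' L with hφ
  have hφs : Function.Surjective φ := QuotientGroup.mk'_surjective L
  set K' := K.map φ with hK'
  have hK'n : K'.Normal := Subgroup.Normal.map inferInstance φ hφs
  have hK'card : ∀ p : ℕ, p.Prime → p ∣ Nat.card K' → p ∉ π := by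
    intro p hp hd
    refine (piClosed_card hL').2 p hp (hd.trans (dvd_of_eq ?_))
    rw [hK', ← Subgroup.relIndex_ker, hφ, QuotientGroup.ker_mk', Subgroup.relIndex]
    congr 1
    rw [hLdef]
    exact Subgroup.comap_map_eq_self_of_injective K.subtype_injective L'
  refine piClosed_of_centralized K' hK'card ?_ ?_
  · obtain ⟨C₀, hC₀⟩ := hQ
    let e : (G ⧸ L) ⧸ K' ≃* G ⧸ K := QuotientGroup.quotientQuotientEquivQuotient L K hLK
    exact ⟨C₀.comap e.toMonoidHom, fun x => (hC₀ (e x)).trans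
      ⟨fun h => isPiEl_of_dvd h (MulEquiv.orderOf_eq e x).symm.dvd,
        fun h => isPiEl_of_dvd h (MulEquiv.orderOf_eq e x).dvd⟩⟩
  intro y hy
  obtain ⟨x, hxy, hx⟩ := exists_pi_lift π L hy
  change φ x = y at hxy
  set Cy := Subgroup.centralizer ({y} : Set (G ⧸ L)) with hCy
  -- `y` centralizes a Sylow subgroup of `K'` for every prime
  have key : ∀ q : ℕ, q.Prime → q ∣ Nat.card K' →
      ¬ q ∣ ((Cy ⊓ K').subgroupOf K').index := by
    intro q hq hqd
    have : Fact q.Prime := ⟨hq⟩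
    have hqπ : q ∉ π := hK'card q hq hqd
    have hAK : Subgroup.zpowers y ≤ Subgroup.normalizer (K' : Set (G ⧸ L)) := by
      rw [Subgroup.normalizer_eq_top K']; exact le_top
    have hcop : (Nat.card (Subgroup.zpowers y)).Coprime (Nat.card K') := by
      rw [Nat.card_zpowers]
      exact Nat.coprime_of_dvd fun p hp h1 h2 => hK'card p hp h2 (hy p hp h1)
    obtain ⟨P, hP⟩ := H1.exists_invariant_sylow hAK hcop (Or.inl inferInstance) q
    set Qb := (P : Subgroup K').map K'.subtype with hQb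
    have hyQ : y ∈ Subgroup.normalizer (Qb : Set (G ⧸ L)) := hP (Subgroup.mem_zpowers y)
    set W := Qb.comap φ with hW
    obtain ⟨Q⟩ : Nonempty (Sylow q W) := inferInstance
    set Q' := (Q : Subgroup W).map W.subtype with hQ'
    have hxW : x ∈ Subgroup.normalizer (W : Set G) := by
      rw [Subgroup.mem_normalizer_iff]
      intro w
      show φ w ∈ Qb ↔ φ (x * w * x⁻¹) ∈ Qb
      rw [map_mul, map_mul, map_inv, hxy]
      exact Subgroup.mem_normalizer_iff.1 hyQ (φ w)
    -- move to an element normalizing `Q'`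
    obtain ⟨w, hw, hn⟩ : ∃ w ∈ W, w * x ∈ Subgroup.normalizer (Q' : Set G) := by
      have hmem : ∀ s : (Q : Subgroup W), x * ((s : W) : G) * x⁻¹ ∈ W := fun s =>
        (Subgroup.mem_normalizer_iff.1 hxW _).1 (s : W).2
      let f : (Q : Subgroup W) →* W :=
        { toFun := fun s => ⟨x * ((s : W) : G) * x⁻¹, hmem s⟩
          map_one' := Subtype.ext (by simp)
          map_mul' := fun a b => Subtype.ext (by simp [mul_assoc]) }
      have hf : Function.Injective f := by
        intro a b h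
        exact Subtype.ext (Subtype.ext (mul_left_cancel (mul_right_cancel (congrArg Subtype.val h))))
      have hR : Nat.card f.range = q ^ (Nat.card W).factorization q := by
        rw [Nat.card_congr (MonoidHom.ofInjective hf).toEquiv.symm, Q.card_eq_multiplicity]
      obtain ⟨w, hw⟩ := MulAction.exists_smul_eq W (Sylow.ofCard _ hR) Q
      refine ⟨w, w.2, ?_⟩
      apply Subgroup.mem_normalizer_fintype
      rintro _ ⟨s, hs, rfl⟩
      have h1 : w * f ⟨s, hs⟩ * w⁻¹ ∈ ((w • Sylow.ofCard _ hR : Sylow q W) : Subgroup W) :=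
        Subgroup.smul_mem_pointwise_smul _ (MulAut.conj w) _ ⟨⟨s, hs⟩, rfl⟩
      rw [hw] at h1
      refine ⟨_, h1, ?_⟩
      show ((w : W) : G) * (x * (s : G) * x⁻¹) * ((w : W) : G)⁻¹ = _
      group
      rfl
    obtain ⟨k, hk⟩ := Q.isPGroup'.exists_card_eq
    have hQ'card : Nat.card Q' = q ^ k := by
      rw [hQ', Subgroup.card_map_of_injective W.subtype_injective, hk]
    obtain ⟨i, j, hij, hi, hj⟩ := exists_pi_decomp π (w * x)
    have hn₁ : (w * x) ^ i ∈ Subgroup.centralizer (Q' : Set G) :=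
      hom Q' (fun p hp hd => by
        rw [hQ'card] at hd
        exact (Nat.prime_dvd_prime_iff_eq hp hq).1 (hp.dvd_of_dvd_pow hd) ▸ hqπ)
        _ (zpow_mem hn i) hi
    -- `φ` maps `Q'` onto `Qb`
    have hQ'Qb : Q'.map φ = Qb := by
      have hle : Q'.map φ ≤ Qb := by
        rintro _ ⟨_, ⟨s, -, rfl⟩, rfl⟩
        exact s.2
      refine Subgroup.eq_of_le_of_card_ge hle ?_
      have hinj : Disjoint Q' φ.ker := by
        rw [hφ, QuotientGroup.ker_mk']
        refine Subgroup.disjoint_of_coprime_natCard ?_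
        rw [hQ'card]
        exact Nat.Coprime.pow_left _ (hq.coprime_iff_not_dvd.2 fun hd => hqπ (hLcard q hq hd))
      rw [H1.card_map_of_disjoint φ Q' hinj, hQ'card, ← hk, Q.card_eq_multiplicity]
      have hWcard : Nat.card W = Nat.card L * Nat.card Qb := by
        have := Subgroup.card_mul_index (L.subgroupOf W)
        have hLW : L ≤ W := fun l hl => by
          show φ l ∈ Qb
          rw [show φ l = 1 from (QuotientGroup.eq_one_iff l).2 hl]; exact one_mem _
        rw [Nat.card_congr (Subgroup.subgroupOfEquivOfLe hLW).toEquiv] at this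
        rw [← this]
        congr 1
        have h2 : L.relIndex W = Nat.card (W.map φ) := by
          rw [← Subgroup.relIndex_ker, hφ, QuotientGroup.ker_mk']
        rw [hW, Subgroup.map_comap_eq_self_of_surjective hφs] at h2
        exact h2
      rw [hWcard, Nat.factorization_mul Nat.card_pos.ne' Nat.card_pos.ne', Finsupp.add_apply,
        Nat.factorization_eq_zero_of_not_dvd (fun hd => hqπ (hLcard q hq hd)), zero_add]
      obtain ⟨l, hl⟩ := P.isPGroup'.exists_card_eq
      rw [hQb, Subgroup.card_map_of_injective K'.subtype_injective, hl,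
        Nat.Prime.factorization_pow hq, Finsupp.single_eq_same]
    -- the images
    have hq₀ : φ w ∈ Qb := hw
    have ha : φ ((w * x) ^ i) ∈ Subgroup.centralizer (Qb : Set (G ⧸ L)) := by
      rw [← hQ'Qb]
      refine Subgroup.mem_centralizer_iff.2 ?_
      rintro _ ⟨s, hs, rfl⟩
      rw [← map_mul, ← map_mul, Subgroup.mem_centralizer_iff.1 hn₁ s hs]
    -- the π'-part lies in `Qb`
    have hb : φ ((w * x) ^ j) ∈ Qb := by
      set M := Subgroup.normalizer (Qb : Set (G ⧸ L))
      have hwM : φ w ∈ M := Subgroup.le_normalizer hq₀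
      have hQbn : (Qb.subgroupOf M).Normal := Subgroup.normal_in_normalizer
      set ψ := QuotientGroup.mk' (Qb.subgroupOf M)
      have hmem : φ ((w * x) ^ j) ∈ M := by
        rw [map_zpow, map_mul, hxy]; exact zpow_mem (mul_mem hwM hyQ) j
      have heq : ψ ⟨_, hmem⟩ = (ψ ⟨y, hyQ⟩) ^ j := by
        have hyv : (⟨_, hmem⟩ : M) = ((⟨φ w, hwM⟩ : M) * ⟨y, hyQ⟩) ^ j := by
          apply Subtype.ext
          push_cast
          rw [map_zpow, map_mul, hxy]
        rw [hyv, map_zpow, map_mul,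
          show ψ ⟨φ w, hwM⟩ = 1 from (QuotientGroup.eq_one_iff _).2 (Subgroup.mem_subgroupOf.2 hq₀),
          one_mul]
      have h1 : ψ ⟨_, hmem⟩ = 1 := by
        refine eq_one_of_both (π := π) ?_ ?_
        · rw [heq]
          refine isPiEl_of_dvd hy ?_
          refine (orderOf_dvd_of_mem_zpowers (Subgroup.zpow_mem_zpowers _ _)).trans ?_
          exact (orderOf_map_dvd ψ _).trans (Subgroup.orderOf_mk y _).dvd
        · intro p hp hd
          exact hj p hp (hd.trans ((orderOf_map_dvd ψ _).trans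
            (((Subgroup.orderOf_mk _ _).dvd).trans (orderOf_map_dvd φ _))))
      exact Subgroup.mem_subgroupOf.1 ((QuotientGroup.eq_one_iff _).1 h1)
    have heq : (φ w)⁻¹ * φ ((w * x) ^ j) * φ ((w * x) ^ i) = y := by
      rw [mul_assoc, ← map_mul, ← map_inv, ← map_mul, ← hxy]
      congr 1
      rw [← zpow_add, add_comm, zpow_add, ← hij, inv_mul_cancel_left]
    set c := (φ w)⁻¹ * φ ((w * x) ^ j) with hc
    have hcQ : c ∈ Qb := mul_mem (inv_mem hq₀) hb
    set a := φ ((w * x) ^ i) with hadef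
    have hca : Commute c a := Subgroup.mem_centralizer_iff.1 ha c hcQ
    have hc1 : c = 1 := by
      refine eq_one_of_both (π := π) ?_ ?_
      · have hcy : c = y * a⁻¹ := by rw [← heq]; group
        rw [hcy]
        refine isPiEl_mul ?_ hy (isPiEl_of_dvd (y := a⁻¹) hi (by
          rw [orderOf_inv]; exact orderOf_map_dvd φ _))
        rw [← heq]
        exact (hca.mul_left (Commute.refl a)).inv_right
      · intro p hp hd
        obtain ⟨l, hl⟩ := P.isPGroup'.exists_card_eq
        have := hd.trans (Subgroup.orderOf_dvd_natCard Qb hcQ)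
        rw [hQb, Subgroup.card_map_of_injective K'.subtype_injective, hl] at this
        exact (Nat.prime_dvd_prime_iff_eq hp hq).1 (hp.dvd_of_dvd_pow this) ▸ hqπ
    rw [hc1, one_mul] at heq
    have hle : (P : Subgroup K') ≤ (Cy ⊓ K').subgroupOf K' := by
      intro s hs
      refine Subgroup.mem_subgroupOf.2 ⟨Subgroup.mem_centralizer_iff.2 fun z hz => ?_, s.2⟩
      rw [Set.mem_singleton_iff.1 hz, ← heq]
      exact (Subgroup.mem_centralizer_iff.1 ha _ (Subgroup.mem_map_of_mem _ hs)).symm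
    intro hd
    exact P.not_dvd_index (hd.trans (Subgroup.index_dvd_of_le hle))
  have htop : (Cy ⊓ K').subgroupOf K' = ⊤ := by
    rw [← Subgroup.index_eq_one]
    by_contra hne
    obtain ⟨q, hq, hqd⟩ := Nat.exists_prime_and_dvd hne
    exact key q hq (hqd.trans (Subgroup.index_dvd_card _)) hqd
  refine Subgroup.mem_centralizer_iff.2 fun z hz => ?_
  have h1 : (⟨z, hz⟩ : K') ∈ (Cy ⊓ K').subgroupOf K' := htop ▸ Subgroup.mem_top _
  exact (Subgroup.mem_centralizer_iff.1 (Subgroup.mem_subgroupOf.1 h1).1 y rfl).symm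

/-- The normalizer/centralizer formulation gives `PiCoHomogeneous`. -/
theorem piCoHomogeneous_of_relIndex {π : Set ℕ}
    (h : ∀ H : Subgroup G, H ≠ ⊥ → (∀ p : ℕ, p.Prime → p ∣ Nat.card ↥H → p ∉ π) →
      ∀ p : ℕ, p.Prime → p ∣ (Subgroup.centralizer (H : Set G)).relIndex (Subgroup.normalizer (H : Set G)) → p ∉ π) :
    PiCoHomogeneous π G := by
  intro H hH x hxN hx
  by_cases hbot : H = ⊥
  · subst hbot
    refine Subgroup.mem_centralizer_iff.2 fun y hy => ?_
    rw [show y = 1 from hy, one_mul, mul_one]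
  set N := Subgroup.normalizer (H : Set G)
  have hn : ((Subgroup.centralizer (H : Set G)).subgroupOf N).Normal :=
    Subgroup.normal_subgroupOf_centralizer_normalizer _
  set C := (Subgroup.centralizer (H : Set G)).subgroupOf N
  have h1 : ((⟨x, hxN⟩ : N) : N ⧸ C) = 1 := by
    refine eq_one_of_both (π := π) (isPiEl_of_dvd hx ?_) ?_
    · exact (orderOf_map_dvd (QuotientGroup.mk' C) _).trans (Subgroup.orderOf_mk x _).dvd
    · intro p hp hd
      refine h H hbot hH p hp (hd.trans ((orderOf_dvd_natCard _).trans ?_))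
      rw [← Subgroup.index_eq_card]
      exact dvd_rfl
  exact Subgroup.mem_subgroupOf.1 ((QuotientGroup.eq_one_iff _).1 h1)

omit [Finite G] in
theorem piCoHomogeneous_subgroup {π : Set ℕ} (h : PiCoHomogeneous π G) (M : Subgroup G) :
    PiCoHomogeneous π M := by
  intro H hH x hxN hx
  have h1 := h (H.map M.subtype) (fun p hp hd =>
    hH p hp (by rwa [Subgroup.card_map_of_injective M.subtype_injective] at hd)) x
    (Subgroup.le_normalizer_map M.subtype (Subgroup.mem_map_of_mem _ hxN))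
    (isPiEl_of_dvd hx (Subgroup.orderOf_coe x).dvd)
  exact Subgroup.mem_centralizer_iff.2 fun y hy =>
    Subtype.ext (Subgroup.mem_centralizer_iff.1 h1 _ (Subgroup.mem_map_of_mem _ hy))

end H33
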