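import Cfsg.Agent.H33.AbConjStruct
import Cfsg.Agent.H33.PiClosed

set_option autoImplicit false

/-!
Quaternion Sylow subgroups in solvable groups with conjugate abelian subgroups of equal order, and
their action on the elementary abelian normal Sylow subgroups.
-/

namespace H33

open Subgroup

set_option linter.style.haveILetI false
set_option linter.unusedSectionVars false

universe u

variable {G : Type u} [Group G] [Finite G]

/-- A normal subgroup with an element of order `4` contains a quaternion Sylow subgroup. -/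
theorem quaternion_le_of_order_four (hB : AbConj G) (M : Subgroup G) [M.Normal] {n : ℕ}
    (Q : Sylow 2 G) (e : (Q : Subgroup G) ≃* QuaternionGroup (2 ^ n)) {m : G} (hm : m ∈ M)
    (hmo : orderOf m = 4) : (Q : Subgroup G) ≤ M := by
  haveI : NeZero (2 ^ n) := ⟨by positivity⟩
  have hxa : ∀ i, ((e.symm (QuaternionGroup.xa i) : (Q : Subgroup G)) : G) ∈ M := fun i =>
    H35.mem_normal_of_orderOf hB M hm (by
      rw [hmo, Subgroup.orderOf_coe, MulEquiv.orderOf_eq, QuaternionGroup.orderOf_xa])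
  intro q hq
  rcases hqe : e ⟨q, hq⟩ with i | i
  · have h1 : e.symm (QuaternionGroup.xa 0) * e.symm (QuaternionGroup.xa (((2 ^ n : ℕ) : ZMod _) * (-1) + i)) =
        ⟨q, hq⟩ := by
      rw [← map_mul, QuaternionGroup.xa_mul_xa]
      refine (e.symm_apply_eq).mpr ?_
      rw [hqe]; congr 1; ring
    have h2 := mul_mem (hxa 0) (hxa (((2 ^ n : ℕ) : ZMod _) * (-1) + i))
    rw [← Subgroup.coe_mul, h1] at h2
    exact h2
  · have h1 := hxa i
    rwa [← hqe, e.symm_apply_apply] at h1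

/-- A noncyclic Sylow `2`-subgroup of the first type is quaternion of order `8`, and its two
standard generators and their product have order `4`. -/
theorem quaternion_gens [Group.IsSolvable G] (hB : AbConj G) (Q : Sylow 2 G) (hU : UType 2 G)
    (hnc : ¬ IsCyclic (Q : Subgroup G)) :
    Nat.card Q = 8 ∧ ∃ e : (Q : Subgroup G) ≃* QuaternionGroup (2 ^ 1),
      ∀ x ∈ ({QuaternionGroup.a 1, QuaternionGroup.xa 0,
        QuaternionGroup.a 1 * QuaternionGroup.xa 0} : Set (QuaternionGroup (2 ^ 1))),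
        orderOf ((e.symm x : (Q : Subgroup G)) : G) = 4 := by
  obtain ⟨-, n, ⟨e⟩⟩ := (H2.cyclic_or_quaternion_of_unique Q.isPGroup' (hU Q)).resolve_left hnc
  have hn : n = 1 := by
    have h1 := quaternion_le (Nat.card G) G le_rfl hB Q n ⟨e⟩
    by_contra h
    have h0 : n = 0 := by omega
    subst h0
    haveI : IsCyclic (QuaternionGroup (2 ^ 0)) := QuaternionGroup.quaternionGroup_one_isCyclic
    exact hnc (isCyclic_of_surjective e.symm.toMonoidHom e.symm.surjective)
  subst hn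
  refine ⟨?_, e, fun x hx => ?_⟩
  · rw [Nat.card_congr e.toEquiv, Nat.card_eq_fintype_card, QuaternionGroup.card]
    norm_num
  · rw [Subgroup.orderOf_coe, MulEquiv.orderOf_eq]
    rcases hx with rfl | rfl | rfl
    · rw [QuaternionGroup.orderOf_a_one]; norm_num
    · rw [QuaternionGroup.orderOf_xa]
    · rw [QuaternionGroup.a_mul_xa, QuaternionGroup.orderOf_xa]

theorem commutator_le_centralizer_cyclic (D : Subgroup G) [D.Normal] (hD : IsCyclic D) :
    commutator G ≤ centralizer (D : Set G) := by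
  rw [commutator_eq_closure, closure_le]
  rintro _ ⟨a, b, rfl⟩
  haveI := hD
  rw [SetLike.mem_coe, mem_centralizer_iff]
  intro z hz
  obtain ⟨i, hi⟩ := MonoidHom.map_cyclic ((MulAut.conjNormal a : MulAut D).toMonoidHom)
  obtain ⟨j, hj⟩ := MonoidHom.map_cyclic ((MulAut.conjNormal b : MulAut D).toMonoidHom)
  have hi' : ∀ y ∈ D, a * y * a⁻¹ = y ^ i := fun y hy => congrArg Subtype.val (hi ⟨y, hy⟩)
  have hj' : ∀ y ∈ D, b * y * b⁻¹ = y ^ j := fun y hy => congrArg Subtype.val (hj ⟨y, hy⟩)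
  have h1 : (a * b) * z * (a * b)⁻¹ = (b * a) * z * (b * a)⁻¹ := by
    calc (a * b) * z * (a * b)⁻¹ = a * (b * z * b⁻¹) * a⁻¹ := by group
      _ = (z ^ j) ^ i := by rw [hj' z hz, hi' _ (zpow_mem hz j)]
      _ = (z ^ i) ^ j := by rw [← zpow_mul, ← zpow_mul, mul_comm]
      _ = b * (a * z * a⁻¹) * b⁻¹ := by rw [hi' z hz, hj' _ (zpow_mem hz i)]
      _ = (b * a) * z * (b * a)⁻¹ := by group
  have hu : (b * a)⁻¹ * (a * b) * z = z * ((b * a)⁻¹ * (a * b)) := by
    calc (b * a)⁻¹ * (a * b) * z = (b * a)⁻¹ * ((a * b) * z * (a * b)⁻¹) * (a * b) := by group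
      _ = (b * a)⁻¹ * ((b * a) * z * (b * a)⁻¹) * (a * b) := by rw [h1]
      _ = z * ((b * a)⁻¹ * (a * b)) := by group
  -- transport along conjugation
  have hz' : (b * a)⁻¹ * z * (b * a) ∈ D := (inferInstance : D.Normal).conj_mem' z hz _
  have hu' : (b * a)⁻¹ * (a * b) * ((b * a)⁻¹ * z * (b * a)) =
      ((b * a)⁻¹ * z * (b * a)) * ((b * a)⁻¹ * (a * b)) := by
    have h2 : (a * b) * ((b * a)⁻¹ * z * (b * a)) * (a * b)⁻¹ = z := by
      calc (a * b) * ((b * a)⁻¹ * z * (b * a)) * (a * b)⁻¹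
          = a * (b * ((b * a)⁻¹ * z * (b * a)) * b⁻¹) * a⁻¹ := by group
        _ = (((b * a)⁻¹ * z * (b * a)) ^ j) ^ i := by rw [hj' _ hz', hi' _ (zpow_mem hz' j)]
        _ = (((b * a)⁻¹ * z * (b * a)) ^ i) ^ j := by rw [← zpow_mul, ← zpow_mul, mul_comm]
        _ = b * (a * ((b * a)⁻¹ * z * (b * a)) * a⁻¹) * b⁻¹ := by
          rw [hi' _ hz', hj' _ (zpow_mem hz' i)]
        _ = z := by group
    calc (b * a)⁻¹ * (a * b) * ((b * a)⁻¹ * z * (b * a))
        = (b * a)⁻¹ * ((a * b) * ((b * a)⁻¹ * z * (b * a)) * (a * b)⁻¹) * (a * b) := by group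
      _ = ((b * a)⁻¹ * z * (b * a)) * ((b * a)⁻¹ * (a * b)) := by rw [h2]; group
  rw [commutatorElement_def]
  calc z * (a * b * a⁻¹ * b⁻¹)
      = (b * a) * (((b * a)⁻¹ * z * (b * a)) * ((b * a)⁻¹ * (a * b))) * (b * a)⁻¹ := by group
    _ = (b * a) * ((b * a)⁻¹ * (a * b) * ((b * a)⁻¹ * z * (b * a))) * (b * a)⁻¹ := by rw [hu']
    _ = a * b * a⁻¹ * b⁻¹ * z := by group

/-- If all Sylow subgroups are of the first type, a noncyclic Sylow `2`-subgroup is normal. -/
theorem quaternion_normal [Group.IsSolvable G] (hB : AbConj G)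
    (hU : ∀ r : ℕ, r.Prime → UType r G) (Q : Sylow 2 G) (hnc : ¬ IsCyclic (Q : Subgroup G)) :
    (Q : Subgroup G).Normal := by
  haveI := Fact.mk Nat.prime_two
  obtain ⟨-, e, he⟩ := quaternion_gens hB Q (hU 2 Nat.prime_two) hnc
  set x : G := ((e.symm (QuaternionGroup.a 1) : (Q : Subgroup G)) : G) with hx
  set y : G := ((e.symm (QuaternionGroup.xa 0) : (Q : Subgroup G)) : G) with hy
  have hxo : orderOf x = 4 := he _ (by simp)
  have hyo : orderOf y = 4 := he _ (by simp)
  have hxyo : orderOf (x * y) = 4 := by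
    rw [hx, hy, ← Subgroup.coe_mul, ← map_mul]
    exact he _ (by simp)
  -- the Sylow subgroup lies in the derived subgroup
  let ab : G →* Abelianization G := Abelianization.of
  have hconj : ∀ s t : G, orderOf s = 4 → orderOf t = 4 → ∃ i : ℤ, ab t = ab s ^ i ∧ Odd i := by
    intro s t hs ht
    obtain ⟨g, hg⟩ := hB (zpowers s) (zpowers t) inferInstance inferInstance
      (by rw [Nat.card_zpowers, Nat.card_zpowers, hs, ht])
    obtain ⟨u, hu, hut⟩ := (hg ▸ mem_zpowers t : t ∈ (zpowers s).map (MulAut.conj g).toMonoidHom)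
    obtain ⟨i, rfl⟩ := mem_zpowers_iff.mp hu
    refine ⟨i, ?_, ?_⟩
    · rw [← hut]
      show ab (g * s ^ i * g⁻¹) = _
      rw [map_mul, map_mul, map_inv, map_zpow, mul_comm (ab g), mul_inv_cancel_right]
    · by_contra h
      obtain ⟨l, rfl⟩ := Int.not_odd_iff_even.mp h
      have h4 : s ^ (4 : ℕ) = 1 := hs ▸ pow_orderOf_eq_one s
      have h2 : t ^ 2 = 1 := by
        rw [← hut]
        show (g * s ^ (l + l) * g⁻¹) ^ 2 = 1
        rw [conj_pow, ← zpow_natCast (s ^ (l + l)), ← zpow_mul,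
          show (l + l) * ((2 : ℕ) : ℤ) = ((4 : ℕ) : ℤ) * l by push_cast; ring, zpow_mul,
          zpow_natCast, h4, one_zpow, mul_one, mul_inv_cancel]
      have := Nat.le_of_dvd two_pos (ht ▸ orderOf_dvd_of_pow_eq_one h2)
      omega
  obtain ⟨i, hi, hiodd⟩ := hconj x y hxo hyo
  obtain ⟨j, hj, -⟩ := hconj (x * y) x hxyo hxo
  have hX4 : ab x ^ (4 : ℤ) = 1 := by
    have h : x ^ (4 : ℤ) = 1 := by
      rw [show (4 : ℤ) = ((4 : ℕ) : ℤ) by rfl, zpow_natCast, ← hxo, pow_orderOf_eq_one]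
    rw [← map_zpow, h, map_one]
  have habx : ab x = 1 := by
    rw [map_mul, hi] at hj
    nth_rewrite 2 [← zpow_one (ab x)] at hj
    rw [← zpow_add, ← zpow_mul] at hj
    obtain ⟨l, rfl⟩ := hiodd
    have h1 : ab x ^ (1 - (1 + (2 * l + 1)) * j) = 1 := by
      rw [zpow_sub, zpow_one, ← hj, mul_inv_cancel]
    have h2 : ab x ^ (((1 - (1 + (2 * l + 1)) * j) * (1 + (1 + (2 * l + 1)) * j))) = 1 := by
      rw [zpow_mul, h1, one_zpow]
    have h3 : (1 - (1 + (2 * l + 1)) * j) * (1 + (1 + (2 * l + 1)) * j) =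
        1 + 4 * (-((l + 1) * j) ^ 2) := by ring
    rwa [h3, zpow_add, zpow_one, zpow_mul, hX4, one_zpow, mul_one] at h2
  have hQH : (Q : Subgroup G) ≤ commutator G := by
    refine quaternion_le_of_order_four hB (commutator G) Q e (m := x) ?_ hxo
    rw [← Abelianization.ker_of, MonoidHom.mem_ker]
    exact habx
  set T := Cfsg.pCore 2 G with hT
  haveI hTn : T.Normal := H1.pCore_normal' 2 G
  have hTQ : T ≤ (Q : Subgroup G) := H1.pCore_le_sylow Q
  by_cases h4 : ∃ t ∈ T, orderOf t = 4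
  · obtain ⟨t, ht, hto⟩ := h4
    rw [le_antisymm (quaternion_le_of_order_four hB T Q e ht hto) hTQ] at *
    exact hTn
  exfalso
  push Not at h4
  have hcyc : ∀ r : Nat.Primes, IsCyclic (Cfsg.pCore (r : ℕ) G) := by
    intro r
    haveI := Fact.mk r.2
    obtain ⟨R⟩ : Nonempty (Sylow (r : ℕ) G) := inferInstance
    by_cases hr : (r : ℕ) = 2
    · have hexp : ∀ t ∈ T, t ^ 2 = 1 := by
        intro t ht
        obtain ⟨k, hk⟩ := IsPGroup.iff_orderOf.mp (H1.isPGroup_pCore 2 G) ⟨t, ht⟩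
        rw [Subgroup.orderOf_mk] at hk
        rcases k with _ | _ | k
        · rw [show t = 1 from orderOf_eq_one_iff.mp (by simpa using hk), one_pow]
        · exact orderOf_dvd_iff_pow_eq_one.mp (dvd_of_eq (hk.trans (pow_one 2)))
        · exfalso
          refine h4 (t ^ 2 ^ k) (pow_mem ht _) ?_
          rw [orderOf_pow_of_dvd (by positivity) (hk ▸ pow_dvd_pow 2 (by omega)), hk,
            Nat.pow_div (by omega) (by norm_num), show k + 1 + 1 - k = 2 by omega]
      rw [hr]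
      by_cases hT0 : T = ⊥
      · haveI : Subsingleton T := by rw [hT0]; infer_instance
        exact isCyclic_of_subsingleton
      · exact isCyclic_of_prime_card (p := 2)
          (card_eq_prime_of_uType (hU 2 Nat.prime_two) T hT0 (H1.isPGroup_pCore 2 G) hexp)
    · haveI : IsCyclic (R : Subgroup G) :=
        (H2.cyclic_or_quaternion_of_unique R.isPGroup' (hU _ r.2 R)).resolve_right fun h => hr h.1
      exact Subgroup.isCyclic_of_le (H1.pCore_le_sylow R)
  have hHF : commutator G ≤ centralizer (Cfsg.fittingSubgroup G : Set G) := by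
    rw [le_centralizer_iff, H1.fittingSubgroup_eq_iSup_pCore]
    refine iSup_le fun r => le_centralizer_iff.mp ?_
    haveI := H1.pCore_normal' (r : ℕ) G
    exact commutator_le_centralizer_cyclic _ (hcyc r)
  have hF := H1.centralizer_fitting_le_of_isSolvable (G := G) inferInstance
  have hQc : IsMulCommutative (⊤ : Subgroup (Q : Subgroup G)) := ⟨⟨fun a b => Subtype.ext (Subtype.ext
    ((mem_centralizer_iff.mp (hHF (hQH (a : (Q : Subgroup G)).2)) _
      (hF (hHF (hQH (b : (Q : Subgroup G)).2)))).symm))⟩⟩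
  haveI := H2.isCyclic_comm_of_unique Q.isPGroup' (hU 2 Nat.prime_two Q) ⊤ hQc
  exact hnc (isCyclic_of_surjective _ (Subgroup.topEquiv (G := (Q : Subgroup G))).surjective)

/-- An element normalising all subgroups of one intermediate order of an elementary abelian normal
subgroup normalises every cyclic subgroup in it. -/
theorem conj_mem_zpowers {p : ℕ} [Fact p.Prime] {V : Subgroup G} (hVn : V.Normal)
    (hVc : ∀ a ∈ V, ∀ b ∈ V, a * b = b * a) (hVexp : ∀ a ∈ V, a ^ p = 1)
    {U : Subgroup G} (hUV : U ≤ V) (hU0 : U ≠ ⊥) (hUne : U ≠ V) (x : G)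
    (hx : ∀ U' : Subgroup G, U' ≤ V → Nat.card U' = Nat.card U → x ∈ normalizer (U' : Set G))
    {v : G} (hv : v ∈ V) : x * v * x⁻¹ ∈ zpowers v := by
  by_contra hw
  set w := x * v * x⁻¹ with hwdef
  have hwV : w ∈ V := hVn.conj_mem v hv x
  have hv1 : v ≠ 1 := by rintro rfl; simp [hwdef] at hw
  obtain ⟨H, hH⟩ := (Set.toFinite {H : Subgroup G | zpowers v ≤ H ∧ H ≤ V ∧ w ∉ H}).exists_maximal
    ⟨zpowers v, le_rfl, zpowers_le.mpr hv, hw⟩
  obtain ⟨⟨hvH, hHV, hwH⟩, hHmax⟩ := hH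
  have hnorm : ∀ (A B : Subgroup G), A ≤ V → B ≤ V → A ≤ normalizer (B : Set G) :=
    fun A B hA hB a ha => mem_normalizer_fintype fun b hb => by
      rw [hVc a (hA ha) b (hB hb), mul_inv_cancel_right]; exact hb
  have hwc : Nat.card (zpowers w) = p := by
    rw [Nat.card_zpowers, orderOf_eq_prime (hVexp w hwV)]
    intro h; exact hwH (h ▸ one_mem H)
  have hHw : H ⊔ zpowers w = V := by
    refine le_antisymm (sup_le hHV (zpowers_le.mpr hwV)) fun a ha => ?_
    by_cases haH : a ∈ H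
    · exact mem_sup_left haH
    have hwa : w ∈ H ⊔ zpowers a := by
      by_contra hwa
      exact haH (hHmax ⟨hvH.trans le_sup_left, sup_le hHV (zpowers_le.mpr ha), hwa⟩ le_sup_left
        (mem_sup_right (mem_zpowers a)))
    obtain ⟨h, hh, b, hb, hwab⟩ :=
      H1.exists_mul_of_mem_sup (hnorm _ _ (zpowers_le.mpr ha) hHV) hwa
    obtain ⟨i, rfl⟩ := mem_zpowers_iff.mp hb
    have hb1 : a ^ i ≠ 1 := fun e => hwH (by rw [hwab, e, mul_one]; exact hh)
    have hai : a ∈ zpowers (a ^ i) := by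
      have ha1 : a ≠ 1 := fun e => haH (e ▸ one_mem H)
      have h1 : orderOf (a ^ i) = p := orderOf_eq_prime (hVexp _ (zpow_mem ha i)) hb1
      have h2 : zpowers (a ^ i) = zpowers a := eq_of_le_of_card_ge (zpowers_le.mpr hb) (by
        rw [Nat.card_zpowers, Nat.card_zpowers, h1, orderOf_eq_prime (hVexp a ha) ha1])
      exact h2 ▸ mem_zpowers a
    refine (zpowers_le.mpr ?_ : zpowers (a ^ i) ≤ H ⊔ zpowers w) hai
    rw [show a ^ i = h⁻¹ * w by rw [hwab, inv_mul_cancel_left]]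
    exact mul_mem (mem_sup_left (inv_mem hh)) (mem_sup_right (mem_zpowers w))
  have hVp : IsPGroup p V := fun a => ⟨1, Subtype.ext (by simpa using hVexp a a.2)⟩
  obtain ⟨k, hk⟩ := IsPGroup.iff_card.mp (hVp.to_le hUV)
  obtain ⟨n, hn⟩ := IsPGroup.iff_card.mp hVp
  obtain ⟨l, hl⟩ := IsPGroup.iff_card.mp (hVp.to_le hHV)
  have hp := (Fact.out : p.Prime)
  have hVHw : Nat.card V ≤ Nat.card H * p := by
    rw [← hHw, ← hwc]
    exact Nat.le_of_dvd (Nat.mul_pos Nat.card_pos Nat.card_pos) (card_sup_dvd_mul' H (zpowers w)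
      (hnorm _ _ (zpowers_le.mpr hwV) hHV))
  have hkn : k < n := by
    rw [← Nat.pow_lt_pow_iff_right hp.one_lt, ← hk, ← hn]
    exact lt_of_le_of_ne (card_le_of_le hUV) fun e => hUne (eq_of_le_of_card_ge hUV e.ge)
  have hk0 : k ≠ 0 := fun h0 => hU0 (card_eq_one.mp (by rw [hk, h0, pow_zero]))
  have hnl : n ≤ l + 1 := by
    rw [hn, hl, ← pow_succ] at hVHw
    exact (Nat.pow_le_pow_iff_right hp.one_lt).mp hVHw
  obtain ⟨U₀, hU₀c, hvU₀⟩ := Sylow.exists_subgroup_card_pow_prime_le (G := H) p (n := 1) (m := k)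
    (by rw [hl]; exact pow_dvd_pow p (by omega)) (zpowers (⟨v, hvH (mem_zpowers v)⟩ : H))
    (by rw [Nat.card_zpowers, Subgroup.orderOf_mk, orderOf_eq_prime (hVexp v hv) hv1, pow_one])
    (by omega)
  set U' := U₀.map H.subtype with hU'
  have hU'c : Nat.card U' = Nat.card U := by
    rw [hU', card_map_of_injective H.subtype_injective, hU₀c, hk]
  have hvU' : v ∈ U' := ⟨⟨v, hvH (mem_zpowers v)⟩, hvU₀ (mem_zpowers _), rfl⟩
  exact hwH (map_subtype_le U₀
    ((mem_normalizer_iff.mp (hx U' ((map_subtype_le U₀).trans hHV) hU'c) v).mp hvU'))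
where
  /-- The order of a product with a normalising subgroup divides the product of the orders. -/
  card_sup_dvd_mul' (D K : Subgroup G) (hK : K ≤ normalizer (D : Set G)) :
      Nat.card ↥(D ⊔ K) ∣ Nat.card D * Nat.card K := by
    have hle : D ⊔ K ≤ normalizer (D : Set G) := sup_le le_normalizer hK
    haveI : (D.subgroupOf (D ⊔ K)).Normal := normal_subgroupOf_of_le_normalizer hle
    have h1 := relIndex_mul_relIndex ⊥ D (D ⊔ K) bot_le le_sup_left
    have h2 : D.relIndex (D ⊔ K) = D.relIndex K := by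
      rw [sup_comm]
      exact relIndex_sup_right_of_normalizer D K hK
    rw [relIndex_bot_left, relIndex_bot_left, h2] at h1
    rw [← h1]
    exact mul_dvd_mul_left _ (relIndex_dvd_card D K)
  /-- `|DK : D| = |K : D ∩ K|`. -/
  relIndex_sup_right_of_normalizer (D K : Subgroup G) (hK : K ≤ normalizer (D : Set G)) :
      D.relIndex (K ⊔ D) = D.relIndex K := by
    have hDN : D ≤ normalizer (D : Set G) := le_normalizer
    rw [← relIndex_subgroupOf (H := D) (sup_le hK hDN), ← relIndex_subgroupOf (H := D) hK,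
      subgroupOf_sup hK hDN, relIndex_sup_right]

/-- A quaternion subgroup of a normal `W`, all of whose elements normalise every cyclic subgroup
of `V`, centralises `V`. -/
theorem centralizes_of_lines [Group.IsSolvable G] (hB : AbConj G) (Q : Sylow 2 G) (hU : UType 2 G)
    (hnc : ¬ IsCyclic (Q : Subgroup G)) {p : ℕ} [Fact p.Prime] (hp2 : p ≠ 2) {V : Subgroup G}
    (hVn : V.Normal) (hVc : ∀ a ∈ V, ∀ b ∈ V, a * b = b * a) (hVexp : ∀ a ∈ V, a ^ p = 1)
    (hlines : ∀ x ∈ (Q : Subgroup G), ∀ v ∈ V, x * v * x⁻¹ ∈ zpowers v) :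
    (Q : Subgroup G) ≤ centralizer (V : Set G) := by
  haveI := hVn
  obtain ⟨-, e, he⟩ := quaternion_gens hB Q hU hnc
  set qx : QuaternionGroup (2 ^ 1) := QuaternionGroup.a 1
  set qy : QuaternionGroup (2 ^ 1) := QuaternionGroup.xa 0
  let g : QuaternionGroup (2 ^ 1) →* G := (Q : Subgroup G).subtype.comp e.symm.toMonoidHom
  have hgQ : ∀ q, g q ∈ (Q : Subgroup G) := fun q => (e.symm q).2
  have hcom : ∀ (a b : G), a ∈ (Q : Subgroup G) → b ∈ (Q : Subgroup G) → ∀ v ∈ V,
      (a * b) * v * (a * b)⁻¹ = (b * a) * v * (b * a)⁻¹ := by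
    intro a b ha hb v hv
    obtain ⟨i, hi⟩ := mem_zpowers_iff.mp (hlines a ha v hv)
    obtain ⟨j, hj⟩ := mem_zpowers_iff.mp (hlines b hb v hv)
    calc (a * b) * v * (a * b)⁻¹ = a * (b * v * b⁻¹) * a⁻¹ := by group
      _ = a * v ^ j * a⁻¹ := by rw [hj]
      _ = (v ^ i) ^ j := by rw [← conj_zpow, hi]
      _ = (v ^ j) ^ i := by rw [← zpow_mul, ← zpow_mul, mul_comm]
      _ = b * v ^ i * b⁻¹ := by rw [← conj_zpow, hj]
      _ = b * (a * v * a⁻¹) * b⁻¹ := by rw [hi]
      _ = (b * a) * v * (b * a)⁻¹ := by group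
  -- the common square centralises `V`
  have hsq : ∀ q ∈ ({qx, qy, qx * qy} : Set (QuaternionGroup (2 ^ 1))), ∀ v ∈ V,
      g q * g q * v * (g q * g q)⁻¹ = v := by
    have hkey : ∀ q ∈ ({qx, qy, qx * qy} : Set (QuaternionGroup (2 ^ 1))),
        q * q = (qy * qx)⁻¹ * (qx * qy) := by decide
    intro q hq v hv
    rw [← map_mul, hkey q hq, map_mul, map_inv, map_mul, map_mul]
    have h := hcom (g qx) (g qy) (hgQ qx) (hgQ qy) v hv
    calc (g qy * g qx)⁻¹ * (g qx * g qy) * v * ((g qy * g qx)⁻¹ * (g qx * g qy))⁻¹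
        = (g qy * g qx)⁻¹ * ((g qx * g qy) * v * (g qx * g qy)⁻¹) * (g qy * g qx) := by group
      _ = (g qy * g qx)⁻¹ * ((g qy * g qx) * v * (g qy * g qx)⁻¹) * (g qy * g qx) := by rw [h]
      _ = v := by group
  -- each of them fixes all or inverts all
  have hdich : ∀ q ∈ ({qx, qy, qx * qy} : Set (QuaternionGroup (2 ^ 1))),
      (∀ v ∈ V, g q * v * (g q)⁻¹ = v) ∨ (∀ v ∈ V, g q * v * (g q)⁻¹ = v⁻¹) := by
    intro q hq
    have hp := (Fact.out : p.Prime)
    have hone : ∀ v ∈ V, g q * v * (g q)⁻¹ = v ∨ g q * v * (g q)⁻¹ = v⁻¹ := by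
      intro v hv
      by_cases hv1 : v = 1
      · left; subst hv1; group
      obtain ⟨i, hi⟩ := mem_zpowers_iff.mp (hlines (g q) (hgQ q) v hv)
      have h2 : v ^ (i * i) = v := by
        rw [zpow_mul]
        nth_rewrite 1 [hi]
        rw [conj_zpow, hi]
        calc g q * (g q * v * (g q)⁻¹) * (g q)⁻¹ = g q * g q * v * (g q * g q)⁻¹ := by group
          _ = v := hsq q hq v hv
      have ho := orderOf_eq_prime (hVexp v hv) hv1
      have h3 : ((p : ℤ)) ∣ (i - 1) * (i + 1) := by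
        rw [← ho, orderOf_dvd_iff_zpow_eq_one, show (i - 1) * (i + 1) = i * i + (-1 : ℤ) by ring,
          zpow_add, h2, zpow_neg_one, mul_inv_cancel]
      rcases (Nat.prime_iff_prime_int.mp hp).dvd_or_dvd h3 with h | h
      · left
        rw [← hi]
        have h4 : v ^ (i - 1) = 1 := by rw [← orderOf_dvd_iff_zpow_eq_one, ho]; exact h
        rwa [zpow_sub, zpow_one, mul_inv_eq_one] at h4
      · right
        rw [← hi]
        have h4 : v ^ (i + 1) = 1 := by rw [← orderOf_dvd_iff_zpow_eq_one, ho]; exact h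
        rw [zpow_add, zpow_one] at h4
        exact eq_inv_of_mul_eq_one_left h4
    by_contra hboth
    push Not at hboth
    obtain ⟨⟨v, hv, hvne⟩, w, hw, hwne⟩ := hboth
    have hvi := (hone v hv).resolve_left hvne
    have hwi := (hone w hw).resolve_right hwne
    have hprod : g q * (v * w) * (g q)⁻¹ = v⁻¹ * w := by
      calc g q * (v * w) * (g q)⁻¹ = (g q * v * (g q)⁻¹) * (g q * w * (g q)⁻¹) := by group
        _ = v⁻¹ * w := by rw [hvi, hwi]
    rcases hone (v * w) (mul_mem hv hw) with h | h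
    · rw [hprod] at h
      have h5 : v⁻¹ = v := mul_right_cancel h
      exact hvne (hvi.trans h5)
    · rw [hprod, hVc v hv w hw, mul_inv_rev] at h
      have h5 : w = w⁻¹ := mul_left_cancel h
      exact hwne (hwi.trans h5)
  haveI : (centralizer (V : Set G)).Normal := inferInstance
  have hfix : ∀ q ∈ ({qx, qy, qx * qy} : Set (QuaternionGroup (2 ^ 1))),
      (∀ v ∈ V, g q * v * (g q)⁻¹ = v) → (Q : Subgroup G) ≤ centralizer (V : Set G) := by
    intro q hq hf
    refine quaternion_le_of_order_four hB _ Q e (m := g q) ?_ (he q hq)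
    rw [mem_centralizer_iff]
    exact fun v hv => (mul_inv_eq_iff_eq_mul.mp (hf v hv)).symm
  rcases hdich qx (by simp) with h | h
  · exact hfix qx (by simp) h
  rcases hdich qy (by simp) with h' | h'
  · exact hfix qy (by simp) h'
  refine hfix (qx * qy) (by simp) fun v hv => ?_
  rw [map_mul]
  calc g qx * g qy * v * (g qx * g qy)⁻¹ = g qx * (g qy * v * (g qy)⁻¹) * (g qx)⁻¹ := by group
    _ = g qx * v⁻¹ * (g qx)⁻¹ := by rw [h' v hv]
    _ = v := by rw [h v⁻¹ (inv_mem hv), inv_inv]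

end H33
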