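import Cfsg.Agent.H33.AbConjAct

set_option autoImplicit false

/-!
In a solvable group with conjugate abelian subgroups of equal order, subgroups of equal order are
conjugate.
-/

namespace H33

open Subgroup

set_option linter.style.haveILetI false
set_option linter.unusedSectionVars false

universe u

/-- In a group with cyclic Sylow subgroups, subgroups of equal order are conjugate. -/
theorem zgroup_conj : ∀ (n : ℕ) (X : Type u) [Group X] [Finite X] [IsZGroup X], Nat.card X ≤ n →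
    ∀ A B : Subgroup X, Nat.card A = Nat.card B → ∃ x : X, B = A.map (MulAut.conj x).toMonoidHom := by
  intro n
  induction n with
  | zero => intro X _ _ _ hn; exact absurd (Nat.card_pos (α := X)) (by omega)
  | succ n ih =>
  intro X _ _ _ hn A B hAB
  rcases subsingleton_or_nontrivial X with hs | hs
  · exact ⟨1, Subsingleton.elim _ _⟩
  obtain ⟨M, hMn, hM0, hMmin⟩ := H3.exists_minNormal (G := X)
  obtain ⟨-, p, hp, hMexp, hMp, d, hd, hMcard⟩ := H3.minNormal_elementary M hM0 hMmin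
  haveI := Fact.mk hp
  haveI : IsCyclic M := IsPGroup.isCyclic_of_isZGroup hMp
  have hMc : Nat.card M = p := by
    refine le_antisymm ?_ (hMcard ▸ Nat.le_self_pow hd.ne' p)
    obtain ⟨g, hg⟩ := IsCyclic.exists_generator (α := M)
    rw [← orderOf_eq_card_of_forall_mem_zpowers hg]
    exact Nat.le_of_dvd hp.pos (orderOf_dvd_of_pow_eq_one (Subtype.ext (hMexp g g.2)))
  have hcont : ∀ C : Subgroup X, p ∣ Nat.card C → M ≤ C := by
    intro C hC
    obtain ⟨c, hc⟩ := exists_prime_orderOf_dvd_card' (G := C) p hC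
    rw [← Subgroup.orderOf_coe] at hc
    obtain ⟨P, hP⟩ := (IsPGroup.of_card (p := p) (G := zpowers (c : X)) (n := 1)
      (by rw [Nat.card_zpowers, hc, pow_one])).exists_le_sylow
    have hMP := hMp.le_sylow_of_normal P
    intro m hm
    obtain ⟨k, hk⟩ := mem_zpowers_iff.mp (H60.mem_zpowers_of_pow_orderOf_eq_one
      (C := (P : Subgroup X)) inferInstance ⟨(c : X), hP (mem_zpowers _)⟩ ⟨m, hMP hm⟩
      (Subtype.ext (by rw [Subgroup.orderOf_mk, hc]; exact hMexp m hm)))
    have h : (c : X) ^ k = m := by simpa using congrArg Subtype.val hk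
    exact h ▸ zpow_mem c.2 k
  have hlt : Nat.card (X ⧸ M) ≤ n := by
    have h1 := card_eq_card_quotient_mul_card_subgroup M
    have h2 : 1 < Nat.card M := hMc ▸ hp.one_lt
    have h3 : 0 < Nat.card (X ⧸ M) := Nat.card_pos
    nlinarith
  set π := QuotientGroup.mk' M with hπ
  by_cases hpA : p ∣ Nat.card A
  · have hMA := hcont A hpA
    have hMB := hcont B (hAB ▸ hpA)
    have hA' : (A.map π).comap π = A := comap_map_eq_self (by rwa [QuotientGroup.ker_mk'])
    have hB' : (B.map π).comap π = B := comap_map_eq_self (by rwa [QuotientGroup.ker_mk'])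
    obtain ⟨x, hx⟩ := ih (X ⧸ M) hlt (A.map π) (B.map π) (by
      have e1 := H1.card_comap_mk' M (A.map π)
      have e2 := H1.card_comap_mk' M (B.map π)
      rw [hA'] at e1
      rw [hB'] at e2
      exact Nat.eq_of_mul_eq_mul_left (Nat.card_pos (α := M)) (by rw [← e1, ← e2, hAB]))
    obtain ⟨x, rfl⟩ := QuotientGroup.mk_surjective x
    refine ⟨x, (eq_of_le_of_card_ge ?_ ?_).symm⟩
    · rintro _ ⟨a, ha, rfl⟩
      rw [← hB', hx]
      exact ⟨π a, mem_map_of_mem π ha, rfl⟩
    · rw [card_map_of_injective (MulAut.conj x).injective, hAB]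
  · have hdis : ∀ C : Subgroup X, Nat.card C = Nat.card A → Disjoint C π.ker := by
      intro C hC
      rw [QuotientGroup.ker_mk']
      exact disjoint_of_coprime_natCard (by
        rw [hC, hMc]; exact (hp.coprime_iff_not_dvd.mpr hpA).symm)
    obtain ⟨x, hx⟩ := ih (X ⧸ M) hlt (A.map π) (B.map π) (by
      rw [H1.card_map_of_disjoint π A (hdis A rfl), H1.card_map_of_disjoint π B (hdis B hAB.symm), hAB])
    obtain ⟨x, rfl⟩ := QuotientGroup.mk_surjective x
    set A' := A.map (MulAut.conj x).toMonoidHom with hA'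
    have hA'c : Nat.card A' = Nat.card A := card_map_of_injective (MulAut.conj x).injective
    have hle : B ≤ M ⊔ A' := by
      intro b hb
      obtain ⟨_, ⟨a, ha, rfl⟩, hab⟩ := (hx ▸ mem_map_of_mem π hb :
        π b ∈ (A.map π).map (MulAut.conj (x : X ⧸ M)).toMonoidHom)
      have h1 : π (x * a * x⁻¹) = π b := by rw [← hab]; simp [hπ]
      have h2 : b * (x * a * x⁻¹)⁻¹ ∈ M := (QuotientGroup.eq_one_iff _).mp (by
        show π (b * (x * a * x⁻¹)⁻¹) = 1
        rw [map_mul, map_inv, h1, mul_inv_cancel])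
      have h3 := mul_mem (mem_sup_left (T := A') h2) (mem_sup_right (S := M) ⟨a, ha, rfl⟩)
      simpa [mul_assoc] using h3
    obtain ⟨m, -, hm⟩ := H1.exists_conj_eq_of_coprime (D := M) (H := A') (K := B)
      le_normalizer_of_normal (by rw [hMc, hA'c]; exact hp.coprime_iff_not_dvd.mpr hpA)
      (Or.inl inferInstance) hle (by rw [hA'c, hAB])
    refine ⟨m * x, ?_⟩
    rw [← hm, hA']
    ext y
    rw [H1.mem_conj_smul_iff]
    constructor
    · rintro ⟨a, ha, e⟩
      refine ⟨a, ha, ?_⟩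
      show m * x * a * (m * x)⁻¹ = y
      have e' : x * a * x⁻¹ = m⁻¹ * y * m := e
      calc m * x * a * (m * x)⁻¹ = m * (x * a * x⁻¹) * m⁻¹ := by group
        _ = y := by rw [e']; group
    · rintro ⟨a, ha, rfl⟩
      refine ⟨a, ha, ?_⟩
      show x * a * x⁻¹ = m⁻¹ * (m * x * a * (m * x)⁻¹) * m
      group

variable {G : Type u} [Group G] [Finite G]

/-- Subgroups of equal order of `S`, for whose primes all subgroups of prime power order of `S` are
cyclic, are conjugate in `S`. -/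
theorem conj_in_of_cyclic [Group.IsSolvable G] (S : Subgroup G) (A B : Subgroup G) (hA : A ≤ S)
    (hB : B ≤ S) (hAB : Nat.card A = Nat.card B)
    (hcyc : ∀ p, p.Prime → p ∣ Nat.card A → ∀ R : Subgroup G, R ≤ S → IsPGroup p R → IsCyclic R) :
    ∃ s ∈ S, B = A.map (MulAut.conj s).toMonoidHom := by
  set π : ℕ → Prop := fun p => p ∣ Nat.card A with hπ
  have hsub : ∀ C : Subgroup G, C ≤ S → Nat.card (C.subgroupOf S) = Nat.card C := fun C hC =>
    Nat.card_congr (subgroupOfEquivOfLe hC).toEquiv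
  obtain ⟨H, hAH, hH1, hH2⟩ := H1.hall_pi_exists_ge (G := S) π (A.subgroupOf S)
    (fun p _ h => by rwa [hsub A hA] at h)
  obtain ⟨H', hBH, hH'1, hH'2⟩ := H1.hall_pi_exists_ge (G := S) π (B.subgroupOf S)
    (fun p _ h => by rwa [hsub B hB, ← hAB] at h)
  obtain ⟨s, hs⟩ := H1.hall_pi_conj π hH'1 hH'2 hH1 hH2
  haveI : IsZGroup H := ⟨fun p hp P => by
    haveI := Fact.mk hp
    by_cases hP : (P : Subgroup H) = ⊥
    · haveI : Subsingleton (P : Subgroup H) := by rw [hP]; infer_instance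
      exact isCyclic_of_subsingleton
    · obtain ⟨k, hk⟩ := IsPGroup.iff_card.mp P.isPGroup'
      have hk0 : k ≠ 0 := fun h0 => hP (card_eq_one.mp (by rw [hk, h0, pow_zero]))
      have hpH : p ∣ Nat.card H := (hk ▸ dvd_pow_self p hk0).trans (card_subgroup_dvd_card _)
      let f : H →* G := S.subtype.comp H.subtype
      have hf : Function.Injective f := S.subtype_injective.comp H.subtype_injective
      haveI := hcyc p hp (hH1 p hp hpH) ((P : Subgroup H).map f)
        (by rintro _ ⟨y, -, rfl⟩; exact ((y : S)).2) (P.isPGroup'.map f)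
      exact isCyclic_of_surjective ((P : Subgroup H).equivMapOfInjective f hf).symm.toMonoidHom
        ((P : Subgroup H).equivMapOfInjective f hf).symm.surjective⟩
  have hB' : ((B.subgroupOf S).map (MulAut.conj s).toMonoidHom) ≤ H := by
    rw [← hs]
    rintro _ ⟨b, hb, rfl⟩
    exact smul_mem_pointwise_smul _ (MulAut.conj s) _ (hBH hb)
  obtain ⟨x, hx⟩ := zgroup_conj (Nat.card H) H le_rfl ((A.subgroupOf S).subgroupOf H)
    (((B.subgroupOf S).map (MulAut.conj s).toMonoidHom).subgroupOf H) (by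
      rw [Nat.card_congr (subgroupOfEquivOfLe hAH).toEquiv, Nat.card_congr (subgroupOfEquivOfLe hB').toEquiv,
        card_map_of_injective (MulAut.conj s).injective, hsub A hA, hsub B hB, hAB])
  refine ⟨((s⁻¹ * (x : S) : S) : G), Subtype.coe_prop _, (eq_of_le_of_card_ge ?_ ?_).symm⟩
  · rintro _ ⟨a, ha, rfl⟩
    have h1 : x * ⟨⟨a, hA ha⟩, hAH ha⟩ * x⁻¹ ∈
        ((B.subgroupOf S).map (MulAut.conj s).toMonoidHom).subgroupOf H :=
      hx ▸ ⟨⟨⟨a, hA ha⟩, hAH ha⟩, ha, rfl⟩
    obtain ⟨b, hb, hbe⟩ := mem_subgroupOf.mp h1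
    have h2 : (b : S) = s⁻¹ * ((x : S) * ⟨a, hA ha⟩ * (x : S)⁻¹) * s := by
      have hbe' : s * b * s⁻¹ = (x : S) * ⟨a, hA ha⟩ * (x : S)⁻¹ := hbe
      rw [← hbe']; group
    show ((s⁻¹ * (x : S) : S) : G) * a * (((s⁻¹ * (x : S) : S) : G))⁻¹ ∈ B
    have h3 : (b : G) ∈ B := hb
    rw [h2] at h3
    simpa [mul_assoc] using h3
  · rw [card_map_of_injective (MulAut.conj _).injective, hAB]

/-- A normal abelian subgroup carrying all primes of the second type, and no other. -/
theorem exists_E [Group.IsSolvable G] (hB : AbConj G) :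
    ∃ E : Subgroup G, E.Normal ∧ (∀ a ∈ E, ∀ b ∈ E, a * b = b * a) ∧
      (∀ p, p.Prime → p ∣ Nat.card E → ¬ UType p G) ∧
      (∀ x : G, IsPiEl {p | ¬ UType p G} x → x ∈ E) := by
  let ι := {p : ℕ // p.Prime ∧ ¬ UType p G}
  let F : ι → Subgroup G := fun p => Cfsg.pCore p.1 G
  have hF : ∀ (p : ι) (P : Sylow p.1 G), F p = (P : Subgroup G) := by
    intro p P
    haveI := Fact.mk p.2.1
    obtain ⟨hn, -, -⟩ := normal_of_not_uType (Nat.card G) G le_rfl hB p.1 p.2.2 P
    haveI := hn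
    exact le_antisymm (H1.pCore_le_sylow P) (H1.le_pCore P.isPGroup')
  have hpi : ∀ (p : ι), ∀ x ∈ F p, IsPiEl {p | ¬ UType p G} x := by
    intro p x hx q hq hqd
    haveI := Fact.mk p.2.1
    obtain ⟨k, hk⟩ := IsPGroup.iff_orderOf.mp (H1.isPGroup_pCore p.1 G) ⟨x, hx⟩
    rw [Subgroup.orderOf_mk] at hk
    rw [hk] at hqd
    rw [(Nat.prime_dvd_prime_iff_eq hq p.2.1).mp (hq.dvd_of_dvd_pow hqd)]
    exact p.2.2
  have hcomm : ∀ (p q : ι), ∀ a ∈ F p, ∀ b ∈ F q, a * b = b * a := by
    intro p q a ha b hb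
    haveI := Fact.mk p.2.1
    by_cases hpq : p = q
    · subst hpq
      obtain ⟨P⟩ : Nonempty (Sylow p.1 G) := inferInstance
      obtain ⟨-, hc, -⟩ := normal_of_not_uType (Nat.card G) G le_rfl hB p.1 p.2.2 P
      rw [hF p P] at ha hb
      exact congrArg Subtype.val (hc.is_comm.comm ⟨a, ha⟩ ⟨b, hb⟩)
    · haveI := Fact.mk q.2.1
      haveI := H1.pCore_normal' p.1 G
      haveI := H1.pCore_normal' q.1 G
      exact (Subgroup.commute_of_normal_of_disjoint (F p) (F q) inferInstance inferInstance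
        (IsPGroup.disjoint_of_ne p.1 q.1 (fun h => hpq (Subtype.ext h)) _ _
          (H1.isPGroup_pCore p.1 G) (H1.isPGroup_pCore q.1 G)) a b ha hb).eq
  haveI hEn : (⨆ p, F p).Normal := H1.sSup_normal _ (by rintro _ ⟨p, rfl⟩; exact H1.pCore_normal' p.1 G)
  have hEc : ∀ a ∈ (⨆ p, F p), ∀ b ∈ (⨆ p, F p), a * b = b * a := by
    have hle : (⨆ p, F p) ≤ centralizer ((⨆ p, F p : Subgroup G) : Set G) := by
      refine iSup_le fun p => le_centralizer_iff.mp (iSup_le fun q => ?_)
      intro b hb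
      rw [mem_centralizer_iff]
      exact fun a ha => hcomm p q a ha b hb
    exact fun a ha b hb => mem_centralizer_iff.mp (hle hb) a ha
  refine ⟨⨆ p, F p, hEn, hEc, fun p hp hd => ?_, fun x hx => ?_⟩
  · haveI := Fact.mk hp
    obtain ⟨⟨y, hyE⟩, hy⟩ := exists_prime_orderOf_dvd_card' p hd
    rw [Subgroup.orderOf_mk] at hy
    have key : ∀ z, z ∈ (⨆ p, F p) → IsPiEl {p | ¬ UType p G} z ∧ z ∈ (⨆ p, F p) := by
      intro z hz
      induction hz using iSup_induction' with
      | hp i z hz => exact ⟨hpi i z hz, mem_iSup_of_mem i hz⟩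
      | h1 => exact ⟨fun q hq hqd => absurd (orderOf_one (G := G) ▸ hqd) hq.not_dvd_one, one_mem _⟩
      | hmul a b _ _ ha hb => exact ⟨isPiEl_mul (hEc a ha.2 b hb.2) ha.1 hb.1, mul_mem ha.2 hb.2⟩
    exact (key y hyE).1 p hp (hy ▸ dvd_rfl)
  · suffices h : (⨆ p, F p).subgroupOf (zpowers x) = ⊤ from
      (mem_subgroupOf.mp (h ▸ mem_top (⟨x, mem_zpowers x⟩ : zpowers x)))
    refine H35.eq_top_of_prime_pow_mem _ fun q b u hq hu => ?_
    rw [mem_subgroupOf]
    rw [← Subgroup.orderOf_coe] at hu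
    by_cases hb : b = 0
    · rw [hb, pow_zero, orderOf_eq_one_iff] at hu
      rw [hu]; exact one_mem _
    have hqx : q ∣ orderOf x := by
      refine dvd_trans ?_ (Nat.card_zpowers x ▸ Subgroup.orderOf_dvd_natCard (zpowers x) u.2)
      rw [hu]; exact dvd_pow_self q hb
    let i : ι := ⟨q, hq, hx q hq hqx⟩
    haveI := Fact.mk hq
    obtain ⟨P, hP⟩ := (IsPGroup.of_card (p := q) (G := zpowers (u : G)) (n := b)
      (by rw [Nat.card_zpowers, hu])).exists_le_sylow
    exact mem_iSup_of_mem i ((hF i P).symm ▸ hP (mem_zpowers _))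

/-- A subgroup as the join of its part in `E` and a complement. -/
theorem exists_complement_E [Group.IsSolvable G] (E : Subgroup G) [E.Normal]
    (hE1 : ∀ p, p.Prime → p ∣ Nat.card E → ¬ UType p G)
    (hE2 : ∀ x : G, IsPiEl {p | ¬ UType p G} x → x ∈ E) (A : Subgroup G) :
    ∃ A' : Subgroup G, A' ≤ A ∧ (A ⊓ E) ⊔ A' = A ∧
      Nat.card A = Nat.card ↥(A ⊓ E) * Nat.card A' ∧
      ∀ p, p.Prime → p ∣ Nat.card A' → UType p G := by
  set T := (A ⊓ E).subgroupOf A with hT
  haveI : T.Normal := by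
    rw [hT, inf_subgroupOf_left]
    infer_instance
  have hTc : Nat.card T = Nat.card ↥(A ⊓ E) :=
    Nat.card_congr (subgroupOfEquivOfLe inf_le_left).toEquiv
  have hidx : ∀ p, p.Prime → p ∣ T.index → UType p G := by
    intro p hp hpd
    by_contra hU
    haveI := Fact.mk hp
    obtain ⟨P⟩ : Nonempty (Sylow p A) := inferInstance
    refine P.not_dvd_index (hpd.trans (index_dvd_of_le fun y hy => ?_))
    rw [hT, mem_subgroupOf]
    refine mem_inf.mpr ⟨y.2, hE2 _ fun q hq hqd => ?_⟩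
    obtain ⟨k, hk⟩ := IsPGroup.iff_orderOf.mp P.isPGroup' ⟨y, hy⟩
    rw [Subgroup.orderOf_mk, ← Subgroup.orderOf_coe] at hk
    rw [hk] at hqd
    rw [(Nat.prime_dvd_prime_iff_eq hq hp).mp (hq.dvd_of_dvd_pow hqd)]
    exact hU
  have hcop : (Nat.card T).Coprime T.index := Nat.coprime_of_dvd fun p hp h1 h2 =>
    hE1 p hp ((hTc ▸ h1).trans (card_dvd_of_le inf_le_right)) (hidx p hp h2)
  obtain ⟨K, hK⟩ := exists_right_complement'_of_coprime hcop
  have hKc : Nat.card (K.map A.subtype) = T.index := by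
    rw [card_map_of_injective A.subtype_injective, ← hK.symm.index_eq_card]
  refine ⟨K.map A.subtype, map_subtype_le K, ?_, ?_, fun p hp h => hidx p hp (hKc ▸ h)⟩
  · have h : T.map A.subtype ⊔ K.map A.subtype = A := by
      rw [← Subgroup.map_sup, hK.sup_eq_top, ← MonoidHom.range_eq_map, range_subtype]
    rwa [hT, map_subgroupOf_eq_of_le inf_le_left] at h
  · rw [hKc, ← hTc, T.card_mul_index]

/-- Two `2`-subgroups of equal order other than `4` inside Sylow `2`-subgroups contained in `S`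
with unique involution and order `8` are conjugate in `S`. -/
theorem conj_two_of_card_ne_four (hU : UType 2 G) (S : Subgroup G) (Q : Sylow 2 G)
    (hQS : (Q : Subgroup G) ≤ S) (hQ8 : Nat.card Q = 8) (R R' : Subgroup G) (hR : IsPGroup 2 R)
    (hRS : R ≤ S) (hR' : IsPGroup 2 R') (hR'S : R' ≤ S) (hRR : Nat.card R = Nat.card R')
    (h4 : Nat.card R ≠ 4) : ∃ s ∈ S, R' = R.map (MulAut.conj s).toMonoidHom := by
  haveI := Fact.mk Nat.prime_two
  have hmove : ∀ C : Subgroup G, IsPGroup 2 C → C ≤ S →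
      ∃ s ∈ S, C.map (MulAut.conj s).toMonoidHom ≤ (Q : Subgroup G) := by
    intro C hC hCS
    obtain ⟨T, hT⟩ := (hC.comap_subtype (K := S)).exists_le_sylow
    obtain ⟨s, hs⟩ := MulAction.exists_smul_eq S T (Q.subtype hQS)
    refine ⟨s, s.2, ?_⟩
    rintro _ ⟨c, hc, rfl⟩
    have h : s * ⟨c, hCS hc⟩ * s⁻¹ ∈ ((Q.subtype hQS : Sylow 2 S) : Subgroup S) := by
      rw [← hs]
      exact smul_mem_pointwise_smul _ (MulAut.conj s) _ (hT hc)
    rw [Sylow.coe_subtype, mem_subgroupOf] at h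
    exact h
  obtain ⟨s, hs, hsQ⟩ := hmove R hR hRS
  obtain ⟨t, ht, htQ⟩ := hmove R' hR' hR'S
  have heq : R.map (MulAut.conj s).toMonoidHom = R'.map (MulAut.conj t).toMonoidHom := by
    set C := R.map (MulAut.conj s).toMonoidHom
    set C' := R'.map (MulAut.conj t).toMonoidHom
    have hc : Nat.card C = Nat.card R := card_map_of_injective (MulAut.conj s).injective
    have hc' : Nat.card C' = Nat.card R :=
      (card_map_of_injective (MulAut.conj t).injective).trans hRR.symm
    obtain ⟨k, hk⟩ := IsPGroup.iff_card.mp hR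
    have hd : Nat.card R ∣ 8 := hQ8 ▸ hc ▸ card_dvd_of_le hsQ
    have hcases : Nat.card R = 1 ∨ Nat.card R = 2 ∨ Nat.card R = 8 := by
      have := Nat.le_of_dvd (by norm_num) hd
      revert hd h4
      generalize Nat.card R = c at this ⊢
      interval_cases c <;> norm_num
    rcases hcases with h | h | h
    · rw [card_eq_one.mp (hc.trans h), card_eq_one.mp (hc'.trans h)]
    · have h1 := hU Q (C.subgroupOf Q) (C'.subgroupOf Q)
        ((Nat.card_congr (subgroupOfEquivOfLe hsQ).toEquiv).trans (hc.trans h))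
        ((Nat.card_congr (subgroupOfEquivOfLe htQ).toEquiv).trans (hc'.trans h))
      have h2 := congrArg (Subgroup.map (Q : Subgroup G).subtype) h1
      rwa [map_subgroupOf_eq_of_le hsQ, map_subgroupOf_eq_of_le htQ] at h2
    · rw [eq_of_le_of_card_ge hsQ (by rw [hc, h, ← hQ8]),
        eq_of_le_of_card_ge htQ (by rw [hc', h, ← hQ8])]
  refine ⟨t⁻¹ * s, mul_mem (inv_mem ht) hs, (eq_of_le_of_card_ge ?_ ?_).symm⟩
  · rintro _ ⟨r, hr, rfl⟩
    obtain ⟨r', hr', he⟩ := (heq ▸ ⟨r, hr, rfl⟩ :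
      MulAut.conj s r ∈ R'.map (MulAut.conj t).toMonoidHom)
    show t⁻¹ * s * r * (t⁻¹ * s)⁻¹ ∈ R'
    have he' : t * r' * t⁻¹ = s * r * s⁻¹ := he
    rw [show t⁻¹ * s * r * (t⁻¹ * s)⁻¹ = t⁻¹ * (s * r * s⁻¹) * t by group, ← he',
      show t⁻¹ * (t * r' * t⁻¹) * t = r' by group]
    exact hr'
  · rw [card_map_of_injective (MulAut.conj _).injective, hRR]

/-- Abelian subgroups of equal order conjugate implies all subgroups of equal order conjugate. -/
theorem conj_of_abConj [Group.IsSolvable G] (hB : AbConj G) (A B : Subgroup G)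
    (hAB : Nat.card A = Nat.card B) : ∃ g : G, B = A.map (MulAut.conj g).toMonoidHom := by
  haveI := Fact.mk Nat.prime_two
  obtain ⟨E, hEn, hEc, hE1, hE2⟩ := exists_E hB
  -- equal parts in `E`
  have hfac : ∀ (C : Subgroup G) (p : ℕ), p.Prime → ¬ UType p G →
      (Nat.card ↥(C ⊓ E)).factorization p = (Nat.card C).factorization p := by
    intro C p hp hU
    obtain ⟨C', -, -, hc, hC'⟩ := exists_complement_E E hE1 hE2 C
    rw [hc, Nat.factorization_mul Nat.card_pos.ne' Nat.card_pos.ne', Finsupp.add_apply,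
      Nat.factorization_eq_zero_of_not_dvd fun h => hU (hC' p hp h), add_zero]
  have hTT : Nat.card ↥(A ⊓ E) = Nat.card ↥(B ⊓ E) := by
    refine Nat.eq_of_factorization_eq Nat.card_pos.ne' Nat.card_pos.ne' fun p => ?_
    by_cases hp : p.Prime
    · by_cases hU : UType p G
      · have h0 : ∀ C : Subgroup G, (Nat.card ↥(C ⊓ E)).factorization p = 0 := fun C =>
          Nat.factorization_eq_zero_of_not_dvd fun h =>
            hE1 p hp (h.trans (card_dvd_of_le inf_le_right)) hU
        rw [h0 A, h0 B]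
      · rw [hfac A p hp hU, hfac B p hp hU, hAB]
    · rw [Nat.factorization_eq_zero_of_not_prime _ hp, Nat.factorization_eq_zero_of_not_prime _ hp]
  have hab : ∀ C : Subgroup G, C ≤ E → IsMulCommutative C := fun C hC =>
    ⟨⟨fun x y => Subtype.ext (hEc x (hC x.2) y (hC y.2))⟩⟩
  obtain ⟨g0, hg0⟩ := hB (A ⊓ E) (B ⊓ E) (hab _ inf_le_right) (hab _ inf_le_right) hTT
  set A₁ := A.map (MulAut.conj g0).toMonoidHom with hA₁
  have hA₁E : A₁ ⊓ E = B ⊓ E := by
    rw [hg0, Subgroup.map_inf_eq _ _ _ (MulAut.conj g0).injective]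
    congr 1
    exact (le_antisymm (by rintro _ ⟨e, he, rfl⟩; exact hEn.conj_mem e he g0) fun e he =>
      ⟨g0⁻¹ * e * g0, hEn.conj_mem' e he g0, show g0 * (g0⁻¹ * e * g0) * g0⁻¹ = e by group⟩).symm
  suffices h : ∃ g : G, B = A₁.map (MulAut.conj g).toMonoidHom by
    obtain ⟨g, hg⟩ := h
    refine ⟨g * g0, ?_⟩
    rw [hg, hA₁, Subgroup.map_map]
    congr 1
    ext x
    simp [mul_assoc]
  have hA₁B : Nat.card A₁ = Nat.card B :=
    (card_map_of_injective (MulAut.conj g0).injective).trans hAB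
  set T := B ⊓ E with hT
  set S := normalizer (T : Set G) with hS
  have hAS : A₁ ≤ S := by
    intro a ha
    refine mem_normalizer_fintype fun t ht => ?_
    rw [← hA₁E] at ht ⊢
    exact mem_inf.mpr ⟨A₁.mul_mem (A₁.mul_mem ha (mem_inf.mp ht).1) (A₁.inv_mem ha),
      hEn.conj_mem t (mem_inf.mp ht).2 a⟩
  have hBS : B ≤ S := fun b hb => mem_normalizer_fintype fun t ht =>
    mem_inf.mpr ⟨B.mul_mem (B.mul_mem hb (mem_inf.mp ht).1) (B.inv_mem hb),
      hEn.conj_mem t (mem_inf.mp ht).2 b⟩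
  obtain ⟨A', hA'le, hA'sup, hA'c, hA'U⟩ := exists_complement_E E hE1 hE2 A₁
  obtain ⟨B', hB'le, hB'sup, hB'c, hB'U⟩ := exists_complement_E E hE1 hE2 B
  rw [hA₁E] at hA'sup hA'c
  have hA'B' : Nat.card A' = Nat.card B' :=
    Nat.eq_of_mul_eq_mul_left (Nat.card_pos (α := T)) (by rw [← hA'c, hA₁B]; exact hB'c)
  suffices h : ∃ s ∈ S, B' = A'.map (MulAut.conj s).toMonoidHom by
    obtain ⟨s, hs, hs'⟩ := h
    refine ⟨s, ?_⟩
    have hTs : T.map (MulAut.conj s).toMonoidHom = T := by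
      refine eq_of_le_of_card_ge ?_ (by rw [card_map_of_injective (MulAut.conj s).injective])
      rintro _ ⟨t, ht, rfl⟩
      exact (mem_normalizer_iff.mp hs t).mp ht
    rw [← hA'sup, Subgroup.map_sup, hTs, ← hs', hB'sup]
  have hoddcyc : ∀ p, p.Prime → p ≠ 2 → UType p G → ∀ R : Subgroup G, IsPGroup p R → IsCyclic R := by
    intro p hp hp2 hU R hR
    haveI := Fact.mk hp
    obtain ⟨P, hP⟩ := hR.exists_le_sylow
    haveI : IsCyclic (P : Subgroup G) :=
      (H2.cyclic_or_quaternion_of_unique P.isPGroup' (hU P)).resolve_right fun h => hp2 h.1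
    exact Subgroup.isCyclic_of_le hP
  by_cases hQ : UType 2 G ∧ ∃ Q : Sylow 2 G, (Q : Subgroup G) ≤ S ∧ ¬ IsCyclic (Q : Subgroup G)
  swap
  · refine conj_in_of_cyclic S A' B' (hA'le.trans hAS) (hB'le.trans hBS) hA'B'
      fun p hp hpd R hRS hR => ?_
    by_cases hp2 : p = 2
    · subst hp2
      have hU := hA'U 2 hp hpd
      rcases comm_or_sylow hB hU hR with hc | ⟨Q, hQR⟩
      · obtain ⟨P, hP⟩ := hR.exists_le_sylow
        haveI := H2.isCyclic_comm_of_unique P.isPGroup' (hU P) (R.subgroupOf P)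
          ⟨⟨fun x y => Subtype.ext (Subtype.ext (congrArg (Subtype.val (p := fun g : G => g ∈ R))
            (hc.is_comm.comm ⟨((x : (P : Subgroup G)) : G), mem_subgroupOf.mp x.2⟩
              ⟨((y : (P : Subgroup G)) : G), mem_subgroupOf.mp y.2⟩)))⟩⟩
        exact isCyclic_of_surjective _ (subgroupOfEquivOfLe hP).surjective
      · by_contra hnc
        exact hQ ⟨hU, Q, hQR.symm ▸ hRS, fun h => hnc (hQR ▸ h)⟩
    · exact hoddcyc p hp hp2 (hA'U p hp hpd) R hR
  obtain ⟨hU2, Q, hQS, hQnc⟩ := hQ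
  obtain ⟨hQ8, -⟩ := quaternion_gens hB Q hU2 hQnc
  have h2E : ¬ 2 ∣ Nat.card E := fun h => hE1 2 Nat.prime_two h hU2
  -- the normal subgroup `W` generated by `E` and the Sylow `2`-subgroup
  set W : Subgroup G := ((Q : Subgroup G).map (QuotientGroup.mk' E)).comap (QuotientGroup.mk' E) with hW
  haveI : Group.IsSolvable (G ⧸ E) :=
    Group.isSolvable_of_surjective (QuotientGroup.mk'_surjective E)
  have hUq : ∀ r, r.Prime → UType r (G ⧸ E) := by
    intro r hr
    haveI := Fact.mk hr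
    by_cases hU : UType r G
    · exact (uType_quotient_iff E fun h => hE1 r hr h hU).mpr hU
    · refine uType_of_not_dvd fun h => ?_
      obtain ⟨⟨y, hymem⟩, hy⟩ := exists_prime_orderOf_dvd_card' (G := (⊤ : Subgroup (G ⧸ E))) r
        (by rwa [Nat.card_congr Subgroup.topEquiv.toEquiv])
      rw [Subgroup.orderOf_mk] at hy
      obtain ⟨x, hx, hxπ⟩ := exists_pi_lift {p | ¬ UType p G} E (y := y) (fun q hq hqd => by
        rw [hy] at hqd
        rw [(Nat.prime_dvd_prime_iff_eq hq hr).mp hqd]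
        exact hU)
      rw [← hx, (QuotientGroup.eq_one_iff x).mpr (hE2 x hxπ), orderOf_one] at hy
      exact hr.one_lt.ne hy
  haveI hWn : W.Normal := by
    have h := quaternion_normal (abConj_quotient (Nat.card G) G le_rfl hB E) hUq
      (Q.mapSurjective (QuotientGroup.mk'_surjective E)) (fun hc => hQnc (by
        rw [Sylow.coe_mapSurjective] at hc
        haveI := hc
        exact isCyclic_of_injective _ (injective_on_sylow E h2E Q)))
    rw [Sylow.coe_mapSurjective] at h
    exact h.comap _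
  have hQW : (Q : Subgroup G) ≤ W := le_comap_map _ _
  have h2W : ∀ R : Subgroup G, IsPGroup 2 R → R ≤ W := by
    intro R hR
    obtain ⟨P, hP⟩ := hR.exists_le_sylow
    obtain ⟨g, hg⟩ := MulAction.exists_smul_eq G Q P
    intro x hx
    have h1 := hP hx
    rw [← hg] at h1
    have h2 : g⁻¹ * x * g ∈ (Q : Subgroup G) := H1.mem_conj_smul_iff.mp h1
    have h3 := hWn.conj_mem _ (hQW h2) g
    rwa [show g * (g⁻¹ * x * g) * g⁻¹ = x by group] at h3
  have hWle : W ≤ (Q : Subgroup G) ⊔ E := by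
    rw [hW, comap_map_eq, QuotientGroup.ker_mk']
  -- components of `T` are centralised by `W` or full
  have hcomp : ∀ p, p.Prime → ∀ P : Sylow p G, ¬ UType p G → (P : Subgroup G) ⊓ T ≠ ⊥ →
      (P : Subgroup G) ≤ T ∨ W ≤ centralizer ((P : Subgroup G) : Set G) := by
    intro p hp P hU hne
    haveI := Fact.mk hp
    obtain ⟨hPn, hPc, hPexp⟩ := normal_of_not_uType (Nat.card G) G le_rfl hB p hU P
    have hPE : (P : Subgroup G) ≤ E := fun x hx => hE2 x fun q hq hqd => by
      obtain ⟨k, hk⟩ := IsPGroup.iff_orderOf.mp P.isPGroup' ⟨x, hx⟩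
      rw [Subgroup.orderOf_mk] at hk
      rw [hk] at hqd
      rw [(Nat.prime_dvd_prime_iff_eq hq hp).mp (hq.dvd_of_dvd_pow hqd)]
      exact hU
    set U := (P : Subgroup G) ⊓ T with hUdef
    by_cases hfull : U = (P : Subgroup G)
    · exact Or.inl (hfull.ge.trans inf_le_right)
    right
    have hEU : ∀ V : Subgroup G, V ≤ (P : Subgroup G) → E ≤ normalizer (V : Set G) :=
      fun V hV e he => mem_normalizer_fintype fun v hv => by
        rw [hEc e he v (hPE (hV hv)), mul_inv_cancel_right]; exact hv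
    have hWU : W ≤ normalizer (U : Set G) := by
      refine hWle.trans (sup_le (fun x hx => ?_) (hEU U inf_le_left))
      refine mem_normalizer_fintype fun u hu => ?_
      exact mem_inf.mpr ⟨hPn.conj_mem u (mem_inf.mp hu).1 x,
        (mem_normalizer_iff.mp (hQS hx) u).mp (mem_inf.mp hu).2⟩
    have hp2 : p ≠ 2 := by rintro rfl; exact hU hU2
    have hcommP : ∀ a ∈ (P : Subgroup G), ∀ b ∈ (P : Subgroup G), a * b = b * a := fun a ha b hb =>
      congrArg Subtype.val (hPc.is_comm.comm ⟨a, ha⟩ ⟨b, hb⟩)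
    have hQC : (Q : Subgroup G) ≤ centralizer ((P : Subgroup G) : Set G) := by
      refine centralizes_of_lines hB Q hU2 hQnc hp2 hPn hcommP hPexp fun x hx v hv => ?_
      refine conj_mem_zpowers hPn hcommP hPexp inf_le_left hne hfull x (fun U' hU' hc => ?_) hv
      obtain ⟨g, hg⟩ := hB U U' (hab _ (inf_le_left.trans hPE)) (hab _ (hU'.trans hPE)) hc.symm
      refine mem_normalizer_fintype fun y hy => ?_
      rw [hg] at hy ⊢
      obtain ⟨u, hu, rfl⟩ := hy
      refine ⟨g⁻¹ * x * g * u * (g⁻¹ * x * g)⁻¹,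
        (mem_normalizer_iff.mp (hWU (hWn.conj_mem' x (hQW hx) g)) u).mp hu, ?_⟩
      show g * (g⁻¹ * x * g * u * (g⁻¹ * x * g)⁻¹) * g⁻¹ = x * (g * u * g⁻¹) * x⁻¹
      group
    exact hWle.trans (sup_le hQC fun e he => mem_centralizer_iff.mpr fun v hv =>
      hEc v (hPE hv) e he)
  set T' := T ⊓ centralizer (W : Set G) with hT'
  -- elements normalising `T'` normalise `T`
  have hnormT : ∀ g : G, T'.map (MulAut.conj g).toMonoidHom = T' → g ∈ S := by
    intro g hg
    refine mem_normalizer_fintype fun t ht => ?_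
    suffices h : (T.comap (MulAut.conj g).toMonoidHom).subgroupOf T = ⊤ from
      mem_subgroupOf.mp (h ▸ mem_top (⟨t, ht⟩ : T))
    refine H35.eq_top_of_prime_pow_mem _ fun p b u hp hu => ?_
    rw [← Subgroup.orderOf_coe] at hu
    rw [mem_subgroupOf, mem_comap]
    show g * (u : G) * g⁻¹ ∈ T
    by_cases hu1 : (u : G) = 1
    · rw [hu1, mul_one, mul_inv_cancel]; exact one_mem T
    haveI := Fact.mk hp
    have hb : b ≠ 0 := fun h0 => hu1 (orderOf_eq_one_iff.mp (by rw [hu, h0, pow_zero]))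
    have hU : ¬ UType p G := hE1 p hp
      ((hu ▸ dvd_pow_self p hb).trans (Subgroup.orderOf_dvd_natCard E (mem_inf.mp u.2).2))
    obtain ⟨P, hP⟩ := (IsPGroup.of_card (p := p) (G := zpowers (u : G)) (n := b)
      (by rw [Nat.card_zpowers, hu])).exists_le_sylow
    obtain ⟨hPn, -, -⟩ := normal_of_not_uType (Nat.card G) G le_rfl hB p hU P
    rcases hcomp p hp P hU (fun h => hu1 (by
      have : (u : G) ∈ (P : Subgroup G) ⊓ T := mem_inf.mpr ⟨hP (mem_zpowers _), u.2⟩
      rwa [h, mem_bot] at this)) with h | h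
    · exact h (hPn.conj_mem _ (hP (mem_zpowers _)) g)
    · have huT' : (u : G) ∈ T' :=
        mem_inf.mpr ⟨u.2, le_centralizer_iff.mp h (hP (mem_zpowers _))⟩
      have hgu : g * (u : G) * g⁻¹ ∈ T' := hg ▸ ⟨_, huT', rfl⟩
      exact (mem_inf.mp hgu).1
  -- the Sylow `2`-subgroups of `A'` and `B'`
  have hR : ∀ C : Subgroup G, (∀ p, p.Prime → p ∣ Nat.card C → UType p G) →
      IsPGroup 2 ↥(C ⊓ W) ∧
      Nat.card ↥(C ⊓ W) = 2 ^ (Nat.card C).factorization 2 := by
    intro C hC
    have hpg : IsPGroup 2 ↥(C ⊓ W) := by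
      intro x
      have h1 : orderOf (x : G) ∣ Nat.card C := Subgroup.orderOf_dvd_natCard C (mem_inf.mp x.2).1
      -- the image in the quotient is a `2`-element
      obtain ⟨j, hj⟩ := IsPGroup.iff_orderOf.mp
        ((Q.mapSurjective (QuotientGroup.mk'_surjective E)).isPGroup')
        ⟨QuotientGroup.mk' E (x : G), by rw [Sylow.coe_mapSurjective]; exact (mem_inf.mp x.2).2⟩
      rw [Subgroup.orderOf_mk] at hj
      have hxE : (x : G) ^ (2 ^ j) ∈ E := by
        refine (QuotientGroup.eq_one_iff _).mp ?_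
        rw [QuotientGroup.mk_pow, ← hj]
        exact pow_orderOf_eq_one _
      refine ⟨j, Subtype.ext ?_⟩
      show (x : G) ^ 2 ^ j = 1
      by_contra hne
      obtain ⟨q, hq, hqd⟩ := Nat.exists_prime_and_dvd (mt orderOf_eq_one_iff.mp hne)
      exact hE1 q hq (hqd.trans (Subgroup.orderOf_dvd_natCard E hxE))
        (hC q hq ((hqd.trans (orderOf_pow_dvd _)).trans h1))
    refine ⟨hpg, ?_⟩
    obtain ⟨P⟩ : Nonempty (Sylow 2 C) := inferInstance
    have h1 : (P : Subgroup C).map C.subtype ≤ C ⊓ W :=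
      le_inf (map_subtype_le _) (h2W _ (P.isPGroup'.map _))
    have h2 := (hpg.comap_subtype (K := C))
    have h3 := P.is_maximal' h2 (fun y hy => h1 (mem_map_of_mem _ hy))
    have h4 : (C ⊓ W).subgroupOf C = (P : Subgroup C) := h3
    rw [← Nat.card_congr (subgroupOfEquivOfLe (inf_le_left : C ⊓ W ≤ C)).toEquiv, h4,
      P.card_eq_multiplicity]
  obtain ⟨hRA, hRAc⟩ := hR A' hA'U
  obtain ⟨hRB, hRBc⟩ := hR B' hB'U
  set RA := A' ⊓ W with hRAdef
  set RB := B' ⊓ W with hRBdef
  have hRR : Nat.card RA = Nat.card RB := by rw [hRAc, hRBc, hA'B']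
  have hRAS : RA ≤ S := inf_le_left.trans (hA'le.trans hAS)
  have hRBS : RB ≤ S := inf_le_left.trans (hB'le.trans hBS)
  -- conjugate the Sylow `2`-subgroups inside `S`
  obtain ⟨s, hsS, hs⟩ : ∃ s ∈ S, RB = RA.map (MulAut.conj s).toMonoidHom := by
    by_cases h4 : Nat.card RA = 4
    swap
    · exact conj_two_of_card_ne_four hU2 S Q hQS hQ8 RA RB hRA hRAS hRB hRBS hRR h4
    have habR : ∀ R : Subgroup G, Nat.card R = 4 → R ≤ W → IsMulCommutative ↥(T' ⊔ R) ∧
        Nat.card ↥(T' ⊔ R) = Nat.card T' * 4 := by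
      intro R hRc hRW
      have hRcomm := IsPGroup.isMulCommutative_of_card_eq_prime_sq (p := 2) (G := R)
        (by rw [hRc]; norm_num)
      have hT'R : R ≤ centralizer (T' : Set G) := le_centralizer_iff.mp
        (inf_le_right.trans (centralizer_le hRW))
      refine ⟨?_, ?_⟩
      · rw [sup_eq_closure]
        refine isMulCommutative_closure fun a ha b hb => ?_
        rcases ha with ha | ha <;> rcases hb with hb | hb
        · exact hEc a (mem_inf.mp (mem_inf.mp ha).1).2 b (mem_inf.mp (mem_inf.mp hb).1).2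
        · exact mem_centralizer_iff.mp (hT'R hb) a ha
        · exact (mem_centralizer_iff.mp (hT'R ha) b hb).symm
        · exact congrArg Subtype.val (hRcomm.is_comm.comm ⟨a, ha⟩ ⟨b, hb⟩)
      · rw [H1.card_sup_of_coprime (hT'R.trans (centralizer_le_normalizer _)), hRc]
        rw [hRc]
        refine (Nat.Coprime.pow_right 2 (Nat.coprime_two_right.mpr ?_))
        rw [← Nat.not_even_iff_odd, even_iff_two_dvd]
        exact fun h => h2E (h.trans (card_dvd_of_le (inf_le_left.trans inf_le_right)))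
    obtain ⟨hYA, hYAc⟩ := habR RA h4 inf_le_right
    obtain ⟨hYB, hYBc⟩ := habR RB (hRR.symm.trans h4) inf_le_right
    obtain ⟨g, hg⟩ := hB _ _ hYA hYB (by rw [hYAc, hYBc])
    have hYE : ∀ R : Subgroup G, Nat.card R = 4 → R ≤ W → ∀ y ∈ T' ⊔ R,
        (y ∈ E → y ∈ T') ∧ (orderOf y ∣ 4 → y ∈ R) := by
      intro R hRc hRW y hy
      have hT'R : R ≤ centralizer (T' : Set G) := le_centralizer_iff.mp
        (inf_le_right.trans (centralizer_le hRW))
      obtain ⟨t, ht, r, hr, rfl⟩ :=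
        H1.exists_mul_of_mem_sup (hT'R.trans (centralizer_le_normalizer _)) hy
      have htE : t ∈ E := (mem_inf.mp (mem_inf.mp ht).1).2
      have hr4 : r ^ 4 = 1 :=
        orderOf_dvd_iff_pow_eq_one.mp (hRc ▸ Subgroup.orderOf_dvd_natCard R hr)
      refine ⟨fun he => ?_, fun ho => ?_⟩
      · have hrE : r ∈ E := by simpa using mul_mem (inv_mem htE) he
        have hr1 : r = 1 := by
          rw [← orderOf_eq_one_iff]
          refine Nat.eq_one_of_dvd_coprimes (a := 2 ^ 2) ?_ (orderOf_dvd_of_pow_eq_one hr4)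
            (Subgroup.orderOf_dvd_natCard E hrE)
          exact (Nat.prime_two.coprime_iff_not_dvd.mpr h2E).pow_left 2
        rwa [hr1, mul_one]
      · have hc : Commute t r := mem_centralizer_iff.mp (hT'R hr) t ht
        have h := orderOf_dvd_iff_pow_eq_one.mp ho
        rw [hc.mul_pow, hr4, mul_one] at h
        have ht1 : t = 1 := by
          rw [← orderOf_eq_one_iff]
          refine Nat.eq_one_of_dvd_coprimes (a := 2 ^ 2) ?_ (orderOf_dvd_of_pow_eq_one h)
            (Subgroup.orderOf_dvd_natCard E htE)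
          exact (Nat.prime_two.coprime_iff_not_dvd.mpr h2E).pow_left 2
        rwa [ht1, one_mul]
    refine ⟨g, hnormT g (eq_of_le_of_card_ge ?_ ?_), (eq_of_le_of_card_ge ?_ ?_).symm⟩
    · rintro _ ⟨t, ht, rfl⟩
      exact (hYE RB (hRR.symm.trans h4) inf_le_right _
        (hg ▸ ⟨t, mem_sup_left ht, rfl⟩)).1 (hEn.conj_mem t (mem_inf.mp (mem_inf.mp ht).1).2 g)
    · rw [card_map_of_injective (MulAut.conj g).injective]
    · rintro _ ⟨r, hr, rfl⟩
      refine (hYE RB (hRR.symm.trans h4) inf_le_right _ (hg ▸ ⟨r, mem_sup_right hr, rfl⟩)).2 ?_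
      show orderOf (MulAut.conj g r) ∣ 4
      rw [MulEquiv.orderOf_eq, ← h4]
      exact Subgroup.orderOf_dvd_natCard RA hr
    · rw [card_map_of_injective (MulAut.conj g).injective, hRR]
  -- now both have the same Sylow `2`-subgroup
  set A₂ := A'.map (MulAut.conj s).toMonoidHom with hA₂
  have hA₂c : Nat.card A₂ = Nat.card A' := card_map_of_injective (MulAut.conj s).injective
  have hA₂W : A₂ ⊓ W = RB := by
    rw [hs, hRAdef, Subgroup.map_inf_eq _ _ _ (MulAut.conj s).injective]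
    congr 1
    exact (le_antisymm (by rintro _ ⟨e, he, rfl⟩; exact hWn.conj_mem e he s) fun e he =>
      ⟨s⁻¹ * e * s, hWn.conj_mem' e he s, show s * (s⁻¹ * e * s) * s⁻¹ = e by group⟩).symm
  have hA₂S : A₂ ≤ S := by
    rintro _ ⟨a, ha, rfl⟩
    exact mul_mem (mul_mem hsS (hAS (hA'le ha))) (inv_mem hsS)
  have hodd : ∀ C : Subgroup G, C ≤ S → Nat.card C = Nat.card B' → C ⊓ W = RB →
      ∃ O : Subgroup G, O ≤ S ⊓ normalizer (RB : Set G) ∧ RB ⊔ O = C ∧
        Nat.card O * Nat.card RB = Nat.card B' ∧ ¬ 2 ∣ Nat.card O ∧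
        (∀ p, p.Prime → p ∣ Nat.card O → UType p G) := by
    intro C hCS hCc hCW
    haveI : (RB.subgroupOf C).Normal := by
      rw [← hCW, inf_subgroupOf_left]
      infer_instance
    have hle : RB ≤ C := hCW ▸ inf_le_left
    have hc : Nat.card (RB.subgroupOf C) = Nat.card RB :=
      Nat.card_congr (subgroupOfEquivOfLe hle).toEquiv
    have hmul := (RB.subgroupOf C).card_mul_index
    rw [hc, hCc] at hmul
    have hi : ¬ 2 ∣ (RB.subgroupOf C).index := by
      intro h
      obtain ⟨m, hm⟩ := h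
      have hd : 2 ^ ((Nat.card B').factorization 2 + 1) ∣ Nat.card B' := by
        rw [pow_succ, ← hRBc]
        exact ⟨m, by rw [mul_assoc, ← hm, hmul]⟩
      have := (Nat.prime_two.pow_dvd_iff_le_factorization Nat.card_pos.ne').mp hd
      omega
    obtain ⟨K, hK⟩ := exists_right_complement'_of_coprime (N := RB.subgroupOf C) (by
      rw [hc, hRBc]
      exact (Nat.prime_two.coprime_iff_not_dvd.mpr hi).pow_left _)
    have hKc : Nat.card (K.map C.subtype) = (RB.subgroupOf C).index := by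
      rw [card_map_of_injective C.subtype_injective, ← hK.symm.index_eq_card]
    refine ⟨K.map C.subtype, le_inf ((map_subtype_le K).trans hCS) ?_, ?_, ?_, hKc ▸ hi, ?_⟩
    · intro x hx
      refine mem_normalizer_fintype fun y hy => ?_
      have hxC := map_subtype_le K hx
      rw [← hCW] at hy ⊢
      exact mem_inf.mpr ⟨C.mul_mem (C.mul_mem hxC (mem_inf.mp hy).1) (C.inv_mem hxC),
        hWn.conj_mem y (mem_inf.mp hy).2 x⟩
    · have h : (RB.subgroupOf C).map C.subtype ⊔ K.map C.subtype = C := by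
        rw [← Subgroup.map_sup, hK.sup_eq_top, ← MonoidHom.range_eq_map, range_subtype]
      rwa [map_subgroupOf_eq_of_le hle] at h
    · rw [hKc, mul_comm, hmul]
    · intro p hp hpd
      refine hB'U p hp (hpd.trans ?_)
      rw [← hCc]
      exact card_dvd_of_le (map_subtype_le K)
  obtain ⟨O, hOS, hOsup, hOc, hO2, hOU⟩ := hodd A₂ hA₂S (hA₂c.trans hA'B') hA₂W
  obtain ⟨O', hO'S, hO'sup, hO'c, -, -⟩ := hodd B' (hB'le.trans hBS) rfl rfl
  obtain ⟨t, ht, htO⟩ := conj_in_of_cyclic (S ⊓ normalizer (RB : Set G)) O O' hOS hO'S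
    (Nat.eq_of_mul_eq_mul_right (Nat.card_pos (α := RB)) (hOc.trans hO'c.symm))
    fun p hp hpd R _ hR => hoddcyc p hp (by rintro rfl; exact hO2 hpd) (hOU p hp hpd) R hR
  refine ⟨t * s, mul_mem (mem_inf.mp ht).1 hsS, ?_⟩
  have htR : RB.map (MulAut.conj t).toMonoidHom = RB := by
    refine eq_of_le_of_card_ge ?_ (by rw [card_map_of_injective (MulAut.conj t).injective])
    rintro _ ⟨r, hr, rfl⟩
    exact (mem_normalizer_iff.mp (mem_inf.mp ht).2 r).mp hr
  rw [← hO'sup, htO, ← htR, ← Subgroup.map_sup, hOsup, hA₂, Subgroup.map_map]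
  congr 1
  ext x
  simp [mul_assoc]

end H33
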