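import Cfsg.Agent.H33.AbConj
import Cfsg.Agent.H1.SchurZassenhausConj
import Cfsg.Agent.H1.Hall
import Cfsg.Agent.H2.UniqueSubgroup

set_option autoImplicit false

/-!
Quotients of solvable groups with conjugate abelian subgroups of equal order.
-/

namespace H33

open Subgroup

set_option linter.style.haveILetI false
set_option linter.unusedSectionVars false

universe u

variable {G : Type u} [Group G] [Finite G]

/-- A subgroup of coprime order to a normal `M` lifts isomorphically. -/
theorem exists_lift_of_coprime (M : Subgroup G) [M.Normal] (A : Subgroup (G ⧸ M))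
    (h : (Nat.card M).Coprime (Nat.card A)) :
    ∃ K : Subgroup G, Nat.card K = Nat.card A ∧ K.map (QuotientGroup.mk' M) = A ∧
      (IsMulCommutative A → IsMulCommutative K) := by
  set π := QuotientGroup.mk' M
  set D := A.comap π
  have hMD : M ≤ D := QuotientGroup.le_comap_mk' M A
  have hDc : Nat.card D = Nat.card M * Nat.card A := H1.card_comap_mk' M A
  have hMc : Nat.card (M.subgroupOf D) = Nat.card M :=
    Nat.card_congr (subgroupOfEquivOfLe hMD).toEquiv
  have hi : (M.subgroupOf D).index = Nat.card A := by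
    have h1 := (M.subgroupOf D).card_mul_index
    rw [hMc, hDc] at h1
    exact Nat.eq_of_mul_eq_mul_left Nat.card_pos h1
  obtain ⟨B, hB⟩ := exists_right_complement'_of_coprime (N := M.subgroupOf D)
    (by rw [hMc, hi]; exact h)
  set K := B.map D.subtype with hK
  have hKc : Nat.card K = Nat.card A := by
    rw [hK, ← Nat.card_congr (B.equivMapOfInjective _ D.subtype_injective).toEquiv,
      ← hB.symm.index_eq_card, hi]
  have hdis : Disjoint K π.ker := by
    rw [QuotientGroup.ker_mk']
    exact disjoint_of_coprime_natCard (by rw [hKc]; exact h.symm)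
  have hmap : K.map π = A := by
    refine eq_of_le_of_card_ge ?_ ?_
    · rintro _ ⟨_, ⟨b, -, rfl⟩, rfl⟩
      exact b.2
    · rw [H1.card_map_of_disjoint π K hdis, hKc]
  refine ⟨K, hKc, hmap, fun hA => ⟨⟨fun x y => Subtype.ext ?_⟩⟩⟩
  have hx : π x ∈ A := hmap ▸ mem_map_of_mem π x.2
  have hy : π y ∈ A := hmap ▸ mem_map_of_mem π y.2
  have h1 : π ((x : G) * y * (x : G)⁻¹ * (y : G)⁻¹) = 1 := by
    have h2 : π x * π y = π y * π x :=
      congrArg (Subtype.val (p := fun g => g ∈ A)) (hA.is_comm.comm ⟨_, hx⟩ ⟨_, hy⟩)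
    rw [map_mul, map_mul, map_mul, map_inv, map_inv, h2]; group
  have h3 : (x : G) * y * (x : G)⁻¹ * (y : G)⁻¹ = 1 :=
    Subgroup.disjoint_def.mp hdis
      (mul_mem (mul_mem (mul_mem x.2 y.2) (inv_mem x.2)) (inv_mem y.2)) h1
  rw [mul_inv_eq_one, mul_inv_eq_iff_eq_mul] at h3
  exact h3

/-- A 2-subgroup with abelian quotient by a central subgroup of a group with at most one
involution in each Sylow subgroup is abelian or is a Sylow subgroup. -/
theorem comm_or_sylow [Group.IsSolvable G] (hB : AbConj G) (hU : UType 2 G) {X : Subgroup G}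
    (hX : IsPGroup 2 X) :
    IsMulCommutative X ∨ ∃ S : Sylow 2 G, (S : Subgroup G) = X := by
  obtain ⟨S, hXS⟩ := hX.exists_le_sylow
  rcases H2.cyclic_or_quaternion_of_unique S.isPGroup' (hU S) with hc | ⟨-, n, ⟨e⟩⟩
  · haveI := hc
    haveI : IsCyclic X := Subgroup.isCyclic_of_le hXS
    exact Or.inl inferInstance
  have hn := quaternion_le (Nat.card G) G le_rfl hB S n ⟨e⟩
  haveI : NeZero (2 ^ n) := ⟨by positivity⟩
  have hSc : Nat.card S = 4 * 2 ^ n := by
    rw [Nat.card_congr e.toEquiv, Nat.card_eq_fintype_card, QuaternionGroup.card]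
  by_cases hXe : X = (S : Subgroup G)
  · exact Or.inr ⟨S, hXe.symm⟩
  left
  have hlt : Nat.card X < Nat.card S :=
    lt_of_le_of_ne (card_le_of_le hXS) fun h => hXe (eq_of_le_of_card_ge hXS h.ge)
  obtain ⟨j, hj⟩ := IsPGroup.iff_card.mp hX
  have hj2 : j ≤ 2 := by
    by_contra hj2
    have h8 : 2 ^ 3 ≤ 2 ^ j := Nat.pow_le_pow_right (by norm_num) (by omega)
    have h9 : 2 ^ n ≤ 2 ^ 1 := Nat.pow_le_pow_right (by norm_num) hn
    rw [hj, hSc] at hlt
    omega
  haveI := Fact.mk Nat.prime_two
  interval_cases j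
  · haveI : Subsingleton X := (Nat.card_eq_one_iff_unique.mp (by simpa using hj)).1
    exact ⟨⟨fun a b => Subsingleton.elim _ _⟩⟩
  · haveI : IsCyclic X := isCyclic_of_prime_card (p := 2) (by simpa using hj)
    infer_instance
  · exact IsPGroup.isMulCommutative_of_card_eq_prime_sq (p := 2) hj

theorem quotient_two [Group.IsSolvable G] (hB : AbConj G) (M : Subgroup G) [M.Normal]
    (hM0 : M ≠ ⊥) (hM2 : IsPGroup 2 M) (hexp : ∀ x ∈ M, x ^ 2 = 1) : AbConj (G ⧸ M) := by
  haveI := Fact.mk Nat.prime_two
  set π := QuotientGroup.mk' M with hπ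
  have h2M : 2 ∣ Nat.card M := by
    obtain ⟨k, hk⟩ := IsPGroup.iff_card.mp hM2
    rw [hk]
    exact dvd_pow_self 2 fun h0 => hM0 (card_eq_one.mp (by rw [hk, h0, pow_zero]))
  intro A B hA hB' hAB
  rcases uType_or_pow (p := 2) hB with hU | hE
  · have hMc : Nat.card M = 2 := card_eq_prime_of_uType hU M hM0 hM2 hexp
    have hMz : M ≤ center G := by
      intro m hm
      rw [mem_center_iff]
      intro g
      have hc := (inferInstance : M.Normal).conj_mem m hm g
      obtain ⟨x, y, -, huniv⟩ := Nat.card_eq_two_iff.mp hMc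
      have hall : ∀ z : M, z = x ∨ z = y := fun z => by
        have h := Set.mem_univ z
        rw [← huniv] at h
        simpa using h
      by_cases hm1 : m = 1
      · rw [hm1, mul_one, one_mul]
      have hne : g * m * g⁻¹ ≠ 1 := fun h => hm1 (conj_eq_one_iff.mp h)
      have : (⟨g * m * g⁻¹, hc⟩ : M) = ⟨m, hm⟩ := by
        rcases hall ⟨g * m * g⁻¹, hc⟩ with h1 | h1 <;> rcases hall ⟨m, hm⟩ with h2 | h2 <;>
          rcases hall 1 with h3 | h3 <;> first
            | exact h1.trans h2.symm
            | exact absurd (congrArg Subtype.val (h1.trans h3.symm)) hne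
            | exact absurd (congrArg Subtype.val (h2.trans h3.symm)) hm1
      exact mul_inv_eq_iff_eq_mul.mp (congrArg Subtype.val this)
    -- decompose preimages
    have main : ∀ A : Subgroup (G ⧸ M), IsMulCommutative A → ∃ X K : Subgroup G,
        IsPGroup 2 X ∧ IsMulCommutative K ∧ Nat.card X * Nat.card K = 2 * Nat.card A ∧
        Odd (Nat.card K) ∧ (X ⊔ K).map π = A ∧ X ≤ centralizer (K : Set G) ∧
        Nat.card ↥(X ⊔ K) = 2 * Nat.card A := by
      intro A hA
      set D := A.comap π with hD
      have hMD : M ≤ D := QuotientGroup.le_comap_mk' M A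
      have hDc : Nat.card D = 2 * Nat.card A := by rw [hD, H1.card_comap_mk', hMc]
      haveI : Group.IsNilpotent D := by
        let f : D →* A := (π.comp D.subtype).codRestrict A fun d => d.2
        letI : CommGroup A := { (inferInstance : Group A) with mul_comm := hA.is_comm.comm }
        refine Subgroup.isNilpotent_of_ker_le_center f (fun d hd => ?_)
        rw [mem_center_iff]
        intro g
        have hdM : (d : G) ∈ M := (QuotientGroup.eq_one_iff _).mp (congrArg Subtype.val hd)
        exact Subtype.ext ((mem_center_iff.mp (hMz hdM)) g)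
      obtain ⟨X⟩ : Nonempty (Sylow 2 D) := inferInstance
      obtain ⟨B, hBc⟩ := exists_right_complement'_of_coprime (N := (X : Subgroup D))
        X.card_coprime_index
      have hBodd : Odd (Nat.card B) := by
        rw [← hBc.symm.index_eq_card, ← Nat.not_even_iff_odd, even_iff_two_dvd]
        exact X.not_dvd_index
      set K := B.map D.subtype with hK
      set X' := (X : Subgroup D).map D.subtype with hX'
      have hKc : Nat.card K = Nat.card B :=
        (Nat.card_congr (B.equivMapOfInjective _ D.subtype_injective).toEquiv).symm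
      have hXc : Nat.card X' = Nat.card (X : Subgroup D) :=
        (Nat.card_congr ((X : Subgroup D).equivMapOfInjective _ D.subtype_injective).toEquiv).symm
      have hsup : X' ⊔ K = D := by
        rw [hX', hK, ← Subgroup.map_sup, hBc.sup_eq_top, ← MonoidHom.range_eq_map, range_subtype]
      have hKM : ∀ k ∈ K, k ∈ M → k = 1 := by
        intro k hk hkM
        rw [← orderOf_eq_one_iff]
        refine Nat.eq_one_of_dvd_coprimes (Nat.coprime_two_left.mpr (hKc ▸ hBodd)) ?_
          (Subgroup.orderOf_dvd_natCard K hk)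
        exact hMc ▸ Subgroup.orderOf_dvd_natCard M hkM
      refine ⟨X', K, X.isPGroup'.map _, ⟨⟨fun a b => Subtype.ext ?_⟩⟩, ?_, hKc ▸ hBodd, ?_, ?_, ?_⟩
      · have haD : (a : G) ∈ D := (map_subtype_le B) a.2
        have hbD : (b : G) ∈ D := (map_subtype_le B) b.2
        have h1 : π a * π b = π b * π a :=
          congrArg (Subtype.val (p := fun g => g ∈ A)) (hA.is_comm.comm ⟨_, haD⟩ ⟨_, hbD⟩)
        have h2 : (a : G) * b * (a : G)⁻¹ * (b : G)⁻¹ = 1 := by
          refine hKM _ (mul_mem (mul_mem (mul_mem a.2 b.2) (inv_mem a.2)) (inv_mem b.2)) ?_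
          refine (QuotientGroup.eq_one_iff _).mp ?_
          show π _ = 1
          rw [map_mul, map_mul, map_mul, map_inv, map_inv, h1]; group
        rw [mul_inv_eq_one, mul_inv_eq_iff_eq_mul] at h2
        exact h2
      · rw [hXc, hKc, hBc.card_mul, hDc]
      · rw [hsup, hD, map_comap_eq_self_of_surjective (QuotientGroup.mk'_surjective M)]
      · rintro _ ⟨x, hx, rfl⟩
        rw [mem_centralizer_iff]
        rintro _ ⟨b, hb, rfl⟩
        have hxo := IsPGroup.iff_orderOf.mp X.isPGroup' ⟨x, hx⟩
        simp only [Subgroup.orderOf_mk] at hxo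
        have hc := H33.commute_of_nilpotent hxo (z := b) (fun h => by
          have h1 := h.trans (Subgroup.orderOf_dvd_natCard B hb)
          exact (Nat.not_even_iff_odd.mpr hBodd) (even_iff_two_dvd.mpr h1))
        exact (congrArg Subtype.val hc.eq).symm
      · rw [hsup, hDc]
    have comm_sup : ∀ X K : Subgroup G, IsMulCommutative X → IsMulCommutative K →
        X ≤ centralizer (K : Set G) → IsMulCommutative ↥(X ⊔ K) := by
      intro X K hX hK hXK
      rw [sup_eq_closure]
      refine isMulCommutative_closure fun a ha b hb => ?_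
      rcases ha with ha | ha <;> rcases hb with hb | hb
      · exact congrArg Subtype.val (hX.is_comm.comm ⟨a, ha⟩ ⟨b, hb⟩)
      · exact (mem_centralizer_iff.mp (hXK ha) b hb).symm
      · exact mem_centralizer_iff.mp (hXK hb) a ha
      · exact congrArg Subtype.val (hK.is_comm.comm ⟨a, ha⟩ ⟨b, hb⟩)
    obtain ⟨X, K, hX2, hKab, hc, hKodd, hXK, hXKc, hcard⟩ := main A hA
    obtain ⟨Y, L, hY2, hLab, hc', hLodd, hYL, hYLc, hcard'⟩ := main B hB'
    -- equal parts
    obtain ⟨i, hi⟩ := IsPGroup.iff_card.mp hX2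
    obtain ⟨j, hj⟩ := IsPGroup.iff_card.mp hY2
    have hpar : Nat.card X = Nat.card Y ∧ Nat.card K = Nat.card L := by
      have h := hc.trans ((congrArg (2 * ·) hAB).trans hc'.symm)
      have hd1 : Nat.card X ∣ Nat.card Y := by
        refine Nat.Coprime.dvd_of_dvd_mul_right ?_ (h ▸ dvd_mul_right _ _)
        rw [hi]; exact (Nat.coprime_two_left.mpr hLodd).pow_left i
      have hd2 : Nat.card Y ∣ Nat.card X := by
        refine Nat.Coprime.dvd_of_dvd_mul_right ?_ (h.symm ▸ dvd_mul_right _ _)
        rw [hj]; exact (Nat.coprime_two_left.mpr hKodd).pow_left j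
      have e := Nat.dvd_antisymm hd1 hd2
      rw [e] at h
      exact ⟨e, Nat.eq_of_mul_eq_mul_left Nat.card_pos h⟩
    have finish : ∀ g : G, Y ⊔ L = (X ⊔ K).map (MulAut.conj g).toMonoidHom →
        ∃ g : G ⧸ M, B = A.map (MulAut.conj g).toMonoidHom := by
      intro g hg
      refine ⟨π g, ?_⟩
      rw [← hXK, ← hYL, hg, Subgroup.map_map, Subgroup.map_map]
      congr 1
    by_cases hboth : IsMulCommutative X ∧ IsMulCommutative Y
    · obtain ⟨g, hg⟩ := hB (X ⊔ K) (Y ⊔ L) (comm_sup X K hboth.1 hKab hXKc)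
        (comm_sup Y L hboth.2 hLab hYLc) (by rw [hcard, hcard', hAB])
      exact finish g hg
    · have hfull : ∃ S T : Sylow 2 G, (S : Subgroup G) = X ∧ (T : Subgroup G) = Y := by
        rcases comm_or_sylow hB hU hX2 with hXab | ⟨S, hS⟩
        · obtain ⟨T, hT⟩ := (comm_or_sylow hB hU hY2).resolve_left fun h => hboth ⟨hXab, h⟩
          obtain ⟨S, hS⟩ := hX2.exists_le_sylow
          refine ⟨S, T, (eq_of_le_of_card_ge hS ?_).symm, hT⟩
          rw [hpar.1, ← hT]
          exact le_of_eq (Sylow.card_eq_multiplicity S |>.trans (T.card_eq_multiplicity).symm)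
        · obtain ⟨T, hT⟩ := hY2.exists_le_sylow
          refine ⟨S, T, hS, (eq_of_le_of_card_ge hT ?_).symm⟩
          rw [← hpar.1, ← hS]
          exact le_of_eq (Sylow.card_eq_multiplicity T |>.trans (S.card_eq_multiplicity).symm)
      obtain ⟨S, T, hS, hT⟩ := hfull
      obtain ⟨g, hg⟩ := hB K L hKab hLab hpar.2
      have hX' : ((g • S : Sylow 2 G) : Subgroup G) ≤ centralizer (L : Set G) := by
        rw [Sylow.coe_subgroup_smul]
        intro w hw
        rw [H1.mem_conj_smul_iff] at hw
        rw [mem_centralizer_iff]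
        intro l hl
        rw [hg] at hl
        obtain ⟨k, hk, rfl⟩ := hl
        have h := mem_centralizer_iff.mp (hXKc (hS ▸ hw)) k hk
        show g * k * g⁻¹ * w = w * (g * k * g⁻¹)
        calc g * k * g⁻¹ * w = g * (k * (g⁻¹ * w * g)) * g⁻¹ := by group
          _ = g * (g⁻¹ * w * g * k) * g⁻¹ := by rw [h]
          _ = w * (g * k * g⁻¹) := by group
      have hY' : (T : Subgroup G) ≤ centralizer (L : Set G) := hT ▸ hYLc
      obtain ⟨c, hc⟩ := MulAction.exists_smul_eq (centralizer (L : Set G))
        ((g • S).subtype hX') (T.subtype hY')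
      refine finish ((c : G) * g) ?_
      have hmapX : X.map (MulAut.conj ((c : G) * g)).toMonoidHom = Y := by
        refine eq_of_le_of_card_ge ?_ ?_
        · rintro _ ⟨x, hx, rfl⟩
          have hgx : g * x * g⁻¹ ∈ centralizer (L : Set G) := by
            refine hX' ?_
            rw [Sylow.coe_subgroup_smul, hS]
            exact smul_mem_pointwise_smul _ (MulAut.conj g) _ hx
          have h1 : (⟨g * x * g⁻¹, hgx⟩ : centralizer (L : Set G)) ∈
              ((g • S).subtype hX' : Subgroup _) := by
            rw [Sylow.coe_subtype, mem_subgroupOf, Sylow.coe_subgroup_smul, hS]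
            exact smul_mem_pointwise_smul _ (MulAut.conj g) _ hx
          have h2 : c * ⟨g * x * g⁻¹, hgx⟩ * c⁻¹ ∈ (T.subtype hY' : Subgroup _) := by
            rw [← hc, Sylow.coe_subgroup_smul]
            exact smul_mem_pointwise_smul _ (MulAut.conj c) _ h1
          rw [Sylow.coe_subtype, mem_subgroupOf, hT] at h2
          simpa [mul_assoc] using h2
        · rw [card_map_of_injective (MulAut.conj _).injective, hpar.1]
      have hmapK : K.map (MulAut.conj ((c : G) * g)).toMonoidHom = L := by
        refine eq_of_le_of_card_ge ?_ ?_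
        · rintro _ ⟨k, hk, rfl⟩
          have hl : g * k * g⁻¹ ∈ L := hg.symm ▸ ⟨k, hk, rfl⟩
          have h := mem_centralizer_iff.mp c.2 _ hl
          show (c : G) * g * k * ((c : G) * g)⁻¹ ∈ L
          have : (c : G) * g * k * ((c : G) * g)⁻¹ = g * k * g⁻¹ := by
            calc (c : G) * g * k * ((c : G) * g)⁻¹ = ((c : G) * (g * k * g⁻¹)) * (c : G)⁻¹ := by group
              _ = ((g * k * g⁻¹) * c) * (c : G)⁻¹ := by rw [h]
              _ = g * k * g⁻¹ := by group
          rw [this]; exact hl
        · rw [card_map_of_injective (MulAut.conj _).injective, hpar.2]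
      rw [Subgroup.map_sup, hmapX, hmapK]
  · -- all `2`-elements lie in `M`
    have hodd : ∀ A : Subgroup (G ⧸ M), Odd (Nat.card A) := by
      intro A
      rw [← Nat.not_even_iff_odd, even_iff_two_dvd]
      intro h
      obtain ⟨⟨y, hy⟩, hyo⟩ := exists_prime_orderOf_dvd_card' (G := A) 2 h
      rw [Subgroup.orderOf_mk] at hyo
      obtain ⟨x, rfl⟩ := QuotientGroup.mk_surjective y
      obtain ⟨k, m, hm, hx⟩ := Nat.exists_eq_pow_mul_and_not_dvd (orderOf_pos x).ne' 2 (by norm_num)
      have hxk : x ^ m ∈ M := mem_of_pow hB hE M h2M ⟨k, by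
        rw [orderOf_pow_of_dvd (by rintro rfl; exact hm (dvd_zero 2)) (hx ▸ dvd_mul_left _ _), hx,
          Nat.mul_div_cancel _ (Nat.pos_of_ne_zero (by rintro rfl; exact hm (dvd_zero 2)))]⟩
      have h1 : (x : G ⧸ M) ^ m = 1 := by
        rw [← QuotientGroup.mk_pow]; exact (QuotientGroup.eq_one_iff _).mpr hxk
      exact hm (hyo ▸ orderOf_dvd_of_pow_eq_one h1)
    have hcop : ∀ A : Subgroup (G ⧸ M), (Nat.card M).Coprime (Nat.card A) := by
      intro A
      obtain ⟨k, hk⟩ := IsPGroup.iff_card.mp hM2
      rw [hk]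
      exact (Nat.coprime_two_left.mpr (hodd A)).pow_left k
    obtain ⟨K, hKc, hKmap, hKab⟩ := exists_lift_of_coprime M A (hcop A)
    obtain ⟨L, hLc, hLmap, hLab⟩ := exists_lift_of_coprime M B (hcop B)
    obtain ⟨g, hg⟩ := hB K L (hKab hA) (hLab hB') (by rw [hKc, hLc, hAB])
    refine ⟨π g, ?_⟩
    rw [← hKmap, ← hLmap, hg, Subgroup.map_map, Subgroup.map_map]
    congr 1

/-- The property passes to quotients of solvable groups. -/
theorem abConj_quotient : ∀ (N : ℕ) (G : Type u) [Group G] [Finite G] [Group.IsSolvable G],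
    Nat.card G ≤ N → AbConj G → ∀ (M : Subgroup G) [M.Normal], AbConj (G ⧸ M) := by
  intro N
  induction N with
  | zero => intro G _ _ _ hN; exact absurd (Nat.card_pos (α := G)) (by omega)
  | succ N ih =>
  intro G _ _ _ hN hB M _
  by_cases hM : M = ⊥
  · subst hM
    intro A B hA hB' hAB
    let e : G ⧸ (⊥ : Subgroup G) ≃* G := QuotientGroup.quotientBot
    obtain ⟨g, hg⟩ := hB (A.map e.toMonoidHom) (B.map e.toMonoidHom) (Subgroup.map_isMulCommutative A _)
      (Subgroup.map_isMulCommutative B _)
      ((card_map_of_injective (K := A) (f := e.toMonoidHom) e.injective).trans (hAB.trans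
        (card_map_of_injective (K := B) (f := e.toMonoidHom) e.injective).symm))
    refine ⟨e.symm g, map_injective (f := e.toMonoidHom) e.injective ?_⟩
    rw [hg, Subgroup.map_map, Subgroup.map_map]
    congr 1
    ext x
    simp
  obtain ⟨V, hV, hV0, hVM, hVmin⟩ := H3.exists_minNormal_le M hM
  obtain ⟨-, p, hp, hVexp, hVp, -⟩ := H3.minNormal_elementary V hV0 hVmin
  have hq : AbConj (G ⧸ V) := by
    by_cases h2 : p = 2
    · subst h2
      exact quotient_two hB V hV0 hVp hVexp
    · refine quotient_odd hB V ?_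
      haveI := Fact.mk hp
      obtain ⟨k, hk⟩ := IsPGroup.iff_card.mp hVp
      rw [hk]
      exact (hp.odd_of_ne_two h2).pow
  have hlt : Nat.card (G ⧸ V) ≤ N := by
    have h1 := card_eq_card_quotient_mul_card_subgroup V
    have h2 : 1 < Nat.card V := V.one_lt_card_iff_ne_bot.mpr hV0
    have h3 : 0 < Nat.card (G ⧸ V) := Nat.card_pos
    nlinarith
  haveI : Group.IsSolvable (G ⧸ V) :=
    Group.isSolvable_of_surjective (QuotientGroup.mk'_surjective V)
  have h := ih (G ⧸ V) hlt hq (M.map (QuotientGroup.mk' V))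
  let e := QuotientGroup.quotientQuotientEquivQuotient V M hVM
  intro A B hA hB' hAB
  obtain ⟨g, hg⟩ := h (A.map e.symm.toMonoidHom) (B.map e.symm.toMonoidHom)
    (Subgroup.map_isMulCommutative A _) (Subgroup.map_isMulCommutative B _)
    ((card_map_of_injective (K := A) (f := e.symm.toMonoidHom) e.symm.injective).trans (hAB.trans
      (card_map_of_injective (K := B) (f := e.symm.toMonoidHom) e.symm.injective).symm))
  refine ⟨e g, map_injective (f := e.symm.toMonoidHom) e.symm.injective ?_⟩
  rw [hg, Subgroup.map_map, Subgroup.map_map]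
  congr 1
  ext x
  simp

end H33
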