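import Cfsg.Agent.H33.AbConjQuot
import Cfsg.Agent.H2.FPFAction

set_option autoImplicit false

/-!
Structure of solvable groups with conjugate abelian subgroups of equal order.
-/

namespace H33

open Subgroup

set_option linter.style.haveILetI false
set_option linter.unusedSectionVars false

universe u

variable {G : Type u} [Group G] [Finite G]

theorem unique_of_injective {X Y : Type*} [Group X] [Group Y] {p : ℕ} (f : X →* Y)
    (hf : Function.Injective f) (h : ∀ H K : Subgroup Y, Nat.card H = p → Nat.card K = p → H = K) :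
    ∀ H K : Subgroup X, Nat.card H = p → Nat.card K = p → H = K := fun H K hH hK =>
  map_injective hf (h _ _ ((card_map_of_injective hf).trans hH) ((card_map_of_injective hf).trans hK))

theorem uType_of_one {p : ℕ} [Fact p.Prime] (P : Sylow p G)
    (h : ∀ H K : Subgroup (P : Subgroup G), Nat.card H = p → Nat.card K = p → H = K) : UType p G :=
  fun R => unique_of_injective (Sylow.equiv R P).toMonoidHom (Sylow.equiv R P).injective h

theorem injective_on_sylow {p : ℕ} [Fact p.Prime] (N : Subgroup G) [N.Normal]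
    (hN : ¬ p ∣ Nat.card N) (P : Sylow p G) :
    Function.Injective ((QuotientGroup.mk' N).subgroupMap (P : Subgroup G)) := by
  rw [injective_iff_map_eq_one]
  intro x hx
  have hxN : (x : G) ∈ N := (QuotientGroup.eq_one_iff _).mp (congrArg Subtype.val hx)
  obtain ⟨k, hk⟩ := IsPGroup.iff_orderOf.mp P.isPGroup' x
  rw [← orderOf_eq_one_iff]
  refine Nat.eq_one_of_dvd_coprimes
    (((Fact.out : p.Prime).coprime_iff_not_dvd.mpr hN).pow_left k) (hk ▸ dvd_rfl) ?_
  rw [← Subgroup.orderOf_coe]
  exact Subgroup.orderOf_dvd_natCard N hxN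

theorem uType_quotient_iff {p : ℕ} [Fact p.Prime] (N : Subgroup G) [N.Normal]
    (hN : ¬ p ∣ Nat.card N) : UType p (G ⧸ N) ↔ UType p G := by
  obtain ⟨P⟩ : Nonempty (Sylow p G) := inferInstance
  let f := (QuotientGroup.mk' N).subgroupMap (P : Subgroup G)
  let e := MulEquiv.ofBijective f ⟨injective_on_sylow N hN P, MonoidHom.subgroupMap_surjective _ _⟩
  constructor
  · intro h
    exact uType_of_one P (unique_of_injective e.toMonoidHom e.injective
      (h (P.mapSurjective (QuotientGroup.mk'_surjective N))))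
  · intro h
    exact uType_of_one (P.mapSurjective (QuotientGroup.mk'_surjective N))
      (unique_of_injective e.symm.toMonoidHom e.symm.injective (h P))

theorem uType_of_not_dvd {p : ℕ} [Fact p.Prime] (hp : ¬ p ∣ Nat.card G) : UType p G := by
  intro P H K hH _
  exact absurd ((hH ▸ card_subgroup_dvd_card H).trans (card_subgroup_dvd_card (P : Subgroup G))) hp

/-- A Sylow subgroup of the second type is normal and abelian. -/
theorem normal_of_not_uType : ∀ (n : ℕ) (G : Type u) [Group G] [Finite G] [Group.IsSolvable G],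
    Nat.card G ≤ n → AbConj G → ∀ (p : ℕ) [Fact p.Prime], ¬ UType p G → ∀ P : Sylow p G,
      (P : Subgroup G).Normal ∧ IsMulCommutative (P : Subgroup G) ∧
        ∀ x ∈ (P : Subgroup G), x ^ p = 1 := by
  intro n
  induction n with
  | zero => intro G _ _ _ hn; exact absurd (Nat.card_pos (α := G)) (by omega)
  | succ n ih =>
  intro G _ _ _ hn hB p _ hU P
  have hE := (uType_or_pow (p := p) hB).resolve_left hU
  have hPexp : ∀ x ∈ (P : Subgroup G), x ^ p = 1 := fun x hx => hE x (by
    obtain ⟨k, hk⟩ := IsPGroup.iff_orderOf.mp P.isPGroup' ⟨x, hx⟩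
    exact ⟨k, by rwa [Subgroup.orderOf_mk] at hk⟩)
  have hpG : p ∣ Nat.card G := by
    by_contra h; exact hU (uType_of_not_dvd h)
  haveI : Nontrivial G := Finite.one_lt_card_iff_nontrivial.mp
    (lt_of_lt_of_le (Fact.out : p.Prime).one_lt (Nat.le_of_dvd Nat.card_pos hpG))
  obtain ⟨N, hNn, hN0, hNmin⟩ := H3.exists_minNormal (G := G)
  obtain ⟨hNc, r, hr, hNexp, hNr, a, ha, hNcard⟩ := H3.minNormal_elementary N hN0 hNmin
  haveI := Fact.mk hr
  have hcommN : ∀ x ∈ N, ∀ y ∈ N, x * y = y * x := fun x hx y hy =>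
    congrArg Subtype.val (hNc.is_comm.comm ⟨x, hx⟩ ⟨y, hy⟩)
  by_cases hrp : r = p
  · subst hrp
    have hPN : (P : Subgroup G) = N := by
      refine le_antisymm (fun x hx => mem_of_pow hB hE N (hNcard ▸ dvd_pow_self r ha.ne') ?_)
        (hNr.le_sylow_of_normal P)
      obtain ⟨k, hk⟩ := IsPGroup.iff_orderOf.mp P.isPGroup' ⟨x, hx⟩
      exact ⟨k, by rwa [Subgroup.orderOf_mk] at hk⟩
    rw [hPN]
    exact ⟨hNn, hNc, fun x hx => hPexp x (hPN.symm ▸ hx)⟩
  have hpN : ¬ p ∣ Nat.card N := by
    rw [hNcard]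
    exact fun h => hrp ((Nat.prime_dvd_prime_iff_eq Fact.out hr).mp
      ((Fact.out : p.Prime).dvd_of_dvd_pow h)).symm
  have hlt : Nat.card (G ⧸ N) ≤ n := by
    have h1 := card_eq_card_quotient_mul_card_subgroup N
    have h2 : 1 < Nat.card N := N.one_lt_card_iff_ne_bot.mpr hN0
    have h3 : 0 < Nat.card (G ⧸ N) := Nat.card_pos
    nlinarith
  haveI : Group.IsSolvable (G ⧸ N) :=
    Group.isSolvable_of_surjective (QuotientGroup.mk'_surjective N)
  obtain ⟨hbn, hbc, -⟩ := ih (G ⧸ N) hlt (abConj_quotient (Nat.card G) G le_rfl hB N) p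
    (fun h => hU ((uType_quotient_iff N hpN).mp h))
    (P.mapSurjective (QuotientGroup.mk'_surjective N))
  rw [Sylow.coe_mapSurjective] at hbn hbc
  have hcommP : ∀ x ∈ (P : Subgroup G), ∀ y ∈ (P : Subgroup G), x * y = y * x := by
    intro x hx y hy
    have h1 := injective_on_sylow N hpN P
    have h2 : (QuotientGroup.mk' N).subgroupMap (P : Subgroup G) (⟨x, hx⟩ * ⟨y, hy⟩) =
        (QuotientGroup.mk' N).subgroupMap (P : Subgroup G) (⟨y, hy⟩ * ⟨x, hx⟩) := by
      rw [map_mul, map_mul]
      exact hbc.is_comm.comm _ _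
    exact congrArg Subtype.val (h1 h2)
  refine ⟨?_, ⟨⟨fun x y => Subtype.ext (hcommP x x.2 y y.2)⟩⟩, hPexp⟩
  set PN := ((P : Subgroup G).map (QuotientGroup.mk' N)).comap (QuotientGroup.mk' N) with hPN
  haveI : PN.Normal := hbn.comap _
  have hPPN : (P : Subgroup G) ≤ PN := le_comap_map _ _
  have hfr : normalizer ((P : Subgroup G) : Set G) ⊔ N = ⊤ := by
    have h := Sylow.normalizer_sup_eq_top (P.subtype hPPN)
    rw [Sylow.coe_subtype, map_subgroupOf_eq_of_le hPPN] at h
    refine top_le_iff.mp (h.ge.trans (sup_le le_sup_left ?_))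
    rw [hPN, comap_map_eq, QuotientGroup.ker_mk']
    exact sup_le (Subgroup.le_normalizer.trans le_sup_left) le_sup_right
  by_cases hcent : N ≤ centralizer ((P : Subgroup G) : Set G)
  · rw [← normalizer_eq_top_iff, ← top_le_iff, ← hfr]
    exact sup_le le_rfl (hcent.trans (centralizer_le_normalizer _))
  exfalso
  -- `P` acts faithfully on `N`
  have hfaith : ∀ x ∈ (P : Subgroup G), (∀ w ∈ N, x * w = w * x) → x = 1 := by
    intro x hx hxc
    by_contra hx1
    refine hcent fun w hw => mem_centralizer_iff.mpr fun y hy => ?_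
    obtain ⟨k, hk⟩ := IsPGroup.iff_orderOf.mp P.isPGroup' ⟨y, hy⟩
    rw [Subgroup.orderOf_mk] at hk
    have hxC : x ∈ centralizer (N : Set G) := mem_centralizer_iff.mpr fun w hw => (hxc w hw).symm
    haveI : (centralizer (N : Set G)).Normal := by
      constructor
      intro c hc g
      rw [mem_centralizer_iff] at hc ⊢
      intro z hz
      have h := hc _ (hNn.conj_mem' z hz g)
      calc z * (g * c * g⁻¹) = g * ((g⁻¹ * z * g) * c) * g⁻¹ := by group
        _ = g * (c * (g⁻¹ * z * g)) * g⁻¹ := by rw [h]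
        _ = g * c * g⁻¹ * z := by group
    have hpd : p ∣ Nat.card (centralizer (N : Set G)) := by
      rw [← orderOf_eq_prime (hPexp x hx) hx1]
      exact Subgroup.orderOf_dvd_natCard _ hxC
    exact (mem_centralizer_iff.mp (mem_of_pow hB hE _ hpd ⟨k, hk⟩) w hw).symm
  -- some nontrivial element of `P` fixes some nontrivial element of `N`
  have hnfree : ∃ x ∈ (P : Subgroup G), x ≠ 1 ∧ ∃ v ∈ N, v ≠ 1 ∧ x * v = v * x := by
    by_contra hfree
    push Not at hfree
    refine hU (uType_of_one P fun H K hH hK => ?_)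
    by_contra hne
    have hHK : ¬ K ≤ H := fun h => hne (eq_of_le_of_card_ge h (by rw [hH, hK])).symm
    haveI : K.Normal := ⟨fun k hk g => by
      rwa [show g * k * g⁻¹ = k from by
        rw [Subtype.ext (hcommP g g.2 k k.2) (a1 := g * k) (a2 := k * g), mul_inv_cancel_right]]⟩
    set D := H ⊔ K with hD
    obtain ⟨E, hEle⟩ : ∃ E : Subgroup (P : Subgroup G), E = D := ⟨D, rfl⟩
    have hdis : K ⊓ H = ⊥ := by
      have hd := card_dvd_of_le (inf_le_left : K ⊓ H ≤ K)
      rw [hK] at hd
      rcases (Nat.dvd_prime Fact.out).mp hd with h1 | h1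
      · exact card_eq_one.mp h1
      · exact absurd ((eq_of_le_of_card_ge inf_le_left (by rw [h1, hK])).ge.trans inf_le_right) hHK
    have hEc : Nat.card E = p ^ 2 := by
      have h1 := relIndex_mul_relIndex ⊥ H E bot_le (hEle ▸ le_sup_left)
      have h2 := relIndex_mul_relIndex ⊥ K E bot_le (hEle ▸ le_sup_right)
      rw [hEle, hD, relIndex_sup_right, ← inf_relIndex_right K H, hdis, relIndex_bot_left,
        relIndex_bot_left, relIndex_bot_left, hH, hK] at h2
      rw [hEle, hD, ← h2, pow_two]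
    haveI : Nontrivial N := (nontrivial_iff_ne_bot N).mpr hN0
    letI : CommGroup N :=
      { (inferInstance : Group N) with mul_comm := hNc.is_comm.comm }
    let ψ : E →* MulAut N :=
      (MulAut.conjNormal (H := N)).comp ((P : Subgroup G).subtype.comp E.subtype)
    letI : MulDistribMulAction E N := MulDistribMulAction.compHom N ψ
    haveI : IsCyclic E := H2.isCyclic_of_fpf_prime_sq (F := E) (M := N) (p := p) (fun e he m hm => by
      by_contra hm1
      refine hfree ((e : (P : Subgroup G)) : G) (e : (P : Subgroup G)).2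
        (fun h => he (Subtype.ext (Subtype.ext h))) m m.2 (fun h => hm1 (Subtype.ext h)) ?_
      exact mul_inv_eq_iff_eq_mul.mp (congrArg Subtype.val hm)) hEc
    obtain ⟨g, hg⟩ := IsCyclic.exists_generator (α := E)
    have hgo : orderOf g = p ^ 2 := (orderOf_eq_card_of_forall_mem_zpowers hg).trans hEc
    have h3 : orderOf g ∣ p := orderOf_dvd_of_pow_eq_one (Subtype.ext (Subtype.ext
      (hPexp _ (g : (P : Subgroup G)).2)))
    rw [hgo] at h3
    have h4 := Nat.le_of_dvd (Fact.out : p.Prime).pos h3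
    have h5 := (Fact.out : p.Prime).two_le
    nlinarith
  obtain ⟨x₀, hx₀P, hx₀, v, hvN, hv, hxv⟩ := hnfree
  set K : Subgroup G := (P : Subgroup G) ⊓ centralizer ({v} : Set G) with hK
  have hK0 : x₀ ∈ K := mem_inf.mpr ⟨hx₀P, mem_centralizer_singleton_iff.mpr hxv⟩
  -- all stabilisers of nontrivial elements have the same order
  have hsame : ∀ z ∈ N, z ≠ 1 →
      Nat.card ↥((P : Subgroup G) ⊓ centralizer ({z} : Set G)) = Nat.card K := by
    intro z hz hz1
    have hoz : orderOf z = r := orderOf_eq_prime (hNexp z hz) hz1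
    have hov : orderOf v = r := orderOf_eq_prime (hNexp v hvN) hv
    obtain ⟨g, hg⟩ := hB (zpowers v) (zpowers z) inferInstance inferInstance
      (by rw [Nat.card_zpowers, Nat.card_zpowers, hoz, hov])
    have hgmem : g ∈ ((normalizer ((P : Subgroup G) : Set G) ⊔ N : Subgroup G) : Set G) := by
      rw [hfr]; trivial
    rw [mul_normal] at hgmem
    obtain ⟨h, hh, w, hw, rfl⟩ := hgmem
    have hzv : zpowers z = (zpowers v).map (MulAut.conj h).toMonoidHom := by
      rw [hg]
      ext y
      simp only [mem_map, mem_zpowers_iff]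
      constructor
      · rintro ⟨_, ⟨i, rfl⟩, rfl⟩
        refine ⟨v ^ i, ⟨i, rfl⟩, ?_⟩
        show h * v ^ i * h⁻¹ = h * w * v ^ i * (h * w)⁻¹
        have hc := hcommN w hw (v ^ i) (zpow_mem hvN i)
        calc h * v ^ i * h⁻¹ = h * (v ^ i * w) * w⁻¹ * h⁻¹ := by group
          _ = h * (w * v ^ i) * w⁻¹ * h⁻¹ := by rw [hc]
          _ = h * w * v ^ i * (h * w)⁻¹ := by group
      · rintro ⟨_, ⟨i, rfl⟩, rfl⟩
        refine ⟨v ^ i, ⟨i, rfl⟩, ?_⟩
        show h * w * v ^ i * (h * w)⁻¹ = h * v ^ i * h⁻¹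
        have hc := hcommN w hw (v ^ i) (zpow_mem hvN i)
        calc h * w * v ^ i * (h * w)⁻¹ = h * (w * v ^ i) * w⁻¹ * h⁻¹ := by group
          _ = h * (v ^ i * w) * w⁻¹ * h⁻¹ := by rw [hc]
          _ = h * v ^ i * h⁻¹ := by group
    have hKeq : (P : Subgroup G) ⊓ centralizer ({z} : Set G) = K.map (MulAut.conj h).toMonoidHom := by
      have hcz : ∀ c : G, c ∈ centralizer ({z} : Set G) ↔ ∀ y ∈ zpowers z, c * y = y * c := by
        intro c
        rw [mem_centralizer_singleton_iff]
        refine ⟨fun hc y hy => ?_, fun hc => hc z (mem_zpowers z)⟩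
        obtain ⟨i, rfl⟩ := mem_zpowers_iff.mp hy
        exact (show Commute c z from hc).zpow_right i
      ext y
      constructor
      · intro hy
        refine ⟨h⁻¹ * y * h, mem_inf.mpr ⟨(mem_normalizer_iff''.mp hh y).mp hy.1, ?_⟩,
          show h * (h⁻¹ * y * h) * h⁻¹ = y by group⟩
        rw [mem_centralizer_singleton_iff]
        have hc := (hcz y).mp hy.2 (h * v * h⁻¹) (hzv ▸ ⟨v, mem_zpowers v, rfl⟩)
        calc h⁻¹ * y * h * v = h⁻¹ * (y * (h * v * h⁻¹)) * h := by group
          _ = h⁻¹ * ((h * v * h⁻¹) * y) * h := by rw [hc]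
          _ = v * (h⁻¹ * y * h) := by group
      · rintro ⟨c, hc, rfl⟩
        obtain ⟨hc1, hc2⟩ := mem_inf.mp hc
        refine mem_inf.mpr ⟨(mem_normalizer_iff.mp hh c).mp hc1, (hcz _).mpr fun y hy => ?_⟩
        rw [hzv] at hy
        obtain ⟨u, hu, rfl⟩ := hy
        obtain ⟨i, rfl⟩ := mem_zpowers_iff.mp hu
        have hcc := ((show Commute c v from mem_centralizer_singleton_iff.mp hc2).zpow_right i).eq
        show h * c * h⁻¹ * (h * v ^ i * h⁻¹) = h * v ^ i * h⁻¹ * (h * c * h⁻¹)
        calc h * c * h⁻¹ * (h * v ^ i * h⁻¹) = h * (c * v ^ i) * h⁻¹ := by group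
          _ = h * (v ^ i * c) * h⁻¹ := by rw [hcc]
          _ = h * v ^ i * h⁻¹ * (h * c * h⁻¹) := by group
    rw [hKeq, card_map_of_injective (MulAut.conj h).injective]
  -- the norm over `K`
  haveI : Fintype K := Fintype.ofFinite K
  letI : CommGroup N := { (inferInstance : Group N) with mul_comm := hNc.is_comm.comm }
  let c : G →* MulAut N := MulAut.conjNormal (H := N)
  let φ : N →* N := ∏ k : K, (c (k : G)).toMonoidHom
  have hφ : ∀ w, φ w = ∏ k : K, c (k : G) w := fun w => MonoidHom.finsetProd_apply _ _ _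
  have hφfix : ∀ (k : K) (w : N), c (k : G) (φ w) = φ w := by
    intro k w
    rw [hφ, map_prod]
    refine (Equiv.prod_comp (Equiv.mulLeft k) (fun k' : K => c (k' : G) w)).symm.trans ?_ |>.symm
    refine Finset.prod_congr rfl fun k' _ => ?_
    rw [Equiv.coe_mulLeft, Subgroup.coe_mul, map_mul, MulAut.mul_apply]
  have hKcop : (Nat.card K).Coprime (Nat.card N) := by
    obtain ⟨j, hj⟩ := IsPGroup.iff_card.mp (P.isPGroup'.to_le (inf_le_left : K ≤ _))
    rw [hj]
    exact ((Fact.out : p.Prime).coprime_iff_not_dvd.mpr hpN).pow_left j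
  have hφC : ∀ w : N, (∀ k : K, c (k : G) w = w) → φ w = w ^ Nat.card K := by
    intro w hw
    rw [hφ, Finset.prod_congr rfl (fun k _ => hw k), Finset.prod_const, Finset.card_univ,
      Nat.card_eq_fintype_card]
  have hker : ∀ u : N, φ u = 1 → u = 1 := by
    intro u hu
    by_contra hu1
    set v' : N := ⟨v, hvN⟩ with hv'
    have hφv : φ v' = v' ^ Nat.card K := hφC v' fun k => Subtype.ext (by
      show (k : G) * v * (k : G)⁻¹ = v
      rw [mem_centralizer_singleton_iff.mp (mem_inf.mp k.2).2, mul_inv_cancel_right])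
    have hsep : ∀ a b : N, φ a = a ^ Nat.card K → φ b = 1 → a = b → a = 1 := by
      intro a b ha hb hab
      subst hab
      exact (powCoprime hKcop.symm).injective
        (show a ^ Nat.card K = 1 ^ Nat.card K by rw [one_pow, ← ha, hb])
    set z : N := v' * u with hz
    have hz1 : z ≠ 1 := by
      intro h
      have h1 := congrArg φ h
      rw [hz, map_mul, hu, mul_one, map_one] at h1
      exact hv (congrArg Subtype.val (hsep v' v' hφv h1 rfl))
    have hle : (P : Subgroup G) ⊓ centralizer ({(z : G)} : Set G) ≤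
        K ⊓ centralizer ({(u : G)} : Set G) := by
      intro x hx
      obtain ⟨hxP, hxz⟩ := mem_inf.mp hx
      have hcomm : ∀ w : N, φ (c x w) = c x (φ w) := by
        intro w
        rw [hφ, hφ, map_prod]
        refine Finset.prod_congr rfl fun k _ => ?_
        rw [← MulAut.mul_apply, ← MulAut.mul_apply, ← map_mul, ← map_mul,
          hcommP k (mem_inf.mp k.2).1 x hxP]
      have hxz' : c x z = z := Subtype.ext (by
        show x * (z : G) * x⁻¹ = z
        rw [mem_centralizer_singleton_iff.mp hxz, mul_inv_cancel_right])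
      rw [hz, map_mul] at hxz'
      have hsplit : c x v' * v'⁻¹ = u * (c x u)⁻¹ := by
        rw [eq_comm, ← div_eq_mul_inv, ← div_eq_mul_inv, div_eq_div_iff_mul_eq_mul, mul_comm u v']
        exact hxz'.symm
      have hfv : c x v' = v' := by
        refine mul_inv_eq_one.mp (hsep _ _ ?_ ?_ hsplit)
        · rw [map_mul, map_inv, hcomm, hφv, map_pow, mul_pow, inv_pow]
        · rw [map_mul, map_inv, hcomm, hu, map_one, inv_one, one_mul]
      have hfu : c x u = u := by
        rw [hfv] at hxz'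
        exact mul_left_cancel hxz'
      have e1 : x * v * x⁻¹ = v := congrArg Subtype.val hfv
      have e2 : x * (u : G) * x⁻¹ = u := congrArg Subtype.val hfu
      exact mem_inf.mpr ⟨mem_inf.mpr ⟨hxP,
        mem_centralizer_singleton_iff.mpr (mul_inv_eq_iff_eq_mul.mp e1)⟩,
        mem_centralizer_singleton_iff.mpr (mul_inv_eq_iff_eq_mul.mp e2)⟩
    have heq : K ⊓ centralizer ({(u : G)} : Set G) = K := by
      refine eq_of_le_of_card_ge inf_le_left ?_
      rw [← hsame (z : G) z.2 (fun h => hz1 (Subtype.ext h))]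
      exact card_le_of_le hle
    refine hu1 (hsep u u (hφC u fun k => Subtype.ext ?_) hu rfl)
    show (k : G) * (u : G) * (k : G)⁻¹ = u
    rw [mem_centralizer_singleton_iff.mp (mem_inf.mp (heq.ge k.2)).2, mul_inv_cancel_right]
  refine hx₀ (hfaith x₀ hx₀P fun w hw => ?_)
  set w' : N := ⟨w, hw⟩
  have h1 : φ (w' ^ Nat.card K * (φ w')⁻¹) = 1 := by
    rw [map_mul, map_inv, map_pow, hφC (φ w') (fun k => hφfix k w'), mul_inv_cancel]
  have h2 := mul_inv_eq_one.mp (hker _ h1)
  have h3 : c x₀ (w' ^ Nat.card K) = w' ^ Nat.card K := by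
    rw [h2]; exact hφfix ⟨x₀, hK0⟩ w'
  rw [map_pow] at h3
  have h4 : c x₀ w' = w' := (powCoprime hKcop.symm).injective h3
  exact mul_inv_eq_iff_eq_mul.mp (congrArg Subtype.val h4)

end H33
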