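import Mathlib

/-!
Matrix groups whose trace vanishes off the scalars, of index the square of the degree.
Every finite soluble group embeds in the central quotient of such a group.
-/

set_option autoImplicit false
set_option linter.unusedSectionVars false

universe u

open Matrix

namespace H33.CentralType

/-- `G` embeds into `H/S`, `S` the scalars of a finite matrix group `H` of central type,
with the same primes and squarefree scalar part. -/
def Good (G : Type u) [Group G] : Prop :=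
  ∃ (ι : Type) (_ : Fintype ι) (_ : DecidableEq ι) (_ : Nonempty ι)
    (H : Subgroup (Matrix ι ι ℂ)ˣ) (_ : Finite H) (S : Subgroup H) (_ : S.Normal),
    (∀ h : H, h ∈ S ↔ ∃ r : ℂ, ((h : (Matrix ι ι ℂ)ˣ) : Matrix ι ι ℂ) = r • 1) ∧
    (∀ h : H, h ∉ S → Matrix.trace ((h : (Matrix ι ι ℂ)ˣ) : Matrix ι ι ℂ) = 0) ∧
    S.index = Fintype.card ι ^ 2 ∧
    (∃ f : G →* H ⧸ S, Function.Injective f) ∧
    (∀ q : ℕ, q.Prime → (q ∣ Nat.card H ↔ q ∣ Nat.card G) ∧ (q ∣ Nat.card S ↔ q ∣ Nat.card G)) ∧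
    Squarefree (Nat.card S)

theorem good_of_subsingleton (G : Type u) [Group G] [Subsingleton G] : Good G := by
  have : Nat.card (⊥ : Subgroup (Matrix (Fin 1) (Fin 1) ℂ)ˣ) = 1 := Subgroup.card_bot
  have hs : Subsingleton (⊥ : Subgroup (Matrix (Fin 1) (Fin 1) ℂ)ˣ) :=
    (Nat.card_eq_one_iff_unique.1 this).1
  have hG : Nat.card G = 1 := Nat.card_of_subsingleton (1 : G)
  refine ⟨Fin 1, inferInstance, inferInstance, inferInstance, ⊥, inferInstance, ⊤, inferInstance,
    fun h => iff_of_true (Subgroup.mem_top _) ⟨1, ?_⟩, fun h hh => absurd (Subgroup.mem_top _) hh,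
    ?_, ⟨1, fun a b _ => Subsingleton.elim a b⟩, fun q hq => ?_, ?_⟩
  · rw [Subsingleton.elim h 1]
    simp
  · simp [Subgroup.index_top]
  · rw [this, Subgroup.card_top, this, hG]
    simp
  · rw [Subgroup.card_top, this]
    exact squarefree_one

section Step

variable {ι : Type} [Fintype ι] [DecidableEq ι] (H : Subgroup (Matrix ι ι ℂ)ˣ) (S : Subgroup H)
  [S.Normal] (X : Type) [Fintype X] [DecidableEq X] [MulAction (H ⧸ S) X] (p : ℕ) [Fact p.Prime]

/-- permutation action on functions -/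
def perm (σ : H ⧸ S) (v : X → ZMod p) : X → ZMod p := fun x => v (σ⁻¹ • x)

lemma perm_mul (σ τ : H ⧸ S) (v : X → ZMod p) :
    perm H S X p (σ * τ) v = perm H S X p σ (perm H S X p τ v) := by
  funext x
  simp [perm, mul_smul]

lemma perm_one (v : X → ZMod p) : perm H S X p 1 v = v := by
  funext x
  simp [perm]

lemma perm_sub (σ : H ⧸ S) (v w : X → ZMod p) :
    perm H S X p σ (v - w) = perm H S X p σ v - perm H S X p σ w := rfl

lemma perm_neg (σ : H ⧸ S) (v : X → ZMod p) : perm H S X p σ (-v) = -perm H S X p σ v := rfl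

lemma perm_zero (σ : H ⧸ S) : perm H S X p σ 0 = 0 := rfl

lemma dot_perm (σ : H ⧸ S) (v w : X → ZMod p) :
    perm H S X p σ v ⬝ᵥ perm H S X p σ w = v ⬝ᵥ w :=
  Fintype.sum_equiv (MulAction.toPerm σ⁻¹) _ _ fun _ => rfl

/-- the monomial operator -/
noncomputable def mat (a : ZMod p) (b c : X → ZMod p) (h : H) :
    Matrix ((X → ZMod p) × ι) ((X → ZMod p) × ι) ℂ :=
  fun u v => if v.1 = perm H S X p (QuotientGroup.mk h)⁻¹ (u.1 - c) then
    ZMod.stdAddChar (a + b ⬝ᵥ u.1) * ((h : (Matrix ι ι ℂ)ˣ) : Matrix ι ι ℂ) u.2 v.2 else 0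

lemma mat_mul (a₁ a₂ : ZMod p) (b₁ b₂ c₁ c₂ : X → ZMod p) (h₁ h₂ : H) :
    mat H S X p a₁ b₁ c₁ h₁ * mat H S X p a₂ b₂ c₂ h₂ =
      mat H S X p (a₁ + a₂ - perm H S X p (QuotientGroup.mk h₁) b₂ ⬝ᵥ c₁)
        (b₁ + perm H S X p (QuotientGroup.mk h₁) b₂)
        (c₁ + perm H S X p (QuotientGroup.mk h₁) c₂) (h₁ * h₂) := by
  ext u w
  set σ : H ⧸ S := QuotientGroup.mk h₁ with hσ
  set τ : H ⧸ S := QuotientGroup.mk h₂ with hτ
  have hinv : ∀ v : X → ZMod p, perm H S X p σ⁻¹ (perm H S X p σ v) = v := fun v => by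
    rw [← perm_mul, inv_mul_cancel, perm_one]
  have hinv' : ∀ v : X → ZMod p, perm H S X p σ (perm H S X p σ⁻¹ v) = v := fun v => by
    rw [← perm_mul, mul_inv_cancel, perm_one]
  have e1 : perm H S X p (QuotientGroup.mk (h₁ * h₂) : H ⧸ S)⁻¹ (u.1 - (c₁ + perm H S X p σ c₂))
      = perm H S X p τ⁻¹ (perm H S X p σ⁻¹ (u.1 - c₁) - c₂) := by
    rw [QuotientGroup.mk_mul, _root_.mul_inv_rev, perm_mul, ← sub_sub, perm_sub, hinv]
  have e2 : b₂ ⬝ᵥ perm H S X p σ⁻¹ (u.1 - c₁) = perm H S X p σ b₂ ⬝ᵥ u.1 - perm H S X p σ b₂ ⬝ᵥ c₁ := by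
    rw [← dot_perm H S X p σ b₂, hinv', dotProduct_sub]
  rw [Matrix.mul_apply, Fintype.sum_prod_type, Fintype.sum_eq_single (perm H S X p σ⁻¹ (u.1 - c₁))]
  · simp only [mat, ← hσ, ← hτ, if_true, e1]
    by_cases hw : w.1 = perm H S X p τ⁻¹ (perm H S X p σ⁻¹ (u.1 - c₁) - c₂)
    · simp only [if_pos hw]
      rw [Subgroup.coe_mul, Units.val_mul, Matrix.mul_apply, Finset.mul_sum]
      refine Finset.sum_congr rfl fun l _ => ?_
      rw [e2, show a₁ + a₂ - perm H S X p σ b₂ ⬝ᵥ c₁ + (b₁ + perm H S X p σ b₂) ⬝ᵥ u.1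
          = (a₁ + b₁ ⬝ᵥ u.1) + (a₂ + (perm H S X p σ b₂ ⬝ᵥ u.1 - perm H S X p σ b₂ ⬝ᵥ c₁)) by
        rw [add_dotProduct]; abel, AddChar.map_add_eq_mul _ (a₁ + b₁ ⬝ᵥ u.1)]
      ring
    · simp [if_neg hw]
  · intro y hy
    refine Finset.sum_eq_zero fun l _ => ?_
    simp [mat, ← hσ, hy]

lemma mat_one : mat H S X p 0 0 0 1 = 1 := by
  ext u v
  simp only [mat, QuotientGroup.mk_one, inv_one, perm_one, sub_zero, zero_dotProduct, add_zero,
    AddChar.map_zero_eq_one, one_mul, Matrix.one_apply, Subgroup.coe_one, Units.val_one, Prod.ext_iff]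
  by_cases h1 : v.1 = u.1
  · simp [h1]
  · rw [if_neg h1, if_neg fun h => h1 h.1.symm]

lemma mat_inv (a : ZMod p) (b c : X → ZMod p) (h : H) :
    mat H S X p a b c h * mat H S X p (-a - b ⬝ᵥ c) (-perm H S X p (QuotientGroup.mk h)⁻¹ b)
      (-perm H S X p (QuotientGroup.mk h)⁻¹ c) h⁻¹ = 1 := by
  rw [mat_mul, perm_neg, perm_neg, ← perm_mul, ← perm_mul, mul_inv_cancel, perm_one, perm_one,
    neg_dotProduct, add_neg_cancel, add_neg_cancel, mul_inv_cancel,
    show a + (-a - b ⬝ᵥ c) - -(b ⬝ᵥ c) = 0 by abel, mat_one]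

/-- the monomial operator as a unit -/
noncomputable def op (a : ZMod p) (b c : X → ZMod p) (h : H) :
    (Matrix ((X → ZMod p) × ι) ((X → ZMod p) × ι) ℂ)ˣ where
  val := mat H S X p a b c h
  inv := mat H S X p (-a - b ⬝ᵥ c) (-perm H S X p (QuotientGroup.mk h)⁻¹ b)
      (-perm H S X p (QuotientGroup.mk h)⁻¹ c) h⁻¹
  val_inv := mat_inv H S X p a b c h
  inv_val := mul_eq_one_comm.1 (mat_inv H S X p a b c h)

lemma op_mul (a₁ a₂ : ZMod p) (b₁ b₂ c₁ c₂ : X → ZMod p) (h₁ h₂ : H) :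
    op H S X p a₁ b₁ c₁ h₁ * op H S X p a₂ b₂ c₂ h₂ =
      op H S X p (a₁ + a₂ - perm H S X p (QuotientGroup.mk h₁) b₂ ⬝ᵥ c₁)
        (b₁ + perm H S X p (QuotientGroup.mk h₁) b₂)
        (c₁ + perm H S X p (QuotientGroup.mk h₁) c₂) (h₁ * h₂) :=
  Units.ext (mat_mul H S X p a₁ a₂ b₁ b₂ c₁ c₂ h₁ h₂)

lemma op_one : op H S X p 0 0 0 1 = 1 := Units.ext (mat_one H S X p)

lemma op_inv (a : ZMod p) (b c : X → ZMod p) (h : H) :
    (op H S X p a b c h)⁻¹ = op H S X p (-a - b ⬝ᵥ c) (-perm H S X p (QuotientGroup.mk h)⁻¹ b)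
      (-perm H S X p (QuotientGroup.mk h)⁻¹ c) h⁻¹ :=
  Units.ext rfl

/-- all operators -/
noncomputable def opGroup : Subgroup (Matrix ((X → ZMod p) × ι) ((X → ZMod p) × ι) ℂ)ˣ where
  carrier := Set.range fun t : ZMod p × (X → ZMod p) × (X → ZMod p) × H =>
    op H S X p t.1 t.2.1 t.2.2.1 t.2.2.2
  mul_mem' := by
    rintro _ _ ⟨⟨a, b, c, h⟩, rfl⟩ ⟨⟨a', b', c', h'⟩, rfl⟩
    exact ⟨(_, _, _, _), (op_mul H S X p _ _ _ _ _ _ _ _).symm⟩
  one_mem' := ⟨(0, 0, 0, 1), op_one H S X p⟩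
  inv_mem' := by
    rintro _ ⟨⟨a, b, c, h⟩, rfl⟩
    exact ⟨(_, _, _, _), (op_inv H S X p _ _ _ _).symm⟩

/-- operator inside the group -/
noncomputable def el (a : ZMod p) (b c : X → ZMod p) (h : H) : opGroup H S X p :=
  ⟨op H S X p a b c h, ⟨(a, b, c, h), rfl⟩⟩

lemma el_mul (a₁ a₂ : ZMod p) (b₁ b₂ c₁ c₂ : X → ZMod p) (h₁ h₂ : H) :
    el H S X p a₁ b₁ c₁ h₁ * el H S X p a₂ b₂ c₂ h₂ =
      el H S X p (a₁ + a₂ - perm H S X p (QuotientGroup.mk h₁) b₂ ⬝ᵥ c₁)
        (b₁ + perm H S X p (QuotientGroup.mk h₁) b₂)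
        (c₁ + perm H S X p (QuotientGroup.mk h₁) c₂) (h₁ * h₂) :=
  Subtype.ext (op_mul H S X p a₁ a₂ b₁ b₂ c₁ c₂ h₁ h₂)

lemma el_inv (a : ZMod p) (b c : X → ZMod p) (h : H) :
    (el H S X p a b c h)⁻¹ = el H S X p (-a - b ⬝ᵥ c) (-perm H S X p (QuotientGroup.mk h)⁻¹ b)
      (-perm H S X p (QuotientGroup.mk h)⁻¹ c) h⁻¹ :=
  Subtype.ext (op_inv H S X p a b c h)

lemma el_one : el H S X p 0 0 0 1 = 1 := Subtype.ext (op_one H S X p)

lemma el_surj (g : opGroup H S X p) : ∃ a b c h, el H S X p a b c h = g := by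
  obtain ⟨⟨a, b, c, h⟩, hg⟩ := g.2
  exact ⟨a, b, c, h, Subtype.ext hg⟩

lemma trace_mat (hS : ∀ h : H, h ∉ S → Matrix.trace ((h : (Matrix ι ι ℂ)ˣ) : Matrix ι ι ℂ) = 0)
    (a : ZMod p) (b c : X → ZMod p) (h : H) (hne : ¬(b = 0 ∧ c = 0 ∧ h ∈ S)) :
    Matrix.trace (mat H S X p a b c h) = 0 := by
  rw [Matrix.trace, Fintype.sum_prod_type]
  simp only [Matrix.diag_apply, mat]
  by_cases hh : h ∈ S
  · have h1 : (QuotientGroup.mk h : H ⧸ S) = 1 := (QuotientGroup.eq_one_iff h).2 hh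
    simp only [h1, inv_one, perm_one]
    by_cases hc : c = 0
    · subst hc
      have hb : b ≠ 0 := fun e => hne ⟨e, rfl, hh⟩
      obtain ⟨x₀, hx₀⟩ := Function.ne_iff.1 hb
      simp only [sub_zero, if_true, ← Finset.mul_sum, ← Finset.sum_mul, AddChar.map_add_eq_mul]
      let ψ : AddChar (X → ZMod p) ℂ :=
        { toFun := fun v => ZMod.stdAddChar (b ⬝ᵥ v)
          map_zero_eq_one' := by simp
          map_add_eq_mul' := fun v w => by rw [dotProduct_add, AddChar.map_add_eq_mul] }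
      have hψ : ψ ≠ 0 := by
        intro e
        have := DFunLike.congr_fun e (Pi.single x₀ (1 : ZMod p))
        change ZMod.stdAddChar (b ⬝ᵥ Pi.single x₀ 1) = 1 at this
        rw [dotProduct_single, mul_one, ← AddChar.map_zero_eq_one (ZMod.stdAddChar (N := p))] at this
        exact hx₀ (ZMod.injective_stdAddChar this)
      have := AddChar.sum_eq_zero_iff_ne_zero.2 hψ
      change ∑ v : X → ZMod p, ZMod.stdAddChar (b ⬝ᵥ v) = 0 at this
      rw [this]
      simp
    · refine Finset.sum_eq_zero fun y _ => Finset.sum_eq_zero fun i _ => if_neg ?_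
      intro e
      apply hc
      simpa using e.symm
  · refine Finset.sum_eq_zero fun y _ => ?_
    split_ifs with e
    · rw [← Finset.mul_sum]
      exact mul_eq_zero_of_right _ (hS h hh)
    · simp

lemma mat_scalar (a : ZMod p) (h : H) (hh : h ∈ S) (r : ℂ)
    (hr : ((h : (Matrix ι ι ℂ)ˣ) : Matrix ι ι ℂ) = r • 1) :
    mat H S X p a 0 0 h = (ZMod.stdAddChar a * r) • 1 := by
  ext u v
  simp only [mat, (QuotientGroup.eq_one_iff h).2 hh, inv_one, perm_one, sub_zero, zero_dotProduct,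
    add_zero, hr, Matrix.smul_apply, Matrix.one_apply, smul_eq_mul, Prod.ext_iff]
  by_cases h1 : v.1 = u.1
  · simp [h1]
  · rw [if_neg h1, if_neg fun h => h1 h.1.symm, mul_zero]

/-- the matrix of an element -/
noncomputable abbrev valM (g : opGroup H S X p) :
    Matrix ((X → ZMod p) × ι) ((X → ZMod p) × ι) ℂ :=
  ((g : (Matrix ((X → ZMod p) × ι) ((X → ZMod p) × ι) ℂ)ˣ) : Matrix _ _ ℂ)

/-- scalar operators -/
noncomputable def scalars : Subgroup (opGroup H S X p) where
  carrier := {g | ∃ r : ℂ, ((g : (Matrix ((X → ZMod p) × ι) ((X → ZMod p) × ι) ℂ)ˣ) :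
      Matrix ((X → ZMod p) × ι) ((X → ZMod p) × ι) ℂ) = r • 1}
  mul_mem' := by
    rintro g h ⟨r, hr⟩ ⟨s, hs⟩
    exact ⟨r * s, by rw [Subgroup.coe_mul, Units.val_mul, hr, hs, smul_mul_smul_comm, mul_one]⟩
  one_mem' := ⟨1, by simp⟩
  inv_mem' := by
    rintro g ⟨r, hr⟩
    refine ⟨r⁻¹, ?_⟩
    set u : (Matrix ((X → ZMod p) × ι) ((X → ZMod p) × ι) ℂ)ˣ := g.1
    have h1 := Units.mul_inv u
    rw [hr, smul_mul_assoc, one_mul] at h1
    rw [Subgroup.coe_inv]
    by_cases h0 : r = 0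
    · rw [h0, zero_smul] at h1
      have : Subsingleton (Matrix ((X → ZMod p) × ι) ((X → ZMod p) × ι) ℂ) :=
        subsingleton_of_zero_eq_one h1
      exact Subsingleton.elim _ _
    · rw [← h1, smul_smul, inv_mul_cancel₀ h0, one_smul]

lemma scalars_cyclic [Nonempty ι] [Finite (opGroup H S X p)] : IsCyclic (scalars H S X p) := by
  obtain ⟨i⟩ := ‹Nonempty ι›
  let v : scalars H S X p →* ℂ :=
    { toFun := fun t => valM H S X p t.1 (0, i) (0, i)
      map_one' := by simp [valM]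
      map_mul' := fun t t' => by
        obtain ⟨r, hr⟩ := t.2
        obtain ⟨r', hr'⟩ := t'.2
        simp [valM, hr, hr', mul_comm] }
  refine isCyclic_of_subgroup_isDomain v fun t t' htt => ?_
  obtain ⟨r, hr⟩ := t.2
  obtain ⟨r', hr'⟩ := t'.2
  change valM H S X p t.1 (0, i) (0, i) = valM H S X p t'.1 (0, i) (0, i) at htt
  simp [valM, hr, hr'] at htt
  exact Subtype.ext (Subtype.ext (Units.ext (by rw [hr, hr', htt])))

instance scalars_normal : (scalars H S X p).Normal where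
  conj_mem := by
    rintro n ⟨r, hr⟩ g
    refine ⟨r, ?_⟩
    simp only [Subgroup.coe_mul, Subgroup.coe_inv, Units.val_mul, hr, mul_smul_comm, mul_one,
      smul_mul_assoc, Units.mul_inv]

end Step

set_option maxHeartbeats 1000000 in
theorem good_step {G : Type u} [Group G] [Finite G] (A : Subgroup G) [A.Normal] (p : ℕ)
    [Fact p.Prime] (hA1 : A ≠ ⊥) (hAc : ∀ x ∈ A, ∀ y ∈ A, x * y = y * x) (hAp : ∀ x ∈ A, x ^ p = 1)
    (hgood : Good (G ⧸ A)) : Good G := by
  classical
  obtain ⟨ι, _, _, _, H, _, S, _, hS, htr, hidx, ⟨f, hf⟩, hpr, hsq⟩ := hgood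
  -- `A` as a space over the prime field
  have : Fintype (H ⧸ S) := Fintype.ofFinite _
  let _ : CommGroup A :=
    { (inferInstance : Group A) with mul_comm := fun x y => Subtype.ext (hAc x x.2 y y.2) }
  obtain ⟨iM⟩ : Nonempty (Module (ZMod p) (Additive A)) :=
    ⟨AddCommGroup.zmodModule fun x => Additive.toMul.injective (Subtype.ext (hAp _ (Additive.toMul x).2))⟩
  obtain ⟨k, ⟨e⟩⟩ : ∃ k, Nonempty (Additive A ≃ₗ[ZMod p] (Fin k → ZMod p)) :=
    ⟨_, ⟨(Module.finBasis (ZMod p) (Additive A)).equivFun⟩⟩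
  have hAcard : Nat.card A = p ^ k := by
    rw [Nat.card_congr (Additive.ofMul.trans e.toEquiv), Nat.card_fun, Nat.card_zmod, Nat.card_fin]
  have hk : k ≠ 0 := by
    rintro rfl
    exact hA1 (Subgroup.card_eq_one.1 (by simpa using hAcard))
  let X := (H ⧸ S) × Fin k
  let _ : MulAction (H ⧸ S) X :=
    { smul := fun σ x => (σ * x.1, x.2)
      one_smul := fun x => Prod.ext (one_mul _) rfl
      mul_smul := fun σ τ x => Prod.ext (mul_assoc _ _ _) rfl }
  -- equivariant retraction onto `G ⧸ A`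
  obtain ⟨ret, hret⟩ : ∃ ret : H ⧸ S → G ⧸ A, ∀ a y, ret (f a * y) = a * ret y := by
    let rep : H ⧸ S → H ⧸ S := fun y => (Quotient.mk (QuotientGroup.rightRel f.range) y).out
    have hrep : ∀ y, ∃ a, y = f a * rep y := fun y => by
      have h1 : (QuotientGroup.rightRel f.range).r (rep y) y :=
        Quotient.exact (Quotient.out_eq _)
      obtain ⟨a, ha⟩ := QuotientGroup.rightRel_apply.1 h1
      exact ⟨a, by rw [ha, inv_mul_cancel_right]⟩
    choose ret hret using hrep
    refine ⟨ret, fun a y => hf ?_⟩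
    have h1 : rep (f a * y) = rep y := by
      refine congrArg Quotient.out (Quotient.sound (QuotientGroup.rightRel_apply.2 ?_))
      rw [_root_.mul_inv_rev, mul_inv_cancel_left]
      exact inv_mem ⟨a, rfl⟩
    have h2 := hret (f a * y)
    rw [h1] at h2
    nth_rw 1 [hret y] at h2
    rw [map_mul, ← mul_assoc] at *
    exact (mul_right_cancel h2).symm
  -- the cocycle
  let s : G ⧸ A → G := Quotient.out
  have hs : ∀ q : G ⧸ A, (QuotientGroup.mk (s q) : G ⧸ A) = q := fun q => Quotient.out_eq q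
  have hmem : ∀ (g : G) (q : G ⧸ A), (s q)⁻¹ * g * s ((QuotientGroup.mk g)⁻¹ * q) ∈ A := fun g q => by
    rw [← QuotientGroup.eq_one_iff, QuotientGroup.mk_mul, QuotientGroup.mk_mul, QuotientGroup.mk_inv,
      hs, hs, mul_assoc, mul_inv_cancel_left, inv_mul_cancel]
  let cA : G → G ⧸ A → A := fun g q => ⟨_, hmem g q⟩
  have hcA : ∀ g g' q, cA (g * g') q = cA g q * cA g' ((QuotientGroup.mk g)⁻¹ * q) := fun g g' q => by
    apply Subtype.ext
    simp only [cA, Subgroup.coe_mul, QuotientGroup.mk_mul, _root_.mul_inv_rev, mul_assoc, mul_inv_cancel_left]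
  let cv : G → X → ZMod p := fun g x => e (Additive.ofMul (cA g (ret x.1))) x.2
  let sg : G → H ⧸ S := fun g => f (QuotientGroup.mk g)
  have hsg : ∀ g g', sg (g * g') = sg g * sg g' := fun g g' => by simp only [sg, QuotientGroup.mk_mul, map_mul]
  have hcv : ∀ g g', cv (g * g') = cv g + perm H S X p (sg g) (cv g') := fun g g' => by
    funext x
    have h1 : ret ((sg g)⁻¹ * x.1) = (QuotientGroup.mk g)⁻¹ * ret x.1 := by
      rw [← hret, map_inv]
    show e _ x.2 = e _ x.2 + e (Additive.ofMul (cA g' (ret ((sg g)⁻¹ * x.1)))) x.2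
    rw [h1, hcA, ofMul_mul, map_add]
    rfl
  -- parameters of a scalar
  have hscal : ∀ a b c h, el H S X p a b c h ∈ scalars H S X p ↔ b = 0 ∧ c = 0 ∧ h ∈ S := by
    intro a b c h
    constructor
    · rintro ⟨r, hr⟩
      by_contra hne
      have h0 := trace_mat H S X p htr a b c h hne
      change mat H S X p a b c h = r • 1 at hr
      rw [hr, Matrix.trace_smul, Matrix.trace_one, smul_eq_mul] at h0
      have hr0 : r ≠ 0 := by
        rintro rfl
        rw [zero_smul] at hr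
        have h1 := mat_inv H S X p a b c h
        rw [hr, zero_mul] at h1
        exact zero_ne_one h1
      exact (mul_ne_zero hr0 (Nat.cast_ne_zero.2 Fintype.card_ne_zero)) h0
    · rintro ⟨rfl, rfl, hh⟩
      obtain ⟨r, hr⟩ := (hS h).1 hh
      exact ⟨_, mat_scalar H S X p a h hh r hr⟩
  let Φ : (X → ZMod p) × (X → ZMod p) × (H ⧸ S) → opGroup H S X p ⧸ scalars H S X p :=
    fun t => QuotientGroup.mk (el H S X p 0 t.1 t.2.1 t.2.2.out)
  have hΦ : ∀ a b c h, (QuotientGroup.mk (el H S X p a b c h) : _ ⧸ scalars H S X p)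
      = Φ (b, c, QuotientGroup.mk h) := by
    intro a b c h
    apply QuotientGroup.eq.2
    rw [el_inv, el_mul, hscal]
    refine ⟨?_, ?_, ?_⟩
    · simp
    · simp
    · have := QuotientGroup.out_eq' (QuotientGroup.mk h : H ⧸ S)
      exact QuotientGroup.eq.1 this.symm
  have hΦb : Function.Bijective Φ := by
    refine ⟨?_, fun z => ?_⟩
    · rintro ⟨b, c, σ⟩ ⟨b', c', σ'⟩ heq
      have h1 := QuotientGroup.eq.1 heq
      rw [el_inv, el_mul, hscal] at h1
      obtain ⟨hb, hc, hh⟩ := h1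
      have hσ : σ = σ' := by
        have := QuotientGroup.eq.2 hh
        simpa using this
      subst hσ
      simp only [QuotientGroup.mk_inv, QuotientGroup.out_eq', ← sub_eq_neg_add, sub_eq_zero] at hb hc
      have hinj : Function.Injective (perm H S X p σ⁻¹) := Function.LeftInverse.injective
        (g := perm H S X p σ) fun v => by rw [← perm_mul, mul_inv_cancel, perm_one]
      rw [hinj hb, hinj hc]
    · obtain ⟨g, rfl⟩ := QuotientGroup.mk_surjective z
      obtain ⟨a, b, c, h, rfl⟩ := el_surj H S X p g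
      exact ⟨_, (hΦ a b c h).symm⟩
  have : Finite (opGroup H S X p) := by
    show Finite ↥(Set.range _)
    infer_instance
  have hcardV : Nat.card (X → ZMod p) = p ^ Fintype.card X := by
    rw [Nat.card_fun, Nat.card_zmod, Nat.card_eq_fintype_card]
  have hindex : (scalars H S X p).index = Fintype.card ((X → ZMod p) × ι) ^ 2 := by
    rw [Subgroup.index_eq_card, ← Nat.card_eq_of_bijective Φ hΦb, Nat.card_prod, Nat.card_prod,
      Fintype.card_prod, ← Nat.card_eq_fintype_card (α := X → ZMod p), ← Subgroup.index_eq_card, hidx]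
    ring
  -- the scalar part
  let emb : S →* (scalars H S X p) :=
    { toFun := fun z => ⟨el H S X p 0 0 0 z, (hscal _ _ _ _).2 ⟨rfl, rfl, z.2⟩⟩
      map_one' := Subtype.ext (el_one H S X p)
      map_mul' := fun z w => Subtype.ext (by
        show el H S X p 0 0 0 (z * w : H) = el H S X p 0 0 0 z * el H S X p 0 0 0 w
        rw [el_mul]; simp [perm_zero]) }
  have hembinj : Function.Injective emb := by
    intro z w hzw
    have h1 : mat H S X p 0 0 0 (z : H) = mat H S X p 0 0 0 (w : H) :=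
      congrArg (fun t : (scalars H S X p) => valM H S X p t.1) hzw
    apply Subtype.ext
    apply Subtype.ext
    apply Units.ext
    ext i j
    have h2 := congrFun (congrFun h1 (0, i)) (0, j)
    simpa [mat, perm_zero] using h2
  let one' : (scalars H S X p) := ⟨el H S X p 1 0 0 1, (hscal _ _ _ _).2 ⟨rfl, rfl, S.one_mem⟩⟩
  have hel_pow : ∀ (a : ZMod p) (z : H), z ∈ S → ∀ n : ℕ,
      el H S X p a 0 0 z ^ n = el H S X p (n * a) 0 0 (z ^ n) := by
    intro a z hz n
    induction n with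
    | zero => simp [el_one]
    | succ n ih => rw [pow_succ, ih, el_mul, pow_succ]; simp [perm_zero, add_mul]
  have hone : orderOf one' = p := by
    apply orderOf_eq_prime
    · apply Subtype.ext
      show el H S X p 1 0 0 1 ^ p = 1
      rw [hel_pow _ _ S.one_mem]
      simp [el_one]
    · intro e1
      have h1 : mat H S X p 1 0 0 1 = 1 :=
        congrArg (fun t : (scalars H S X p) => valM H S X p t.1) e1
      obtain ⟨i⟩ := ‹Nonempty ι›
      have h2 := congrFun (congrFun h1 (0, i)) (0, i)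
      simp [mat, perm_zero] at h2
      rw [← AddChar.map_zero_eq_one (ZMod.stdAddChar (N := p))] at h2
      exact one_ne_zero (ZMod.injective_stdAddChar h2)
  obtain ⟨L, hLsq, hpL, hSL, hLprimes⟩ : ∃ L, Squarefree L ∧ p ∣ L ∧ Nat.card S ∣ L ∧
      ∀ q : ℕ, q.Prime → q ∣ L → q = p ∨ q ∣ Nat.card S := by
    by_cases hp : p ∣ Nat.card S
    · exact ⟨_, hsq, hp, dvd_rfl, fun q _ h => Or.inr h⟩
    · refine ⟨p * Nat.card S, ?_, dvd_mul_right _ _, dvd_mul_left _ _, fun q hq h => ?_⟩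
      · exact (Nat.squarefree_mul ((Fact.out : p.Prime).coprime_iff_not_dvd.2 hp)).2
          ⟨(Fact.out : p.Prime).squarefree, hsq⟩
      · rcases hq.dvd_mul.1 h with h | h
        · exact Or.inl ((Nat.prime_dvd_prime_iff_eq hq Fact.out).1 h)
        · exact Or.inr h
  have hTL : Nat.card (scalars H S X p) ∣ L := by
    have : IsCyclic (scalars H S X p) := scalars_cyclic H S X p
    obtain ⟨t, ht⟩ := IsCyclic.exists_generator (α := (scalars H S X p))
    rw [← orderOf_eq_card_of_forall_mem_zpowers ht]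
    apply orderOf_dvd_of_pow_eq_one
    obtain ⟨a, b, c, z, hz⟩ := el_surj H S X p (t : opGroup H S X p)
    have h1 : el H S X p a b c z ∈ (scalars H S X p) := hz ▸ t.2
    obtain ⟨rfl, rfl, hzS⟩ := (hscal _ _ _ _).1 h1
    apply Subtype.ext
    rw [SubgroupClass.coe_pow, ← hz, hel_pow _ _ hzS, Subgroup.coe_one, ← el_one]
    congr 1
    · rw [(ZMod.natCast_eq_zero_iff L p).2 hpL, zero_mul]
    · obtain ⟨m, hm⟩ := hSL
      have h3 := pow_card_eq_one' (x := (⟨z, hzS⟩ : S))
      have h4 : z ^ Nat.card S = 1 := congrArg Subtype.val h3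
      rw [hm, pow_mul, h4, one_pow]
  have hTp : p ∣ Nat.card (scalars H S X p) := (dvd_of_eq hone.symm).trans (orderOf_dvd_natCard one')
  have hTS : Nat.card S ∣ Nat.card (scalars H S X p) := Subgroup.card_dvd_of_injective emb hembinj
  have hG : Nat.card G = p ^ k * Nat.card (G ⧸ A) := by
    rw [← A.card_mul_index, hAcard, Subgroup.index_eq_card]
  have hGprimes : ∀ q : ℕ, q.Prime → (q ∣ Nat.card G ↔ q = p ∨ q ∣ Nat.card (G ⧸ A)) := fun q hq => by
    rw [hG, hq.dvd_mul]
    constructor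
    · rintro (h | h)
      · exact Or.inl ((Nat.prime_dvd_prime_iff_eq hq Fact.out).1 (hq.dvd_of_dvd_pow h))
      · exact Or.inr h
    · rintro (h | h)
      · exact Or.inl (h ▸ dvd_pow_self p hk)
      · exact Or.inr h
  have hTprimes : ∀ q : ℕ, q.Prime → (q ∣ Nat.card (scalars H S X p) ↔ q ∣ Nat.card G) := fun q hq => by
    rw [hGprimes q hq]
    constructor
    · intro h
      exact (hLprimes q hq (h.trans hTL)).imp_right ((hpr q hq).2.1)
    · rintro (h | h)
      · exact h ▸ hTp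
      · exact ((hpr q hq).2.2 h).trans hTS
  refine ⟨(X → ZMod p) × ι, inferInstance, inferInstance, inferInstance, opGroup H S X p,
    inferInstance, (scalars H S X p), inferInstance, fun g => Iff.rfl, fun g hg => ?_, hindex, ?_,
    fun q hq => ⟨?_, hTprimes q hq⟩, Squarefree.squarefree_of_dvd hTL hLsq⟩
  · obtain ⟨a, b, c, h, rfl⟩ := el_surj H S X p g
    exact trace_mat H S X p htr a b c h fun hh => hg ((hscal _ _ _ _).2 hh)
  · refine ⟨MonoidHom.mk' (fun g => Φ (0, cv g, sg g)) fun g g' => ?_, ?_⟩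
    · show Φ _ = QuotientGroup.mk _ * QuotientGroup.mk _
      rw [← QuotientGroup.mk_mul, el_mul, hΦ, hcv, hsg]
      simp [perm_zero]
    · rw [injective_iff_map_eq_one]
      intro g hg
      have h1 : Φ (0, cv g, sg g) = Φ (0, 0, 1) := by
        refine hg.trans ?_
        rw [← QuotientGroup.mk_one (scalars H S X p), ← el_one, hΦ, QuotientGroup.mk_one]
      have h2 := hΦb.1 h1
      simp only [Prod.mk.injEq, true_and] at h2
      obtain ⟨hc, hσ⟩ := h2
      have hgA : g ∈ A := (QuotientGroup.eq_one_iff g).1 (hf (hσ.trans (map_one f).symm))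
      have hall : ∀ y i, e (Additive.ofMul (cA g (ret y))) i = 0 := fun y i => congrFun hc (y, i)
      have h3 : cA g (ret 1) = 1 := by
        have : Additive.ofMul (cA g (ret 1)) = 0 := e.injective (by
          rw [map_zero]; funext i; exact hall 1 i)
        simpa using this
      have h4 : (s (ret 1))⁻¹ * g * s ((QuotientGroup.mk g)⁻¹ * ret 1) = 1 := congrArg Subtype.val h3
      rw [(QuotientGroup.eq_one_iff g).2 hgA, inv_one, one_mul] at h4
      have h5 : (s (ret 1))⁻¹ * g = (s (ret 1))⁻¹ := eq_inv_of_mul_eq_one_left h4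
      exact mul_left_cancel (h5.trans (mul_one _).symm)
  · rw [← Subgroup.card_mul_index (scalars H S X p), hindex, hq.dvd_mul, hTprimes q hq]
    constructor
    · rintro (h | h)
      · exact h
      · rw [Fintype.card_prod, mul_pow, hq.dvd_mul] at h
        rw [hGprimes q hq]
        rcases h with h | h
        · rw [← Nat.card_eq_fintype_card, hcardV, ← pow_mul] at h
          exact Or.inl ((Nat.prime_dvd_prime_iff_eq hq Fact.out).1 (hq.dvd_of_dvd_pow h))
        · refine Or.inr ((hpr q hq).1.1 ?_)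
          rw [← hidx] at h
          exact h.trans S.index_dvd_card
    · exact Or.inl

theorem good_of_solvable : ∀ (n : ℕ) (G : Type u) [Group G] [Finite G] [Group.IsSolvable G],
    Nat.card G = n → Good G := by
  intro n
  induction n using Nat.strong_induction_on with
  | _ n ih =>
    intro G _ _ hsolv hn
    classical
    rcases subsingleton_or_nontrivial G with hG | hG
    · exact good_of_subsingleton G
    obtain ⟨m, hm⟩ := hsolv.solvable
    have hex : ∃ i, derivedSeries G (i + 1) = ⊥ := ⟨m, le_bot_iff.1 ((derivedSeries_antitone G (Nat.le_succ m)).trans hm.le)⟩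
    set i := Nat.find hex with hi
    have hD : derivedSeries G i ≠ ⊥ := by
      rcases Nat.eq_zero_or_pos i with h | h
      · rw [h, derivedSeries_zero]; exact top_ne_bot
      · have := Nat.find_min hex (show i - 1 < Nat.find hex by omega)
        rwa [Nat.sub_add_cancel h] at this
    have hDc : ∀ x ∈ derivedSeries G i, ∀ y ∈ derivedSeries G i, x * y = y * x := by
      intro x hx y hy
      have h1 : ⁅derivedSeries G i, derivedSeries G i⁆ = ⊥ := Nat.find_spec hex
      exact (Subgroup.mem_centralizer_iff.1 ((Subgroup.commutator_eq_bot_iff_le_centralizer.1 h1) hy) x hx)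
    obtain ⟨p, hp, hpD⟩ : ∃ p, Nat.Prime p ∧ p ∣ Nat.card (derivedSeries G i) :=
      Nat.exists_prime_and_dvd fun h => hD (Subgroup.card_eq_one.1 h)
    have : Fact p.Prime := ⟨hp⟩
    let A : Subgroup G :=
      { carrier := {x | x ∈ derivedSeries G i ∧ x ^ p = 1}
        mul_mem' := fun {x y} hx hy => ⟨mul_mem hx.1 hy.1, by
          rw [Commute.mul_pow (hDc x hx.1 y hy.1), hx.2, hy.2, one_mul]⟩
        one_mem' := ⟨one_mem _, one_pow p⟩
        inv_mem' := fun {x} hx => ⟨inv_mem hx.1, by rw [inv_pow, hx.2, inv_one]⟩ }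
    have hAn : A.Normal := ⟨fun x hx g => ⟨(derivedSeries_normal G i).conj_mem x hx.1 g, by
      rw [conj_pow, hx.2, mul_one, mul_inv_cancel]⟩⟩
    obtain ⟨d, hd⟩ := exists_prime_orderOf_dvd_card' (G := derivedSeries G i) p hpD
    have hd' : (d : G) ^ p = 1 := by
      rw [← hd, ← Subgroup.orderOf_coe d]; exact pow_orderOf_eq_one _
    have hA1 : A ≠ ⊥ := fun h => by
      have h1 : (d : G) ∈ A := ⟨d.2, hd'⟩
      rw [h, Subgroup.mem_bot] at h1
      rw [← Subgroup.orderOf_coe, h1, orderOf_one] at hd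
      exact hp.one_lt.ne hd
    refine good_step A p hA1 (fun x hx y hy => hDc x hx.1 y hy.1) (fun x hx => hx.2)
      (ih _ ?_ (G ⧸ A) rfl)
    rw [← hn, ← Subgroup.index_eq_card, ← A.card_mul_index]
    exact lt_mul_of_one_lt_left (Nat.pos_of_ne_zero A.index_ne_zero_of_finite) (by
      have := Nat.card_pos (α := A)
      have : Nat.card A ≠ 1 := fun h => hA1 (Subgroup.card_eq_one.1 h)
      omega)

end H33.CentralType
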