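import Cfsg.Agent.H33.AbConjMain
import Cfsg.Agent.H1.SchurZassenhausConj
import Cfsg.Agent.H10.PSolvable
import Cfsg.Agent.H3.Supersolvable

/-!
Solvable groups with conjugate `p`-subgroups of equal order, all but one Sylow subgroup cyclic.
-/

set_option autoImplicit false
set_option linter.style.haveILetI false
set_option linter.unusedSectionVars false

namespace H33

open Subgroup
open scoped Pointwise

universe u

/-- `p`-subgroups of equal order are conjugate, for all primes. -/
def DConj (G : Type u) [Group G] : Prop :=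
  ∀ p : ℕ, p.Prime → ∀ H K : Subgroup G, IsPGroup p H → IsPGroup p K → Nat.card H = Nat.card K →
    ∃ g : G, K = H.map (MulAut.conj g).toMonoidHom

/-- The Sylow subgroups are cyclic away from `r`. -/
def CycAway (r : ℕ) (G : Type u) [Group G] : Prop :=
  ∀ p : ℕ, p.Prime → p ≠ r → ∀ R : Subgroup G, IsPGroup p R → IsCyclic R

theorem conj_normal_eq {G : Type u} [Group G] {M : Subgroup G} (hM : M.Normal) {R : Subgroup G}
    {g : G} (h : R = M.map (MulAut.conj g).toMonoidHom) : R = M := by
  rw [h]
  exact Subgroup.Normal.map_conj_eq M g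

theorem map_conj_map_conj {G : Type u} [Group G] (a b : G) (H : Subgroup G) :
    (H.map (MulAut.conj a).toMonoidHom).map (MulAut.conj b).toMonoidHom =
      H.map (MulAut.conj (b * a)).toMonoidHom := by
  rw [map_map]
  congr 1
  ext x
  show b * (a * x * a⁻¹) * b⁻¹ = b * a * x * (b * a)⁻¹
  group

theorem conj_map_quot {G : Type u} [Group G] (M : Subgroup G) [M.Normal] (g : G) (H : Subgroup G) :
    (H.map (MulAut.conj g).toMonoidHom).map (QuotientGroup.mk' M) =
      (H.map (QuotientGroup.mk' M)).map (MulAut.conj (g : G ⧸ M)).toMonoidHom := by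
  rw [map_map, map_map]
  rfl

theorem dConj_quotient {G : Type u} [Group G] [Finite G] (h : DConj G) (M : Subgroup G) [M.Normal] :
    DConj (G ⧸ M) := by
  intro p hp H K hH hK hc
  haveI := Fact.mk hp
  set π := QuotientGroup.mk' M with hπ
  have hsurj : Function.Surjective π := QuotientGroup.mk'_surjective M
  have key : ∀ L : Subgroup (G ⧸ M), IsPGroup p L → ∃ R : Subgroup G, IsPGroup p R ∧ R.map π = L ∧
      Nat.card R = Nat.card L * p ^ (Nat.card M).factorization p := by
    intro L hL
    obtain ⟨P⟩ : Nonempty (Sylow p (L.comap π)) := inferInstance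
    set R := (P : Subgroup (L.comap π)).map (L.comap π).subtype with hR
    have hRc : Nat.card R = p ^ (Nat.card M * Nat.card L).factorization p := by
      rw [hR, card_map_of_injective (L.comap π).subtype_injective, P.card_eq_multiplicity,
        H1.card_comap_mk', mul_comm]
    obtain ⟨k, hk⟩ := IsPGroup.iff_card.mp hL
    have hRc' : Nat.card R = Nat.card L * p ^ (Nat.card M).factorization p := by
      rw [hRc, hk, Nat.factorization_mul Nat.card_pos.ne' (pow_ne_zero _ hp.ne_zero),
        Finsupp.add_apply, hp.factorization_pow, Finsupp.single_eq_same, pow_add, mul_comm]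
    refine ⟨R, P.isPGroup'.map _, ?_, hRc'⟩
    have hle : R.map π ≤ L := map_le_iff_le_comap.mpr (map_subtype_le _)
    refine eq_of_le_of_card_ge hle ?_
    -- the kernel of `π` on `R` is a `p`-subgroup of `M`
    have h1 : Nat.card (R.map π) = M.relIndex R := by
      rw [← relIndex_ker, QuotientGroup.ker_mk']
    have h2 := relIndex_mul_relIndex ⊥ (M ⊓ R) R bot_le inf_le_right
    rw [relIndex_bot_left, relIndex_bot_left, inf_relIndex_right, hRc'] at h2
    have hMR : IsPGroup p ↥(M ⊓ R) := (P.isPGroup'.map _).to_le inf_le_right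
    obtain ⟨j, hj⟩ := IsPGroup.iff_card.mp hMR
    have hjM : j ≤ (Nat.card M).factorization p :=
      (hp.pow_dvd_iff_le_factorization Nat.card_pos.ne').mp (hj ▸ card_dvd_of_le inf_le_left)
    rw [h1]
    refine Nat.le_of_mul_le_mul_right ?_ (pow_pos hp.pos ((Nat.card M).factorization p))
    rw [← h2, mul_comm, hj]
    exact Nat.mul_le_mul_left _ (Nat.pow_le_pow_right hp.pos hjM)
  obtain ⟨A, hA, hAH, hAc⟩ := key H hH
  obtain ⟨B, hB, hBK, hBc⟩ := key K hK
  obtain ⟨g, hg⟩ := h p hp A B hA hB (by rw [hAc, hBc, hc])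
  exact ⟨(g : G ⧸ M), by rw [← hBK, hg, conj_map_quot, hAH]⟩

theorem cycAway_quotient {G : Type u} [Group G] [Finite G] {r : ℕ} (h : CycAway r G)
    (M : Subgroup G) [M.Normal] : CycAway r (G ⧸ M) := by
  intro p hp hpr R hR
  haveI := Fact.mk hp
  obtain ⟨P, hP⟩ := hR.exists_le_sylow
  obtain ⟨Q, hQ⟩ := Sylow.mapSurjective_surjective (QuotientGroup.mk'_surjective M) p P
  haveI := h p hp hpr Q Q.isPGroup'
  haveI : IsCyclic (P : Subgroup (G ⧸ M)) := by
    rw [← hQ, Sylow.coe_mapSurjective]
    exact isCyclic_of_surjective ((QuotientGroup.mk' M).subgroupMap (Q : Subgroup G))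
      (MonoidHom.subgroupMap_surjective _ _)
  exact isCyclic_of_injective (inclusion hP) (inclusion_injective hP)

theorem conj_of_dConj {r : ℕ} : ∀ (n : ℕ) {G : Type u} [Group G] [Finite G] [Group.IsSolvable G],
    Nat.card G = n → DConj G → CycAway r G → ∀ H K : Subgroup G, Nat.card H = Nat.card K →
      ∃ g : G, K = H.map (MulAut.conj g).toMonoidHom := by
  intro n
  induction n using Nat.strong_induction_on with
  | _ n ih =>
  intro G _ _ _ hn hD hcyc H K hHK
  -- subgroups of order prime to `r`
  by_cases hrH : ¬ r ∣ Nat.card H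
  · obtain ⟨s, -, hs⟩ := conj_in_of_cyclic (⊤ : Subgroup G) H K le_top le_top hHK
      fun p hp hpH R _ hR => hcyc p hp (fun e => hrH (e ▸ hpH)) R hR
    exact ⟨s, hs⟩
  push Not at hrH
  rcases subsingleton_or_nontrivial G with hsub | hnt
  · exact ⟨1, Subsingleton.elim _ _⟩
  obtain ⟨q, M, hq, hMn, hM0, hMq⟩ := H1.exists_normal_pgroup_ne_bot G
  haveI := hMn
  haveI := Fact.mk hq
  obtain ⟨m, hm⟩ := IsPGroup.iff_card.mp hMq
  set π := QuotientGroup.mk' M with hπ
  have hlt : Nat.card (G ⧸ M) < n := hn ▸ H10.card_quotient_lt M hM0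
  -- conjugates of subgroups of `M` of the order of the `q`-part
  by_cases hbig : m ≤ (Nat.card H).factorization q
  · have hcont : ∀ L : Subgroup G, Nat.card L = Nat.card H → M ≤ L := by
      intro L hL
      obtain ⟨R, hR⟩ := Sylow.exists_subgroup_card_pow_prime (G := L) q (n := m)
        ((pow_dvd_pow q hbig).trans (hL ▸ Nat.ordProj_dvd _ q))
      have hRc : Nat.card (R.map L.subtype) = Nat.card M := by
        rw [card_map_of_injective L.subtype_injective, hR, hm]
      obtain ⟨g, hg⟩ := hD q hq M (R.map L.subtype) hMq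
        ((IsPGroup.of_card hR).map _) hRc.symm
      exact (conj_normal_eq hMn hg) ▸ map_subtype_le R
    have hMH := hcont H rfl
    have hMK := hcont K hHK.symm
    have hH' : (H.map π).comap π = H := comap_map_eq_self (by rwa [QuotientGroup.ker_mk'])
    have hK' : (K.map π).comap π = K := comap_map_eq_self (by rwa [QuotientGroup.ker_mk'])
    obtain ⟨x, hx⟩ := ih _ hlt rfl (dConj_quotient hD M) (cycAway_quotient hcyc M) (H.map π)
      (K.map π) (by
        have e1 := H1.card_comap_mk' M (H.map π)
        have e2 := H1.card_comap_mk' M (K.map π)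
        rw [hH'] at e1
        rw [hK'] at e2
        exact Nat.eq_of_mul_eq_mul_left (Nat.card_pos (α := M)) (by rw [← e1, ← e2, hHK]))
    obtain ⟨x, rfl⟩ := QuotientGroup.mk_surjective x
    refine ⟨x, (eq_of_le_of_card_ge ?_ ?_).symm⟩
    · rw [← hK', ← map_le_iff_le_comap, conj_map_quot, hx]
    · rw [card_map_of_injective (MulAut.conj x).injective, hHK]
  push Not at hbig
  -- the `q`-part lies in `M`
  set k := (Nat.card H).factorization q with hk
  obtain ⟨R₀, hR₀⟩ := Sylow.exists_subgroup_card_pow_prime (G := M) q (n := k)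
    (by rw [hm]; exact pow_dvd_pow q hbig.le)
  have hpart : ∀ L : Subgroup G, Nat.card L = Nat.card H →
      Nat.card ↥(L ⊓ M) = q ^ k ∧ IsPGroup q ↥(L ⊓ M) := by
    intro L hL
    obtain ⟨S⟩ : Nonempty (Sylow q L) := inferInstance
    have hSc : Nat.card ((S : Subgroup L).map L.subtype) = q ^ k := by
      rw [card_map_of_injective L.subtype_injective, S.card_eq_multiplicity, hk, hL]
    obtain ⟨g, hg⟩ := hD q hq (R₀.map M.subtype) _ ((IsPGroup.of_card hR₀).map _)
      (S.isPGroup'.map L.subtype) (by rw [hSc, card_map_of_injective M.subtype_injective, hR₀])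
    have hSM : (S : Subgroup L).map L.subtype ≤ L ⊓ M := by
      refine le_inf (map_subtype_le _) ?_
      rw [hg]
      exact (map_mono (map_subtype_le R₀)).trans (Subgroup.Normal.map_conj_eq M g).le
    have hq' : IsPGroup q ↥(L ⊓ M) := hMq.to_le inf_le_right
    obtain ⟨j, hj⟩ := IsPGroup.iff_card.mp hq'
    refine ⟨le_antisymm ?_ (hSc ▸ Nat.le_of_dvd Nat.card_pos (card_dvd_of_le hSM)), hq'⟩
    rw [hj]
    exact Nat.pow_le_pow_right hq.pos ((hq.pow_dvd_iff_le_factorization Nat.card_pos.ne').mp
      (hL ▸ hj ▸ card_dvd_of_le inf_le_left))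
  rcases Nat.eq_zero_or_pos k with hk0 | hkpos
  · -- `H` and `K` have order prime to `q`
    have hqH : ¬ q ∣ Nat.card H := fun h =>
      (hq.factorization_pos_of_dvd Nat.card_pos.ne' h).ne' (hk ▸ hk0)
    have hdis : ∀ C : Subgroup G, Nat.card C = Nat.card H → Disjoint C π.ker := by
      intro C hC
      rw [QuotientGroup.ker_mk']
      exact disjoint_of_coprime_natCard (by
        rw [hC, hm]; exact ((hq.coprime_iff_not_dvd.mpr hqH).symm).pow_right m)
    obtain ⟨x, hx⟩ := ih _ hlt rfl (dConj_quotient hD M) (cycAway_quotient hcyc M) (H.map π)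
      (K.map π) (by rw [H1.card_map_of_disjoint π H (hdis H rfl),
        H1.card_map_of_disjoint π K (hdis K hHK.symm), hHK])
    obtain ⟨x, rfl⟩ := QuotientGroup.mk_surjective x
    set A := H.map (MulAut.conj x).toMonoidHom with hA
    have hAc : Nat.card A = Nat.card H := card_map_of_injective (MulAut.conj x).injective
    have hle : K ≤ M ⊔ A := by
      have h1 : K ≤ (K.map π).comap π := le_comap_map π K
      rw [hx, ← conj_map_quot, comap_map_eq, QuotientGroup.ker_mk', sup_comm] at h1
      exact h1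
    obtain ⟨d, -, hd⟩ := H1.exists_conj_eq_of_coprime (D := M) (H := A) (K := K)
      le_normalizer_of_normal (by
        rw [hm, hAc]; exact (hq.coprime_iff_not_dvd.mpr hqH).pow_left m)
      (Or.inl inferInstance) hle (by rw [hAc, hHK])
    exact ⟨d * x, by rw [← map_conj_map_conj, ← hA, ← hd]; rfl⟩
  obtain ⟨hcH, hpH⟩ := hpart H rfl
  obtain ⟨hcK, hpK⟩ := hpart K hHK.symm
  obtain ⟨g, hg⟩ := hD q hq (H ⊓ M) (K ⊓ M) hpH hpK (by rw [hcH, hcK])
  set A := H.map (MulAut.conj g).toMonoidHom with hA
  have hAc : Nat.card A = Nat.card H := card_map_of_injective (MulAut.conj g).injective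
  have hAM : A ⊓ M = K ⊓ M := by
    rw [hg, Subgroup.map_inf _ _ (MulAut.conj g).toMonoidHom (MulAut.conj g).injective,
      show M.map (MulAut.conj g).toMonoidHom = M from Subgroup.Normal.map_conj_eq M g]
  suffices h : ∃ t : G, K = A.map (MulAut.conj t).toMonoidHom by
    obtain ⟨t, ht⟩ := h
    exact ⟨t * g, by rw [← map_conj_map_conj]; exact ht⟩
  set Q := K ⊓ M with hQ
  have hQ0 : Q ≠ ⊥ := fun h => by
    rw [h, card_bot] at hcK
    exact (Nat.one_lt_pow hkpos.ne' hq.one_lt).ne hcK
  have hTA : A ≤ normalizer (Q : Set G) := by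
    rw [← hAM]
    exact fun a ha => mem_normalizer_inf_of (le_normalizer ha) (le_normalizer_of_normal ha)
  have hTK : K ≤ normalizer (Q : Set G) :=
    fun a ha => mem_normalizer_inf_of (le_normalizer ha) (le_normalizer_of_normal ha)
  by_cases hqr : q = r
  · -- work inside the normalizer of `Q`
    set T := normalizer (Q : Set G) with hT
    haveI : (Q.subgroupOf T).Normal := normal_in_normalizer
    set ρ := QuotientGroup.mk' (Q.subgroupOf T) with hρ
    have hQT : Nat.card (Q.subgroupOf T) = q ^ k := by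
      rw [Nat.card_congr (subgroupOfEquivOfLe le_normalizer).toEquiv, hcK]
    have himg : ∀ L : Subgroup G, L ≤ T → Q ≤ L → Nat.card L = Nat.card H →
        Nat.card ((L.subgroupOf T).map ρ) * q ^ k = Nat.card H ∧
          ((L.subgroupOf T).map ρ).comap ρ = L.subgroupOf T := by
      intro L hLT hQL hL
      have h1 : ((L.subgroupOf T).map ρ).comap ρ = L.subgroupOf T :=
        comap_map_eq_self (by rw [QuotientGroup.ker_mk']; exact comap_mono hQL)
      refine ⟨?_, h1⟩
      have h2 := H1.card_comap_mk' (Q.subgroupOf T) ((L.subgroupOf T).map ρ)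
      rw [h1, Nat.card_congr (subgroupOfEquivOfLe hLT).toEquiv, hL, hQT, mul_comm] at h2
      exact h2.symm
    obtain ⟨hA1, hA2⟩ := himg A hTA (hAM ▸ inf_le_left) hAc
    obtain ⟨hK1, hK2⟩ := himg K hTK inf_le_left hHK.symm
    obtain ⟨s, -, hs⟩ := conj_in_of_cyclic (⊤ : Subgroup (T ⧸ Q.subgroupOf T))
      ((A.subgroupOf T).map ρ) ((K.subgroupOf T).map ρ) le_top le_top
      (Nat.eq_of_mul_eq_mul_right (pow_pos hq.pos k) (hA1.trans hK1.symm)) (by
      intro p hp hpA R _ hR
      haveI := Fact.mk hp
      refine cycAway_quotient (r := r) (fun p hp hpr R hR => ?_) _ p hp (fun e => ?_) R hR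
      · haveI := hcyc p hp hpr (R.map T.subtype) (hR.map _)
        exact isCyclic_of_surjective (R.equivMapOfInjective _ T.subtype_injective).symm.toMonoidHom
          (R.equivMapOfInjective _ T.subtype_injective).symm.surjective
      · have h2 : q ^ (k + 1) ∣ Nat.card H := by
          rw [← hA1, pow_succ, mul_comm]
          exact mul_dvd_mul ((e.trans hqr.symm) ▸ hpA) dvd_rfl
        have := (hq.pow_dvd_iff_le_factorization Nat.card_pos.ne').mp h2
        omega)
    obtain ⟨s, rfl⟩ := QuotientGroup.mk_surjective s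
    have h3 : K.subgroupOf T = (A.subgroupOf T).map (MulAut.conj s).toMonoidHom := by
      refine (eq_of_le_of_card_ge ?_ ?_).symm
      · rw [← hK2, ← map_le_iff_le_comap, conj_map_quot, hs]
      · rw [card_map_of_injective (MulAut.conj s).injective,
          Nat.card_congr (subgroupOfEquivOfLe hTA).toEquiv,
          Nat.card_congr (subgroupOfEquivOfLe hTK).toEquiv, hAc, hHK]
    refine ⟨(s : G), (eq_of_le_of_card_ge ?_ ?_).symm⟩
    · rintro _ ⟨a, ha, rfl⟩
      have h4 : s * ⟨a, hTA ha⟩ * s⁻¹ ∈ K.subgroupOf T := h3 ▸ ⟨⟨a, hTA ha⟩, ha, rfl⟩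
      exact mem_subgroupOf.mp h4
    · rw [card_map_of_injective (MulAut.conj (s : G)).injective, hAc, hHK]
  · -- `M` is cyclic, so `Q` is normal
    haveI : IsCyclic M := hcyc q hq hqr M hMq
    haveI hQn : Q.Normal := H3.normal_of_le_cyclic_normal (A := Q) (B := M) inf_le_right
    set σ := QuotientGroup.mk' Q with hσ
    have hlt' : Nat.card (G ⧸ Q) < n := hn ▸ H10.card_quotient_lt Q hQ0
    have hA' : (A.map σ).comap σ = A :=
      comap_map_eq_self (by rw [QuotientGroup.ker_mk']; exact hAM ▸ inf_le_left)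
    have hK' : (K.map σ).comap σ = K := comap_map_eq_self (by rw [QuotientGroup.ker_mk']; exact inf_le_left)
    obtain ⟨x, hx⟩ := ih _ hlt' rfl (dConj_quotient hD Q)
      (cycAway_quotient hcyc Q) (A.map σ) (K.map σ) (by
        have e1 := H1.card_comap_mk' Q (A.map σ)
        have e2 := H1.card_comap_mk' Q (K.map σ)
        rw [hA'] at e1
        rw [hK'] at e2
        exact Nat.eq_of_mul_eq_mul_left (Nat.card_pos (α := Q)) (by rw [← e1, ← e2, hAc, hHK]))
    obtain ⟨x, rfl⟩ := QuotientGroup.mk_surjective x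
    refine ⟨x, (eq_of_le_of_card_ge ?_ ?_).symm⟩
    · rw [← hK', ← map_le_iff_le_comap, conj_map_quot, hx]
    · rw [card_map_of_injective (MulAut.conj x).injective, hAc, hHK]
where
  mem_normalizer_inf_of {G : Type u} [Group G] {A B : Subgroup G} {g : G}
      (hA : g ∈ normalizer (A : Set G)) (hB : g ∈ normalizer (B : Set G)) :
      g ∈ normalizer ((A ⊓ B : Subgroup G) : Set G) := by
    rw [mem_normalizer_iff] at hA hB ⊢
    intro y
    simp only [mem_inf]
    rw [hA y, hB y]

end H33
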