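/-
A group with a self-centralising copy of the presented Fischer group of index 2 is its automorphism
group.
-/
import Cfsg.Agent.H33.Triple.PairFi22

set_option autoImplicit false

namespace H33.Fi22Aut

open Cfsg

theorem mulAut_of_index_two {X : Type*} [Group X] [Finite X] (N : Subgroup X) [N.Normal]
    (hidx : N.index = 2) (e : N ≃* Cfsg.Spor.Fi22)
    (hc : Subgroup.centralizer (N : Set X) = ⊥) : Nonempty (X ≃* MulAut Cfsg.Spor.Fi22) := by
  haveI := H33.Triple.finite_fi22
  haveI : Finite (MulAut Cfsg.Spor.Fi22) :=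
    Nat.finite_of_card_ne_zero (by rw [H33.Triple.card_mulAut_fi22]; simp [Nat.card_pos.ne'])
  let ψ : X →* MulAut Cfsg.Spor.Fi22 := (MulAut.congr e).toMonoidHom.comp MulAut.conjNormal
  have hinj : Function.Injective ψ := by
    refine (MulAut.congr e).injective.comp ((injective_iff_map_eq_one _).2 fun x hx => ?_)
    have hxc : x ∈ Subgroup.centralizer (N : Set X) := Subgroup.mem_centralizer_iff.2 fun n hn => by
      have := congrArg (fun a : MulAut N => ((a ⟨n, hn⟩ : N) : X)) hx
      simp only [MulAut.one_apply, MulAut.conjNormal_apply] at this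
      exact (mul_inv_eq_iff_eq_mul.1 this).symm
    rwa [hc, Subgroup.mem_bot] at hxc
  have hcard : Nat.card X = Nat.card (MulAut Cfsg.Spor.Fi22) := by
    rw [H33.Triple.card_mulAut_fi22, ← N.card_mul_index, hidx, Nat.card_congr e.toEquiv, mul_comm]
  exact ⟨MulEquiv.ofBijective ψ ((Nat.bijective_iff_injective_and_card ψ).2 ⟨hinj, hcard⟩)⟩

end H33.Fi22Aut
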