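import Cfsg.Agent.H84.Invariant
import Mathlib.GroupTheory.Solvable
import Mathlib.GroupTheory.Nilpotent

/-!
The product of the fixed point numbers of the elements of a `p`-group acting coprimely.
-/

set_option autoImplicit false
set_option linter.style.haveILetI false
set_option linter.unusedSectionVars false

namespace H33

open Subgroup
open scoped commutatorElement

section Abstract

variable {P : Type*} [Group P] {V : Type*} [Group V]

/-- Fixed points of a set of automorphisms. -/
def fixSub (φ : P →* MulAut V) (S : Set P) : Subgroup V where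
  carrier := {v | ∀ x ∈ S, φ x v = v}
  one_mem' := fun x _ => map_one _
  mul_mem' := fun {a b} ha hb x hx => by rw [map_mul, ha x hx, hb x hx]
  inv_mem' := fun {a} ha x hx => by rw [map_inv, ha x hx]

theorem mem_fixSub {φ : P →* MulAut V} {S : Set P} {v : V} :
    v ∈ fixSub φ S ↔ ∀ x ∈ S, φ x v = v := Iff.rfl

/-- Restriction of an action to an invariant subgroup. -/
def actRes (φ : P →* MulAut V) (W : Subgroup V) (hW : ∀ x, ∀ w ∈ W, φ x w ∈ W) : P →* MulAut W where
  toFun x :=
    { toFun := fun w => ⟨φ x w, hW x w w.2⟩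
      invFun := fun w => ⟨φ x⁻¹ w, hW x⁻¹ w w.2⟩
      left_inv := fun w => Subtype.ext (by
        show φ x⁻¹ (φ x w) = w
        rw [← MulAut.mul_apply, ← map_mul, inv_mul_cancel, map_one, MulAut.one_apply])
      right_inv := fun w => Subtype.ext (by
        show φ x (φ x⁻¹ w) = w
        rw [← MulAut.mul_apply, ← map_mul, mul_inv_cancel, map_one, MulAut.one_apply])
      map_mul' := fun a b => Subtype.ext (map_mul (φ x) (a : V) b) }
  map_one' := MulEquiv.ext fun w => Subtype.ext (by
    show φ 1 (w : V) = w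
    rw [map_one, MulAut.one_apply])
  map_mul' a b := MulEquiv.ext fun w => Subtype.ext (by
    show φ (a * b) (w : V) = φ a (φ b w)
    rw [map_mul, MulAut.mul_apply])

theorem actRes_apply (φ : P →* MulAut V) (W : Subgroup V) (hW : ∀ x, ∀ w ∈ W, φ x w ∈ W) (x : P)
    (w : W) : ((actRes φ W hW x w : W) : V) = φ x w := rfl

/-- The induced action on a quotient by an invariant normal subgroup. -/
def actQuot (φ : P →* MulAut V) (W : Subgroup V) [W.Normal] (hW : ∀ x, ∀ w ∈ W, φ x w ∈ W) :
    P →* MulAut (V ⧸ W) where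
  toFun x := QuotientGroup.congr W W (φ x) (by
    refine le_antisymm ?_ fun w hw => ⟨φ x⁻¹ w, hW _ w hw, ?_⟩
    · rintro _ ⟨w, hw, rfl⟩
      exact hW x w hw
    · show φ x (φ x⁻¹ w) = w
      rw [← MulAut.mul_apply, ← map_mul, mul_inv_cancel, map_one, MulAut.one_apply])
  map_one' := MulEquiv.ext fun v => by
    induction v using QuotientGroup.induction_on with
    | _ v =>
    show ((φ 1 v : V) : V ⧸ W) = v
    rw [map_one, MulAut.one_apply]
  map_mul' a b := MulEquiv.ext fun v => by
    induction v using QuotientGroup.induction_on with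
    | _ v =>
    show ((φ (a * b) v : V) : V ⧸ W) = ((φ a (φ b v) : V) : V ⧸ W)
    rw [map_mul, MulAut.mul_apply]

theorem actQuot_mk (φ : P →* MulAut V) (W : Subgroup V) [W.Normal]
    (hW : ∀ x, ∀ w ∈ W, φ x w ∈ W) (x : P) (v : V) :
    actQuot φ W hW x (v : V ⧸ W) = ((φ x v : V) : V ⧸ W) := rfl

variable [Finite P] [Finite V]

theorem card_fixSub_le (φ : P →* MulAut V) (W : Subgroup V) [W.Normal]
    (hW : ∀ x, ∀ w ∈ W, φ x w ∈ W) (S : Set P) :
    Nat.card (fixSub φ S) ≤
      Nat.card (fixSub (actRes φ W hW) S) * Nat.card (fixSub (actQuot φ W hW) S) := by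
  let f : fixSub φ S →* fixSub (actQuot φ W hW) S :=
    ((QuotientGroup.mk' W).comp (fixSub φ S).subtype).codRestrict _ fun v x hx => by
      show actQuot φ W hW x ((v : V) : V ⧸ W) = ((v : V) : V ⧸ W)
      rw [actQuot_mk, v.2 x hx]
  have h1 : Nat.card (fixSub φ S) = Nat.card f.ker * Nat.card f.range := by
    rw [← index_ker, card_mul_index]
  rw [h1]
  refine Nat.mul_le_mul ?_ (card_le_card_group _)
  refine Nat.card_le_card_of_injective
    (fun v : f.ker => (⟨⟨((v : fixSub φ S) : V),
      (QuotientGroup.eq_one_iff _).mp (congrArg Subtype.val v.2)⟩,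
      fun x hx => Subtype.ext ((v : fixSub φ S).2 x hx)⟩ : fixSub (actRes φ W hW) S)) ?_
  intro a b h
  exact Subtype.ext (Subtype.ext (congrArg (fun t : fixSub (actRes φ W hW) S => ((t : W) : V)) h))

theorem card_fixSub_univ_ge {p : ℕ} [Fact p.Prime] (hP : IsPGroup p P) (φ : P →* MulAut V)
    (hV : ¬ p ∣ Nat.card V) (W : Subgroup V) [W.Normal] (hW : ∀ x, ∀ w ∈ W, φ x w ∈ W) :
    Nat.card (fixSub (actRes φ W hW) Set.univ) * Nat.card (fixSub (actQuot φ W hW) Set.univ) ≤
      Nat.card (fixSub φ Set.univ) := by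
  classical
  have hlift : ∀ q : fixSub (actQuot φ W hW) Set.univ, ∃ v : fixSub φ Set.univ,
      ((v : V) : V ⧸ W) = q := by
    rintro ⟨q, hq⟩
    letI : MulAction P V := MulAction.compHom V φ
    let X : SubMulAction P V :=
      ⟨{v | (v : V ⧸ W) = q}, fun x v hv => by
        show ((φ x v : V) : V ⧸ W) = q
        rw [← actQuot_mk φ W hW, show (v : V ⧸ W) = q from hv]
        exact hq x trivial⟩
    obtain ⟨v₀, rfl⟩ := QuotientGroup.mk_surjective q
    have hX : Nat.card X = Nat.card W := Nat.card_congr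
      { toFun := fun v => ⟨v₀⁻¹ * v, QuotientGroup.eq.mp v.2.symm⟩
        invFun := fun w => ⟨v₀ * w, (QuotientGroup.mk_mul_of_mem v₀ w.2)⟩
        left_inv := fun v => Subtype.ext (mul_inv_cancel_left v₀ _)
        right_inv := fun w => Subtype.ext (inv_mul_cancel_left v₀ _) }
    obtain ⟨v, hv⟩ := hP.nonempty_fixed_point_of_prime_not_dvd_card X
      (hX ▸ fun h => hV (h.trans (card_subgroup_dvd_card W)))
    exact ⟨⟨v, fun x _ => congrArg Subtype.val (hv x)⟩, v.2⟩
  choose s hs using hlift
  rw [← Nat.card_prod]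
  refine Nat.card_le_card_of_injective
    (fun wq => (⟨((wq.1 : W) : V) * (s wq.2 : V), mul_mem
      (fun x _ => congrArg Subtype.val (wq.1.2 x trivial)) (s wq.2).2⟩ : fixSub φ Set.univ)) ?_
  rintro ⟨w, q⟩ ⟨w', q'⟩ h
  have h1 : ((w : W) : V) * (s q : V) = ((w' : W) : V) * (s q' : V) := congrArg Subtype.val h
  have h2 := congrArg (fun v : V => (v : V ⧸ W)) h1
  simp only [QuotientGroup.mk_mul, (QuotientGroup.eq_one_iff _).mpr (w : W).2,
    (QuotientGroup.eq_one_iff _).mpr (w' : W).2, one_mul, hs] at h2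
  obtain rfl : q = q' := Subtype.ext h2
  rw [Prod.mk.injEq]
  exact ⟨Subtype.ext (Subtype.ext (mul_right_cancel h1)), rfl⟩

end Abstract

/-- The product inequality for a `p`-group acting on a `q`-group. -/
theorem prod_fix_pow_le {p q : ℕ} [Fact p.Prime] [Fact q.Prime] (hpq : p ≠ q) {P : Type*} [Group P]
    [Fintype P] (hP : IsPGroup p P) :
    ∀ (n : ℕ) {V : Type*} [Group V] [Finite V], Nat.card V = n → IsPGroup q V →
      ∀ φ : P →* MulAut V, (∏ x : P, Nat.card (fixSub φ {x})) ^ p ≤
        Nat.card V ^ Nat.card P * Nat.card (fixSub φ Set.univ) ^ ((p - 1) * Nat.card P) := by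
  classical
  intro n
  induction n using Nat.strong_induction_on with
  | _ n ih =>
  intro V _ _ hn hV φ
  have hp : p.Prime := Fact.out
  have hq : q.Prime := Fact.out
  have hpV : ¬ p ∣ Nat.card V := by
    obtain ⟨k, hk⟩ := IsPGroup.iff_card.mp hV
    rw [hk]
    exact fun h => hpq ((Nat.prime_dvd_prime_iff_eq hp hq).mp (hp.dvd_of_dvd_pow h))
  by_cases hsplit : ∃ W : Subgroup V, W.Normal ∧ (∀ x, ∀ w ∈ W, φ x w ∈ W) ∧ W ≠ ⊥ ∧ W ≠ ⊤
  · obtain ⟨W, hWn, hW, hW0, hW1⟩ := hsplit
    have hWV : Nat.card W < n := hn ▸ lt_of_le_of_ne (card_le_card_group W)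
      (fun h => hW1 (eq_top_of_card_eq W h))
    have hQV : Nat.card (V ⧸ W) < n := by
      rw [← hn, card_eq_card_quotient_mul_card_subgroup W]
      exact lt_mul_of_one_lt_right Nat.card_pos ((one_lt_card_iff_ne_bot W).mpr hW0)
    have h1 := ih _ hWV (V := W) rfl (hV.to_subgroup W) (actRes φ W hW)
    have h2 := ih _ hQV (V := V ⧸ W) rfl (hV.to_quotient W) (actQuot φ W hW)
    calc (∏ x : P, Nat.card (fixSub φ {x})) ^ p
        ≤ (∏ x : P, (Nat.card (fixSub (actRes φ W hW) {x}) *
            Nat.card (fixSub (actQuot φ W hW) {x}))) ^ p :=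
          Nat.pow_le_pow_left (Finset.prod_le_prod' fun x _ => card_fixSub_le φ W hW _) _
      _ ≤ (Nat.card W * Nat.card (V ⧸ W)) ^ Nat.card P *
            (Nat.card (fixSub (actRes φ W hW) Set.univ) *
              Nat.card (fixSub (actQuot φ W hW) Set.univ)) ^ ((p - 1) * Nat.card P) := by
          rw [Finset.prod_mul_distrib, mul_pow, mul_pow, mul_pow, mul_mul_mul_comm]
          exact Nat.mul_le_mul h1 h2
      _ ≤ _ := by
          rw [mul_comm (Nat.card W), ← card_eq_card_quotient_mul_card_subgroup W]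
          exact Nat.mul_le_mul le_rfl (Nat.pow_le_pow_left (card_fixSub_univ_ge hP φ hpV W hW) _)
  push Not at hsplit
  rcases eq_or_ne (fixSub φ Set.univ) ⊤ with htop | htop
  · rw [htop, card_top]
    calc (∏ x : P, Nat.card (fixSub φ {x})) ^ p
        ≤ (∏ _x : P, Nat.card V) ^ p :=
          Nat.pow_le_pow_left (Finset.prod_le_prod' fun x _ => card_le_card_group _) _
      _ = _ := by
          rw [Finset.prod_const, Finset.card_univ, ← Nat.card_eq_fintype_card, ← pow_add, ← pow_mul]
          congr 1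
          obtain ⟨m, rfl⟩ : ∃ m, p = m + 1 := ⟨p - 1, (Nat.sub_add_cancel hp.one_le).symm⟩
          simp only [Nat.add_sub_cancel]
          ring
  -- `V` is abelian
  haveI : Nontrivial V := by
    rw [← not_subsingleton_iff_nontrivial]
    exact fun _ => htop (Subsingleton.elim _ _)
  have habel : ∀ a b : V, a * b = b * a := by
    have hc : commutator V = ⊥ := by
      by_contra hne
      haveI := hV.isNilpotent
      refine (Group.IsSolvable.commutator_lt_top_of_nontrivial V).ne
        (hsplit (commutator V) inferInstance (fun x w hw => ?_) hne)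
      have hle : (commutator V).map (φ x).toMonoidHom ≤ commutator V := by
        rw [commutator_def, map_commutator]
        exact commutator_mono le_top le_top
      exact hle (mem_map_of_mem (φ x).toMonoidHom hw)
    intro a b
    have h : ⁅a, b⁆ ∈ commutator V := commutator_mem_commutator (mem_top a) (mem_top b)
    rw [hc, mem_bot] at h
    exact commutatorElement_eq_one_iff_mul_comm.mp h
  letI : CommGroup V := { (inferInstance : Group V) with mul_comm := habel }
  have hinv : ∀ W : Subgroup V, (∀ x, ∀ w ∈ W, φ x w ∈ W) → W ≠ ⊤ → W = ⊥ := fun W hW hW1 => by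
    by_contra h
    exact hW1 (hsplit W inferInstance hW h)
  -- a central automorphism of order `p`
  have hR : IsPGroup p φ.range := hP.of_surjective φ.rangeRestrict φ.rangeRestrict_surjective
  haveI : Nontrivial φ.range := by
    rw [← not_subsingleton_iff_nontrivial]
    intro _
    refine htop (eq_top_iff.mpr fun v _ x _ => ?_)
    have h := congrArg Subtype.val (Subsingleton.elim (⟨φ x, x, rfl⟩ : φ.range) 1)
    show φ x v = v
    rw [show φ x = 1 from h, MulAut.one_apply]
  haveI : Nontrivial (center φ.range) := hR.center_nontrivial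
  obtain ⟨c, hc⟩ := exists_prime_orderOf_dvd_card' p
    ((hR.to_subgroup (center φ.range)).card_eq_or_dvd.resolve_left
      (Finite.one_lt_card (α := center φ.range)).ne')
  obtain ⟨z, hz⟩ := ((c : φ.range) : φ.range).2
  have hzp : orderOf (φ z) = p := by rw [hz, orderOf_coe, orderOf_coe, hc]
  have hzc : ∀ x, φ x * φ z = φ z * φ x := fun x => by
    rw [hz]
    exact congrArg Subtype.val (mem_center_iff.mp c.2 ⟨φ x, x, rfl⟩)
  have hfz : ∀ k : ℕ, ¬ p ∣ k → ∀ v : V, (φ z ^ k) v = v → v = 1 := by
    intro k hk v hv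
    have hbot : fixSub φ {z} = ⊥ := by
      refine hinv _ (fun x w hw => ?_) fun h => ?_
      · intro y hy
        rw [Set.mem_singleton_iff] at hy
        subst hy
        rw [← MulAut.mul_apply, ← hzc, MulAut.mul_apply, hw _ rfl]
      · refine hp.one_lt.ne ?_
        rw [← hzp, eq_comm, orderOf_eq_one_iff]
        ext w
        exact (h ▸ mem_top w : w ∈ fixSub φ {z}) z rfl
    suffices v ∈ fixSub φ {z} by rwa [hbot, mem_bot] at this
    intro y hy
    rw [Set.mem_singleton_iff] at hy
    subst hy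
    obtain ⟨m, hm⟩ := exists_pow_eq_self_of_coprime
      (hzp.symm ▸ ((hp.coprime_iff_not_dvd.mpr hk).symm) : k.Coprime (orderOf (φ y)))
    rw [← hm]
    clear hm
    induction m with
    | zero => simp
    | succ m ihm => rw [pow_succ, MulAut.mul_apply, hv, ihm]
  -- independence
  have hindep : ∀ x : P, ∀ s : Finset ℕ, (∀ j ∈ s, j < p) → ∀ v : ℕ → V,
      (∀ j ∈ s, φ (x * z ^ j) (v j) = v j) → ∏ j ∈ s, v j = 1 → ∀ j ∈ s, v j = 1 := by
    intro x s
    induction s using Finset.induction_on with
    | empty => simp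
    | insert a s has ihs =>
      intro hs v hv hprod j hj
      rw [Finset.prod_insert has] at hprod
      have hw : ∀ i ∈ s, φ (x * z ^ a) (v i) * (v i)⁻¹ = 1 := by
        refine ihs (fun i hi => hs i (Finset.mem_insert_of_mem hi))
          (fun i => φ (x * z ^ a) (v i) * (v i)⁻¹) (fun i hi => ?_) ?_
        · have hi' := hv i (Finset.mem_insert_of_mem hi)
          have hcm : φ (x * z ^ i) * φ (x * z ^ a) = φ (x * z ^ a) * φ (x * z ^ i) := by
            have h1 : ∀ k : ℕ, Commute (φ x) (φ z ^ k) := fun k => Commute.pow_right (hzc x) k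
            have h2 : Commute (φ x * φ z ^ i) (φ x * φ z ^ a) :=
              ((Commute.refl (φ x)).mul_right (h1 a)).mul_left
                (((h1 i).symm).mul_right (Commute.pow_pow_self (φ z) i a))
            simpa [map_mul, map_pow] using h2.eq
          rw [map_mul, map_inv, ← MulAut.mul_apply, hcm, MulAut.mul_apply, hi']
        · rw [Finset.prod_mul_distrib, Finset.prod_inv_distrib, ← map_prod,
            eq_inv_of_mul_eq_one_right hprod, map_inv, hv a (Finset.mem_insert_self _ _)]
          simp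
      have hs1 : ∀ i ∈ s, v i = 1 := by
        intro i hi
        have h := mul_inv_eq_one.mp (hw i hi)
        have hi' := hv i (Finset.mem_insert_of_mem hi)
        have ha := hs a (Finset.mem_insert_self _ _)
        have hip := hs i (Finset.mem_insert_of_mem hi)
        have hne : a ≠ i := fun e => has (e ▸ hi)
        rw [map_mul, map_pow, MulAut.mul_apply] at h hi'
        have h3 : (φ z ^ a) (v i) = (φ z ^ i) (v i) := (φ x).injective (h.trans hi'.symm)
        rcases Nat.lt_or_gt_of_ne hne with hlt | hlt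
        · refine hfz (i - a) (fun hd => ?_) _ ?_
          · have := Nat.le_of_dvd (by omega) hd; omega
          · apply (φ z ^ a).injective
            rw [← MulAut.mul_apply, ← pow_add, Nat.add_sub_cancel' hlt.le, h3]
        · refine hfz (a - i) (fun hd => ?_) _ ?_
          · have := Nat.le_of_dvd (by omega) hd; omega
          · apply (φ z ^ i).injective
            rw [← MulAut.mul_apply, ← pow_add, Nat.add_sub_cancel' hlt.le, h3]
      rcases Finset.mem_insert.mp hj with rfl | hj
      · rwa [Finset.prod_eq_one hs1, mul_one] at hprod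
      · exact hs1 j hj
  have hle : ∀ x : P, ∏ j : Fin p, Nat.card (fixSub φ {x * z ^ (j : ℕ)}) ≤ Nat.card V := by
    intro x
    rw [← Nat.card_pi]
    refine Nat.card_le_card_of_injective
      (fun v => ∏ j : Fin p, ((v j : V))) fun v w hvw => funext fun j => Subtype.ext ?_
    let d : ℕ → V := fun i => if h : i < p then (v ⟨i, h⟩ : V) * (w ⟨i, h⟩ : V)⁻¹ else 1
    have h := hindep x (Finset.range p) (fun i hi => Finset.mem_range.mp hi) d (fun i hi => ?_) ?_ j
      (Finset.mem_range.mpr j.2)
    · simp only [d, dif_pos j.2, Fin.eta] at h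
      exact mul_inv_eq_one.mp h
    · simp only [d, dif_pos (Finset.mem_range.mp hi)]
      have hi' := Finset.mem_range.mp hi
      have hv' : φ (x * z ^ i) (v ⟨i, hi'⟩ : V) = v ⟨i, hi'⟩ := (v ⟨i, hi'⟩).2 _ rfl
      have hw' : φ (x * z ^ i) (w ⟨i, hi'⟩ : V) = w ⟨i, hi'⟩ := (w ⟨i, hi'⟩).2 _ rfl
      rw [map_mul, map_inv, hv', hw']
    · rw [← Fin.prod_univ_eq_prod_range d p]
      simp only [d, Fin.is_lt, dif_pos, Fin.eta, Finset.prod_mul_distrib, Finset.prod_inv_distrib]
      exact mul_inv_eq_one.mpr hvw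
  calc (∏ x : P, Nat.card (fixSub φ {x})) ^ p
      = ∏ _j : Fin p, ∏ x : P, Nat.card (fixSub φ {x}) := by
        rw [Finset.prod_const, Finset.card_univ, Fintype.card_fin]
    _ = ∏ j : Fin p, ∏ x : P, Nat.card (fixSub φ {x * z ^ (j : ℕ)}) :=
        Finset.prod_congr rfl fun j _ =>
          (Equiv.prod_comp (Equiv.mulRight (z ^ (j : ℕ))) fun x => Nat.card (fixSub φ {x})).symm
    _ = ∏ x : P, ∏ j : Fin p, Nat.card (fixSub φ {x * z ^ (j : ℕ)}) := Finset.prod_comm
    _ ≤ ∏ _x : P, Nat.card V := Finset.prod_le_prod' fun x _ => hle x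
    _ = Nat.card V ^ Nat.card P := by
        rw [Finset.prod_const, Finset.card_univ, Nat.card_eq_fintype_card (α := P)]
    _ ≤ _ := Nat.le_mul_of_pos_right _ (pow_pos Nat.card_pos _)

/-! ### The ambient version -/

variable {G : Type*} [Group G] [Finite G]

theorem card_fixSub_normalizerHom {P S : Subgroup G} (hPS : P ≤ normalizer (S : Set G))
    (T : Set P) :
    Nat.card (fixSub (S.normalizerMonoidHom.comp (inclusion hPS)) T) =
      Nat.card ↥(S ⊓ centralizer (Subtype.val '' T)) := by
  refine Nat.card_congr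
    { toFun := fun v => ⟨(v : S), (v : S).2, ?_⟩
      invFun := fun v => ⟨⟨v, v.2.1⟩, fun x hx => ?_⟩
      left_inv := fun v => rfl
      right_inv := fun v => rfl }
  · show ((v : S) : G) ∈ centralizer _
    rw [mem_centralizer_iff]
    rintro _ ⟨x, hx, rfl⟩
    exact mul_inv_eq_iff_eq_mul.mp (congrArg Subtype.val (v.2 x hx))
  · apply Subtype.ext
    exact mul_inv_eq_iff_eq_mul.mpr (mem_centralizer_iff.mp v.2.2 _ ⟨x, hx, rfl⟩)

/-- The `q`-part of the number of fixed points is read off an invariant Sylow subgroup. -/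
theorem ordProj_card_fix {p q : ℕ} [Fact p.Prime] [Fact q.Prime] {P E S V : Subgroup G}
    (hP : IsPGroup p P) (hEP : E ≤ P) (hV : ¬ p ∣ Nat.card V) (hPV : P ≤ normalizer (V : Set G))
    (hS : H84.IsSylIn q S V) (hPS : P ≤ normalizer (S : Set G)) :
    q ^ (Nat.card ↥(V ⊓ centralizer (E : Set G))).factorization q =
      Nat.card ↥(S ⊓ centralizer (E : Set G)) := by
  set C := V ⊓ centralizer (E : Set G) with hC
  obtain ⟨Q0⟩ : Nonempty (Sylow q C) := inferInstance
  set Q := (Q0 : Subgroup C).map C.subtype with hQ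
  have hQc : Nat.card Q = q ^ (Nat.card C).factorization q := by
    rw [hQ, card_map_of_injective C.subtype_injective, Q0.card_eq_multiplicity]
  have hQC : Q ≤ C := map_subtype_le _
  have hEQ : E ≤ normalizer (Q : Set G) := fun e he => centralizer_le_normalizer _
    (mem_centralizer_iff.mpr fun x hx =>
      ((mem_centralizer_iff.mp (hQC hx).2) e he).symm)
  have hEp : IsPGroup p E := hP.to_le hEP
  obtain ⟨T, hT, hET, hQT⟩ := H84.exists_inv_sylow_ge (q := q) hEp hV (hEP.trans hPV)
    (hQC.trans inf_le_left) (Q0.isPGroup'.map _) hEQ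
  obtain ⟨r, hrV, hrE, hr⟩ := H84.exists_conj_inv_sylow hEp hV (hEP.trans hPV) hT hET hS
    (hEP.trans hPS)
  have hle : Nat.card Q ≤ Nat.card ↥(S ⊓ centralizer (E : Set G)) := by
    rw [← H84.card_cmap r Q]
    refine Nat.le_of_dvd Nat.card_pos (card_dvd_of_le ?_)
    rintro _ ⟨x, hx, rfl⟩
    have hxE : x ∈ centralizer (E : Set G) := (hQC hx).2
    have hrx : r * x * r⁻¹ ∈ centralizer (E : Set G) := mul_mem (mul_mem hrE hxE) (inv_mem hrE)
    exact ⟨hr ▸ H84.conj_mem_cmap (hQT hx), hrx⟩
  obtain ⟨k, hk⟩ := IsPGroup.iff_card.mp (hS.2.1.to_le (inf_le_left : S ⊓ centralizer (E : Set G) ≤ S))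
  have hdvd : q ^ k ∣ Nat.card C := hk ▸ card_dvd_of_le (inf_le_inf_right _ hS.1)
  have hle2 : k ≤ (Nat.card C).factorization q :=
    (Fact.out : q.Prime).pow_dvd_iff_le_factorization Nat.card_pos.ne' |>.mp hdvd
  rw [hQc, hk] at hle
  rw [hk, le_antisymm hle (Nat.pow_le_pow_right (Fact.out : q.Prime).pos hle2)]

/-- The product inequality for coprime action inside a group. -/
theorem prod_centralizer_pow_le {p : ℕ} [Fact p.Prime] (P V : Subgroup G) [Fintype P]
    (hP : IsPGroup p P) (hV : ¬ p ∣ Nat.card V) (hPV : P ≤ normalizer (V : Set G)) :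
    (∏ x : P, Nat.card ↥(V ⊓ centralizer ({(x : G)} : Set G))) ^ p ≤
      Nat.card V ^ Nat.card P *
        Nat.card ↥(V ⊓ centralizer (P : Set G)) ^ ((p - 1) * Nat.card P) := by
  refine Nat.le_of_dvd (Nat.mul_pos (pow_pos Nat.card_pos _) (pow_pos Nat.card_pos _)) ?_
  have hne : (∏ x : P, Nat.card ↥(V ⊓ centralizer ({(x : G)} : Set G))) ≠ 0 :=
    Finset.prod_ne_zero_iff.mpr fun x _ => Nat.card_pos.ne'
  refine (Nat.factorization_le_iff_dvd (pow_ne_zero _ hne) (mul_ne_zero
    (pow_ne_zero _ Nat.card_pos.ne') (pow_ne_zero _ Nat.card_pos.ne'))).mp fun q => ?_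
  by_cases hq : q.Prime
  swap
  · rw [Nat.factorization_eq_zero_of_not_prime _ hq]; exact zero_le
  haveI := Fact.mk hq
  by_cases hqV : q ∣ Nat.card V
  swap
  · have h0 : ∀ x : P, (Nat.card ↥(V ⊓ centralizer ({(x : G)} : Set G))).factorization q = 0 :=
      fun x => Nat.factorization_eq_zero_of_not_dvd fun h => hqV (h.trans (card_dvd_of_le inf_le_left))
    rw [Nat.factorization_pow, Finsupp.smul_apply, Nat.factorization_prod_apply
      (fun x _ => Nat.card_pos.ne'), Finset.sum_eq_zero fun x _ => h0 x]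
    simp
  have hpq : p ≠ q := fun h => hV (h ▸ hqV)
  obtain ⟨S, hS, hPS⟩ := H84.exists_inv_sylow (q := q) hP hV hPV
  have key := prod_fix_pow_le hpq hP (Nat.card S) (V := S) rfl hS.2.1
    (S.normalizerMonoidHom.comp (inclusion hPS))
  simp only [card_fixSub_normalizerHom, Set.image_singleton, Set.image_univ,
    Subtype.range_coe_subtype, SetLike.setOfPred_mem_eq] at key
  have hx : ∀ x : P, Nat.card ↥(S ⊓ centralizer ({(x : G)} : Set G)) =
      q ^ (Nat.card ↥(V ⊓ centralizer ({(x : G)} : Set G))).factorization q := by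
    intro x
    rw [← centralizer_closure ({(x : G)} : Set G), ← zpowers_eq_closure]
    exact (ordProj_card_fix hP (zpowers_le.mpr x.2) hV hPV hS hPS).symm
  have hSc : Nat.card S = q ^ (Nat.card V).factorization q := by
    have h := ordProj_card_fix (E := (⊥ : Subgroup G)) hP bot_le hV hPV hS hPS
    rw [centralizer_eq_top_iff_subset.mpr (by simp), inf_top_eq, inf_top_eq] at h
    exact h.symm
  rw [← ordProj_card_fix hP le_rfl hV hPV hS hPS, hSc] at key
  simp only [hx, Finset.prod_pow_eq_pow_sum] at key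
  rw [← pow_mul, ← pow_mul, ← pow_mul, ← pow_add, Nat.pow_le_pow_iff_right hq.one_lt] at key
  rw [Nat.factorization_pow, Finsupp.smul_apply, Nat.factorization_prod_apply
    (fun x _ => Nat.card_pos.ne'), Nat.factorization_mul (pow_ne_zero _ Nat.card_pos.ne')
    (pow_ne_zero _ Nat.card_pos.ne'), Nat.factorization_pow, Nat.factorization_pow]
  simp only [Finsupp.add_apply, Finsupp.smul_apply, smul_eq_mul]
  linarith

end H33
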