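import Cfsg.Agent.H33.FourSizesBad
import Cfsg.Agent.H36.TwoClassSizes
import Cfsg.Agent.H27.PrimePowerClass
import Cfsg.Agent.H1.CoprimeAction2
import Cfsg.Agent.H1.Fitting
import Cfsg.Agent.H33.TwoPrime
import Mathlib.Algebra.IsPrimePow

/-!
Class sizes `1, n, m, n m` with `n, m` coprime force nilpotence and prime powers.
-/

set_option autoImplicit false
set_option linter.style.haveILetI false
set_option linter.unusedSectionVars false

namespace H33.FS

open Subgroup

universe u

variable {G : Type u} [Group G] [Finite G] {n m : ℕ}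

theorem cls_subgroup (C : Subgroup G) (v : C) :
    cls v = (centralizer ({(v : G)} : Set G)).relIndex C := by
  show (centralizer ({v} : Set C)).index = _
  rw [Subgroup.relIndex]
  congr 1
  ext w
  rw [mem_subgroupOf, H27.mem_cent, H27.mem_cent, Subtype.ext_iff]
  rfl

theorem relIndex_cls_of_n (h : FourSizes G n m) {x v : G} (hxn : cls x = n)
    (hxv : Commute x v) (hcop : (orderOf x).Coprime (orderOf v)) :
    (centralizer ({v} : Set G)).relIndex (centralizer ({x} : Set G)) = 1 ∨
    (centralizer ({v} : Set G)).relIndex (centralizer ({x} : Set G)) = m := by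
  have heq := cent_mul_eq hxv hcop
  have h1 := relIndex_mul_index (inf_le_left :
    centralizer ({x} : Set G) ⊓ centralizer ({v} : Set G) ≤ centralizer ({x} : Set G))
  rw [inf_relIndex_left, ← heq] at h1
  change _ * cls x = cls (x * v) at h1
  rw [hxn] at h1
  have hn0 : 0 < n := by have := h.one_lt_n; omega
  rcases h.mem (x * v) with a | a | a | a <;> rw [a] at h1
  · exact absurd (Nat.eq_one_of_mul_eq_one_left h1) h.one_lt_n.ne'
  · exact Or.inl (Nat.eq_of_mul_eq_mul_right hn0 (h1.trans (one_mul n).symm))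
  · exact absurd (Nat.eq_one_of_dvd_coprimes h.cop dvd_rfl (Dvd.intro_left _ h1)) h.one_lt_n.ne'
  · exact Or.inr (Nat.eq_of_mul_eq_mul_right hn0 (h1.trans (mul_comm n m)))

/-- The centralizer of a `p`-element of class size `n`, with `p ∣ n`: normal Sylow `p`-subgroup
centralized by the `p'`-elements. -/
theorem cent_structure (h : FourSizes G n m) {p : ℕ} [Fact p.Prime] {x : G} (hx : PE p x)
    (hxn : cls x = n) (hpn : p ∣ n) (P : Sylow p (centralizer ({x} : Set G))) :
    (P : Subgroup (centralizer ({x} : Set G))).Normal ∧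
      ∀ v : centralizer ({x} : Set G), (orderOf v).Coprime p →
        v ∈ centralizer ((P : Subgroup (centralizer ({x} : Set G))) : Set (centralizer ({x} : Set G))) := by
  refine sylow_normal_of_cover (fun v hv hd => ?_) P
  rw [cls_subgroup] at hd
  have hcop : (orderOf x).Coprime (orderOf (v : G)) := by
    obtain ⟨i, hi⟩ := hx
    rw [orderOf_coe, hi]
    exact hv.symm.pow_left i
  rcases relIndex_cls_of_n h hxn (commute_of_mem_cent v.2) hcop with a | a <;> rw [a] at hd
  · exact (Fact.out : p.Prime).not_dvd_one hd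
  · exact Nat.not_coprime_of_dvd_of_dvd (Fact.out : p.Prime).one_lt hpn hd h.cop

/-- If the prime of an element of class size `n` divides `n`, then `m` is a prime power, attained by
an element of that prime. -/
theorem good_structure (h : FourSizes G n m) {p : ℕ} [Fact p.Prime] {x : G} (hx : PE p x)
    (hxn : cls x = n) (hpn : p ∣ n) :
    ∃ (s : ℕ) (_ : Fact s.Prime) (b : ℕ) (y : G),
      m = s ^ b ∧ 0 < b ∧ PE s y ∧ cls y = m := by
  classical
  have hp : p.Prime := Fact.out
  obtain ⟨g, hg⟩ := h.exm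
  obtain ⟨r, hr, y₀, -, hy₀, hy₀m⟩ := h.symm.exists_primePow_n hg
  haveI := Fact.mk hr
  have hpm : ¬ p ∣ m := fun hd => Nat.not_coprime_of_dvd_of_dvd hp.one_lt hpn hd h.cop
  -- a conjugate of `y₀` commutes with `x`
  obtain ⟨y, hy, hym, hxy⟩ : ∃ y : G, PE r y ∧ cls y = m ∧ Commute x y := by
    obtain ⟨P₁, hP₁⟩ := (pe_iff_isPGroup.mp hx).exists_le_sylow
    obtain ⟨P₀, hP₀⟩ := H27.exists_sylow_le_of_not_dvd_index (p := p)
      (H := centralizer ({y₀} : Set G)) (hy₀m ▸ hpm : ¬ p ∣ cls y₀)
    obtain ⟨k, rfl⟩ := MulAction.exists_smul_eq G P₀ P₁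
    refine ⟨k * y₀ * k⁻¹, hy₀.conj k, by rw [cls_conj, hy₀m], ?_⟩
    obtain ⟨w, hw, hwx⟩ := hP₁ (mem_zpowers x)
    rw [← hwx]
    exact (commute_of_mem_cent (hP₀ hw)).symm.map (MulAut.conj k).toMonoidHom
  set C := centralizer ({x} : Set G) with hC
  have hyC : y ∈ C := mem_cent_of_commute hxy
  obtain ⟨P⟩ : Nonempty (Sylow p C) := inferInstance
  obtain ⟨hPn, hPc⟩ := cent_structure h hx hxn hpn P
  haveI := hPn
  haveI := Sylow.unique_of_normal P hPn
  have hPel : ∀ u : C, PE p u → u ∈ (P : Subgroup C) := by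
    intro u hu
    obtain ⟨T, hT⟩ := (pe_iff_isPGroup.mp hu).exists_le_sylow
    exact (Subsingleton.elim T P) ▸ hT (mem_zpowers u)
  have hrelm : (centralizer ({y} : Set G)).relIndex C = m := by
    have h1 := relIndex_mul_index (inf_le_left : C ⊓ centralizer ({y} : Set G) ≤ C)
    rw [inf_relIndex_left, H1.index_inf_eq_of_coprime C (centralizer ({y} : Set G))
      (by show (cls x).Coprime (cls y); rw [hxn, hym]; exact h.cop)] at h1
    change _ * cls x = cls x * cls y at h1
    rw [mul_comm (cls x) (cls y), hym] at h1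
    exact Nat.eq_of_mul_eq_mul_right (cls_pos x) h1
  -- the prime of `y` is not `p`
  have hrp : r ≠ p := by
    rintro rfl
    obtain ⟨q, hq, hqm⟩ := Nat.exists_prime_and_dvd h.one_lt_m.ne'
    haveI := Fact.mk hq
    have hqr : q ≠ r := fun e => hpm (e ▸ hqm)
    have hyP : (⟨y, hyC⟩ : C) ∈ (P : Subgroup C) := by
      refine hPel _ ?_
      obtain ⟨i, hi⟩ := hy
      exact ⟨i, by rw [orderOf_mk, hi]⟩
    obtain ⟨R⟩ : Nonempty (Sylow q C) := inferInstance
    have hnd : ¬ q ∣ cls (⟨y, hyC⟩ : C) := by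
      refine H27.not_dvd_index_cent_iff.mpr ⟨R, mem_centralizer_iff.mpr fun w hw => ?_⟩
      exact ((mem_centralizer_iff.mp (hPc w (PE.coprime_prime hqr (pe_of_mem R.isPGroup' hw))))
        _ hyP).symm
    rw [cls_subgroup, hrelm] at hnd
    exact hnd hqm
  -- class sizes in `C ⧸ P`
  let π := QuotientGroup.mk' (P : Subgroup C)
  have hquot : ∀ v : C, (orderOf v).Coprime p → cls (π v) = cls v := by
    intro v hv
    have hcomap : (centralizer ({π v} : Set (C ⧸ (P : Subgroup C)))).comap π =
        centralizer ({v} : Set C) := by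
      refine le_antisymm (fun w hw => ?_) fun w hw => ?_
      · have hzP : w * v * w⁻¹ * v⁻¹ ∈ (P : Subgroup C) := by
          refine (QuotientGroup.eq_one_iff _).mp ?_
          show π (w * v * w⁻¹ * v⁻¹) = 1
          rw [map_mul, map_mul, map_mul, map_inv, map_inv,
            ← (commute_of_mem_cent (mem_comap.mp hw)).eq, mul_inv_cancel_right, mul_inv_cancel]
        set z := w * v * w⁻¹ * v⁻¹ with hz
        have hzv : Commute z v := mem_centralizer_iff.mp (hPc v hv) z hzP
        have h1 : (z * v) ^ orderOf v = 1 := by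
          rw [hz, inv_mul_cancel_right, conj_pow, pow_orderOf_eq_one, mul_one, mul_inv_cancel]
        rw [hzv.mul_pow, pow_orderOf_eq_one, mul_one] at h1
        obtain ⟨i, hi⟩ := pe_of_mem P.isPGroup' hzP
        have h2 : orderOf z = 1 := Nat.eq_one_of_dvd_coprimes
          (hi.symm ▸ (hv.symm.pow_left i) : (orderOf z).Coprime (orderOf v)) dvd_rfl
          (orderOf_dvd_of_pow_eq_one h1)
        rw [orderOf_eq_one_iff, hz, mul_inv_eq_one, mul_inv_eq_iff_eq_mul] at h2
        exact H27.mem_cent.mpr h2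
      · rw [mem_comap]
        exact mem_cent_of_commute ((commute_of_mem_cent hw).map π)
    have h4 := index_comap_of_surjective (centralizer ({π v} : Set (C ⧸ (P : Subgroup C))))
      (QuotientGroup.mk'_surjective (P : Subgroup C))
    show (centralizer ({π v} : Set (C ⧸ (P : Subgroup C)))).index = (centralizer ({v} : Set C)).index
    rw [← h4]
    exact congrArg Subgroup.index hcomap
  have hsizes : ∀ a : C ⧸ (P : Subgroup C), cls a = 1 ∨ cls a = m := by
    intro a
    obtain ⟨w, rfl⟩ := QuotientGroup.mk'_surjective (P : Subgroup C) a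
    obtain ⟨u, v, rfl, ⟨k, hu⟩, hv, -, -⟩ := H5.exists_p_decomposition (p := p) w
    obtain ⟨j, -, hj⟩ := (Nat.dvd_prime_pow hp).mp (orderOf_dvd_of_pow_eq_one hu)
    have huP : π u = 1 := (QuotientGroup.eq_one_iff u).mpr (hPel u ⟨j, hj⟩)
    rw [show QuotientGroup.mk' (P : Subgroup C) (u * v) = π v by
      show π (u * v) = π v
      rw [map_mul, huP, one_mul], hquot v hv, cls_subgroup]
    have hcop : (orderOf x).Coprime (orderOf (v : G)) := by
      obtain ⟨i, hi⟩ := hx
      rw [orderOf_coe, hi]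
      exact hv.symm.pow_left i
    exact relIndex_cls_of_n h hxn (commute_of_mem_cent v.2) hcop
  have hyv : (orderOf (⟨y, hyC⟩ : C)).Coprime p := by
    rw [orderOf_mk]; exact PE.coprime_prime hrp hy
  have hybar : cls (π ⟨y, hyC⟩) = m := by rw [hquot _ hyv, cls_subgroup, hrelm]
  obtain ⟨s, hs, a, hma, hall⟩ := H36.two_sizes_structure (fun a => hsizes a) h.one_lt_m
    ⟨_, hybar⟩
  haveI := hs
  have ha : 0 < a := Nat.pos_of_ne_zero fun e => h.one_lt_m.ne' (by rw [hma, e, pow_zero])
  obtain rfl : r = s := by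
    by_contra hne
    obtain ⟨S⟩ : Nonempty (Sylow s (C ⧸ (P : Subgroup C))) := inferInstance
    obtain ⟨-, ⟨N, hNn, hNS, hNc, hNP⟩, -⟩ := hall S
    haveI := hNn
    set yb := π ⟨y, hyC⟩ with hyb
    have hyr : (orderOf yb).Coprime s :=
      ((PE.coprime_prime hne hy)).coprime_dvd_left
        ((orderOf_map_dvd π _).trans (dvd_of_eq (orderOf_mk y hyC)))
    have hyN : yb ∈ N := by
      rw [← QuotientGroup.eq_one_iff, ← orderOf_eq_one_iff]
      obtain ⟨i, hi⟩ := IsPGroup.iff_card.mp S.isPGroup'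
      refine Nat.eq_one_of_dvd_coprimes (hyr.pow_right i) (orderOf_map_dvd (QuotientGroup.mk' N) yb) ?_
      rw [← hi, ← hNS.symm.index_eq_card]
      exact orderOf_dvd_natCard _
    have hcent : centralizer ({yb} : Set (C ⧸ (P : Subgroup C))) = ⊤ := by
      rw [eq_top_iff, ← hNS.sup_eq_top, sup_le_iff]
      refine ⟨fun w hw => mem_cent_of_commute ?_, fun w hw => mem_cent_of_commute (hNP yb hyN w hw)⟩
      exact congrArg Subtype.val (hNc.is_comm.comm (⟨yb, hyN⟩ : N) ⟨w, hw⟩)
    change (centralizer ({yb} : Set (C ⧸ (P : Subgroup C)))).index = m at hybar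
    rw [hcent, index_top] at hybar
    exact h.one_lt_m.ne hybar
  exact ⟨r, hs, a, y, hma, ha, hy, hym⟩

/-- The `q`-elements centralize `O_p`. -/
theorem centralizes_pCore (h : FourSizes G n m) {p q : ℕ} [Fact p.Prime] [Fact q.Prime] {a : ℕ}
    (hna : n = p ^ a) (hqn : ¬ q ∣ n) {x : G} (hx : PE p x) (hxn : cls x = n) (hpn : p ∣ n)
    {v : G} (hv : PE q v) : v ∈ centralizer (Cfsg.pCore p G : Set G) := by
  have hpq : q ≠ p := fun e => hqn (e ▸ hpn)
  set V := Cfsg.pCore p G with hV
  have hxV : x ∈ V := H27.mem_pCore_of_index_eq_pow hx (hxn.trans hna)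
  obtain ⟨Q, hQ⟩ := H27.exists_sylow_le_of_not_dvd_index (p := q)
    (H := centralizer ({x} : Set G)) (hxn ▸ hqn : ¬ q ∣ cls x)
  set C := centralizer ({x} : Set G) with hC
  obtain ⟨P⟩ : Nonempty (Sylow p C) := inferInstance
  obtain ⟨hPn, hPc⟩ := cent_structure h hx hxn hpn P
  haveI := Sylow.unique_of_normal P hPn
  haveI : (Cfsg.pCore p G).Normal := H1.pCore_normal' p G
  have hVp : IsPGroup p V := H1.isPGroup_pCore p G
  have hPV : V ⊓ C ≤ centralizer ((Q : Subgroup G) : Set G) := by
    intro a ha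
    refine mem_centralizer_iff.mpr fun w hw => ?_
    obtain ⟨T, hT⟩ := ((hVp.to_inf_left (K := C)).comap_subtype (K := C)).exists_le_sylow
    have haP : (⟨a, ha.2⟩ : C) ∈ (P : Subgroup C) := by
      rw [← Subsingleton.elim T P]
      exact hT (show ((⟨a, ha.2⟩ : C) : G) ∈ V ⊓ C from ha)
    have h1 := mem_centralizer_iff.mp (hPc ⟨w, hQ hw⟩ (by
      rw [orderOf_mk]; exact PE.coprime_prime hpq (pe_of_mem Q.isPGroup' hw))) _ haP
    exact (congrArg Subtype.val h1).symm
  have hQV : (Q : Subgroup G) ≤ centralizer (V : Set G) := by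
    refine H1.thompson_P_times_Q (p := p) (hVp.to_inf_left (K := C)) ?_ hVp hPV
      (inf_le_left.trans le_normalizer) (le_normalizer_of_normal) ?_
    · obtain ⟨k, hk⟩ := IsPGroup.iff_card.mp Q.isPGroup'
      rw [hk]
      exact ((Nat.coprime_primes (Fact.out : q.Prime) (Fact.out : p.Prime)).mpr hpq).pow_left k
    · rintro w ⟨hwV, hw⟩
      refine hPV ⟨hwV, ?_⟩
      exact H27.mem_cent.mpr ((mem_centralizer_iff.mp hw x
        ⟨hxV, mem_cent_of_commute (Commute.refl x)⟩).symm)
  haveI : (centralizer (V : Set G)).Normal := normal_centralizer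
  obtain ⟨T, hT⟩ := (pe_iff_isPGroup.mp hv).exists_le_sylow
  obtain ⟨k, rfl⟩ := MulAction.exists_smul_eq G Q T
  obtain ⟨w, hw, hwv⟩ := hT (mem_zpowers v)
  rw [← hwv]
  exact (inferInstance : (centralizer (V : Set G)).Normal).conj_mem w (hQV hw) k

/-- The nilpotency criterion for the two primes. -/
theorem nilpotent_of_two (h : FourSizes G n m) {p q : ℕ} [Fact p.Prime] [Fact q.Prime] {a b : ℕ}
    (hna : n = p ^ a) (hmb : m = q ^ b) (hpn : p ∣ n) (hqm : q ∣ m) {x y : G} (hx : PE p x)
    (hxn : cls x = n) (hy : PE q y) (hym : cls y = m) : Group.IsNilpotent G := by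
  classical
  have hp : p.Prime := Fact.out
  have hq : q.Prime := Fact.out
  have hqn : ¬ q ∣ n := fun e => Nat.not_coprime_of_dvd_of_dvd hq.one_lt e hqm h.cop
  have hpm : ¬ p ∣ m := fun e => Nat.not_coprime_of_dvd_of_dvd hp.one_lt hpn e h.cop
  have hpq : p ≠ q := fun e => hpm (e ▸ hqm)
  have hcentral : ∀ r : ℕ, r.Prime → r ≠ p → r ≠ q → ∀ e : G, PE r e → e ∈ center G := by
    intro r hr hrp hrq e he
    haveI := Fact.mk hr
    refine h.mem_center_of_prime (fun hd => hrp ?_) (fun hd => hrq ?_) he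
    · exact (Nat.prime_dvd_prime_iff_eq hr hp).mp (hr.dvd_of_dvd_pow (hna ▸ hd))
    · exact (Nat.prime_dvd_prime_iff_eq hr hq).mp (hr.dvd_of_dvd_pow (hmb ▸ hd))
  set V := Cfsg.pCore p G with hV
  set W := Cfsg.pCore q G with hW
  haveI : (Cfsg.pCore p G).Normal := H1.pCore_normal' p G
  haveI : (Cfsg.pCore q G).Normal := H1.pCore_normal' q G
  have hCV : ∀ v : G, PE q v → v ∈ centralizer (V : Set G) := fun v hv =>
    centralizes_pCore h hna hqn hx hxn hpn hv
  have hCW : ∀ v : G, PE p v → v ∈ centralizer (W : Set G) := fun v hv =>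
    centralizes_pCore h.symm hmb hpm hy hym hqm hv
  -- solvability
  haveI hsol : Group.IsSolvable G := by
    haveI : Group.IsSolvable (G ⧸ center G) := isSolvable_of_two_primes hp hq fun r hr hd => by
      by_contra hcon
      push Not at hcon
      haveI := Fact.mk hr
      obtain ⟨c, hc⟩ := exists_prime_orderOf_dvd_card' r hd
      obtain ⟨e, he, hep⟩ := H27.exists_lift_pElement (center G) (p := r) (k := 1)
        (hc.trans (pow_one r).symm)
      rw [(QuotientGroup.eq_one_iff e).mpr (hcentral r hr hcon.1 hcon.2 e hep)] at he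
      rw [← he, orderOf_one] at hc
      exact hr.one_lt.ne hc
    haveI : Group.IsSolvable (center G) :=
      Group.isSolvable_of_comm fun a b => Subtype.ext ((mem_center_iff.mp b.2 a))
    exact Group.isSolvable_of_ker_le_range (center G).subtype (QuotientGroup.mk' (center G)) (by simp)
  set T := centralizer (V : Set G) ⊓ centralizer (W : Set G) with hT
  haveI : T.Normal := Subgroup.normal_inf_normal _ _
  set F := Cfsg.fittingSubgroup G with hF
  have hTF : T ≤ centralizer (F : Set G) := by
    rw [le_centralizer_iff, hF, H1.fittingSubgroup_eq_iSup_pCore]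
    refine iSup_le fun r => ?_
    rw [le_centralizer_iff]
    haveI := Fact.mk r.2
    by_cases hrp : (r : ℕ) = p
    · rw [hrp]; exact inf_le_left
    by_cases hrq : (r : ℕ) = q
    · rw [hrq]; exact inf_le_right
    · intro t _
      refine mem_centralizer_iff.mpr fun e he => ?_
      exact (mem_center_iff.mp (hcentral r r.2 hrp hrq e
        (pe_of_mem (H1.isPGroup_pCore (r : ℕ) G) he)) t).symm
  have hTT : T ≤ centralizer (T : Set G) :=
    hTF.trans (centralizer_le (hTF.trans (H1.centralizer_fitting_le_of_isSolvable inferInstance)))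
  have hTel : ∀ r : ℕ, r.Prime → ∀ t ∈ T, PE r t → t ∈ Cfsg.pCore r G := by
    intro r hr t htT ht
    haveI := Fact.mk hr
    obtain ⟨S, hS⟩ := ((pe_iff_isPGroup.mp ht).comap_subtype (K := T)).exists_le_sylow
    have hSn : (S : Subgroup T).Normal := ⟨fun s hs g => by
      have h1 : (g : G) * s = s * g := mem_centralizer_iff.mp (hTT s.2) g g.2
      have h2 : g * s * g⁻¹ = s := mul_inv_eq_iff_eq_mul.mpr (Subtype.ext h1)
      rwa [h2]⟩
    haveI := S.characteristic_of_normal hSn
    haveI := H1.map_subtype_normal_of_characteristic T (S : Subgroup T)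
    exact H1.le_pCore (S.isPGroup'.map T.subtype)
      ⟨⟨t, htT⟩, hS (show ((⟨t, htT⟩ : T) : G) ∈ zpowers t from mem_zpowers t), rfl⟩
  -- the commutator of a `p`-element and a `q`-element
  have key : ∀ (p q : ℕ) [Fact p.Prime] [Fact q.Prime], p ≠ q →
      (∀ r : ℕ, r.Prime → r ≠ p → r ≠ q → ∀ e : G, PE r e → e ∈ center G) →
      (∀ v : G, PE q v → v ∈ centralizer (Cfsg.pCore p G : Set G)) →
      ∀ u v : G, PE p u → PE q v → u * v * u⁻¹ * v⁻¹ ∈ T → PE q (u * v * u⁻¹ * v⁻¹) := by
    intro p q _ _ hpq hcen hCV u v hu hv hzT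
    set z := u * v * u⁻¹ * v⁻¹ with hz
    obtain ⟨za, zb, hzab, ⟨k, hza⟩, hzb, hza', hzb'⟩ := H5.exists_p_decomposition (p := q) z
    obtain ⟨i, -, hi⟩ := (Nat.dvd_prime_pow (Fact.out : q.Prime)).mp (orderOf_dvd_of_pow_eq_one hza)
    have hzaT : za ∈ T := zpowers_le.mpr hzT hza'
    have hzbT : zb ∈ T := zpowers_le.mpr hzT hzb'
    have hbv : Commute zb v := by
      obtain ⟨c, d, hcd, ⟨l, hc⟩, hd, hc', hd'⟩ := H5.exists_p_decomposition (p := p) zb
      obtain ⟨j, -, hj⟩ := (Nat.dvd_prime_pow (Fact.out : p.Prime)).mp (orderOf_dvd_of_pow_eq_one hc)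
      have hcv : Commute c v := mem_centralizer_iff.mp (hCV v hv) c
        (hTel p Fact.out c (zpowers_le.mpr hzbT hc') ⟨j, hj⟩)
      have hdc : d ∈ center G := by
        by_contra hdc
        obtain ⟨r, hr, e, he, her, hec⟩ := exists_part d hdc
        haveI := Fact.mk hr
        have hed : orderOf e ∣ orderOf d := by
          obtain ⟨e', he'⟩ := mem_zpowers_iff.mp he
          rw [← he']
          exact orderOf_dvd_of_pow_eq_one (by
            rw [← zpow_natCast, ← zpow_mul, mul_comm, zpow_mul, zpow_natCast, pow_orderOf_eq_one,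
              one_zpow])
        have hdb : orderOf d ∣ orderOf zb := by
          obtain ⟨e', he'⟩ := mem_zpowers_iff.mp hd'
          rw [← he']
          exact orderOf_dvd_of_pow_eq_one (by
            rw [← zpow_natCast, ← zpow_mul, mul_comm, zpow_mul, zpow_natCast, pow_orderOf_eq_one,
              one_zpow])
        obtain ⟨j', hj'⟩ := her
        have hone : e = 1 ↔ j' = 0 := by
          rw [← orderOf_eq_one_iff, hj', Nat.pow_eq_one, or_iff_right hr.ne_one]
        have he1 : j' ≠ 0 := fun e0 => hec (by rw [hone.mpr e0]; exact one_mem _)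
        have hrd : r ∣ orderOf e := hj' ▸ dvd_pow_self r he1
        refine hec (hcen r hr (fun e0 => ?_) (fun e0 => ?_) e ⟨j', hj'⟩)
        · subst e0
          exact Nat.not_coprime_of_dvd_of_dvd hr.one_lt (hrd.trans hed) dvd_rfl hd
        · subst e0
          exact Nat.not_coprime_of_dvd_of_dvd hr.one_lt ((hrd.trans hed).trans hdb) dvd_rfl hzb
      rw [hcd]
      exact hcv.mul_left (mem_center_iff.mp hdc v).symm
    have hab : Commute za zb := mem_centralizer_iff.mp (hTT hzbT) za hzaT
    -- `za * v` is a `q`-element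
    obtain ⟨S, hS⟩ := (pe_iff_isPGroup.mp hv).exists_le_sylow
    have hav : PE q (za * v) := pe_of_mem S.isPGroup' (mul_mem
      (H1.pCore_le_sylow S (hTel q Fact.out za hzaT ⟨i, hi⟩)) (hS (mem_zpowers v)))
    have huv : u * v * u⁻¹ = za * v * zb := by
      calc u * v * u⁻¹ = z * v := by rw [hz, inv_mul_cancel_right]
        _ = za * zb * v := by rw [hzab]
        _ = za * v * zb := by rw [mul_assoc, hbv.eq, mul_assoc]
    have hcomm : Commute (za * v) zb := hab.mul_left hbv.symm
    have hzb1 : zb = 1 := by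
      have h1 : PE q zb := by
        have h2 : Commute (za * v)⁻¹ (u * v * u⁻¹) := by
          rw [huv]
          exact ((Commute.refl (za * v)).mul_right hcomm).inv_left
        have h3 := hav.inv'.mul (hv.conj u) h2
        rw [huv, inv_mul_cancel_left] at h3
        exact h3
      obtain ⟨j, hj⟩ := h1
      rw [← orderOf_eq_one_iff]
      exact Nat.eq_one_of_dvd_coprimes (hzb.pow_right j) dvd_rfl (dvd_of_eq hj)
    rw [hzab, hzb1, mul_one]
    exact ⟨i, hi⟩
  have hcomm : ∀ u v : G, PE p u → PE q v → Commute u v := by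
    intro u v hu hv
    set z := u * v * u⁻¹ * v⁻¹ with hz
    haveI : (centralizer (V : Set G)).Normal := normal_centralizer
    haveI : (centralizer (W : Set G)).Normal := normal_centralizer
    have hzT : z ∈ T := by
      refine ⟨?_, ?_⟩
      · show z ∈ centralizer (V : Set G)
        have hv' : v ∈ centralizer (V : Set G) := hCV v hv
        exact mul_mem ((inferInstance : (centralizer (V : Set G)).Normal).conj_mem v hv' u) (inv_mem hv')
      · show z ∈ centralizer (W : Set G)
        have h1 : z = u * (v * u⁻¹ * v⁻¹) := by rw [hz]; group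
        rw [h1]
        have hu2 : u ∈ centralizer (W : Set G) := hCW u hu
        exact mul_mem hu2 ((inferInstance : (centralizer (W : Set G)).Normal).conj_mem _ (inv_mem hu2) v)
    have hzq : PE q z := key p q hpq hcentral hCV u v hu hv hzT
    have hinv : v * u * v⁻¹ * u⁻¹ = z⁻¹ := by rw [hz]; group
    have hzp : PE p z := by
      have h1 := key q p hpq.symm (fun r hr a b => hcentral r hr b a) hCW v u hv hu
        (hinv ▸ inv_mem hzT)
      rw [hinv] at h1
      simpa using h1.inv'
    have h1 : z = 1 := orderOf_eq_one_iff.mp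
      (Nat.eq_one_of_dvd_coprimes (PE.coprime hpq hzp hzq) dvd_rfl dvd_rfl)
    rw [hz, mul_inv_eq_one, mul_inv_eq_iff_eq_mul] at h1
    exact h1
  -- every Sylow subgroup is normal
  refine (Group.isNilpotent_of_finite_tfae (G := G)).out 3 0 |>.mp fun r hr P => ?_
  haveI := hr
  have hr' : r.Prime := hr.out
  set D := (P : Subgroup G) ⊔ centralizer ((P : Subgroup G) : Set G) with hD
  have htop : D = ⊤ := by
    rw [← index_eq_one]
    refine Nat.eq_one_iff_not_exists_prime_dvd.mpr fun l hl hd => ?_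
    haveI := Fact.mk hl
    by_cases hlr : l = r
    · subst hlr
      exact P.not_dvd_index (hd.trans (index_dvd_of_le le_sup_left))
    obtain ⟨S⟩ : Nonempty (Sylow l G) := inferInstance
    refine S.not_dvd_index (hd.trans (index_dvd_of_le ?_))
    intro s hs
    refine mem_sup_right (mem_centralizer_iff.mpr fun e he => ?_)
    have hs' := pe_of_mem S.isPGroup' hs
    have he' := pe_of_mem P.isPGroup' he
    by_cases hcs : l ≠ p ∧ l ≠ q
    · exact mem_center_iff.mp (hcentral l hl hcs.1 hcs.2 s hs') e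
    by_cases hce : r ≠ p ∧ r ≠ q
    · exact (mem_center_iff.mp (hcentral r hr' hce.1 hce.2 e he') s).symm
    rcases eq_or_ne l p with rfl | hlp
    · obtain rfl : r = q := by
        by_contra hrq
        exact hce ⟨fun e => hlr e.symm, hrq⟩
      exact ((hcomm s e hs' he').eq).symm
    · obtain rfl : l = q := by
        by_contra hlq
        exact hcs ⟨hlp, hlq⟩
      obtain rfl : r = p := by
        by_contra hrp
        exact hce ⟨hrp, fun e => hlr e.symm⟩
      exact (hcomm e s he' hs').eq
  exact normalizer_eq_top_iff.mp (top_le_iff.mp (htop.ge.trans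
    (sup_le le_normalizer (centralizer_le_normalizer _))))

/-- The main theorem. -/
theorem nilpotent_and_primePow (h : FourSizes G n m) :
    Group.IsNilpotent G ∧ IsPrimePow n ∧ IsPrimePow m := by
  have key : ∀ {n m : ℕ}, FourSizes G n m → ∀ (p : ℕ) [Fact p.Prime] (x : G), PE p x → cls x = n →
      p ∣ n → Group.IsNilpotent G ∧ IsPrimePow n ∧ IsPrimePow m := by
    intro n m h p _ x hx hxn hpn
    obtain ⟨q, hq, b, y, hmb, hb, hy, hym⟩ := good_structure h hx hxn hpn
    haveI := hq
    have hqm : q ∣ m := hmb ▸ dvd_pow_self q hb.ne'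
    obtain ⟨p', hp', a, x', hna, ha, -, -⟩ := good_structure h.symm hy hym hqm
    haveI := hp'
    obtain rfl : p = p' :=
      (Nat.prime_dvd_prime_iff_eq Fact.out Fact.out).mp ((Fact.out : p.Prime).dvd_of_dvd_pow (hna ▸ hpn))
    refine ⟨nilpotent_of_two h hna hmb hpn hqm hx hxn hy hym,
      (isPrimePow_nat_iff _).mpr ⟨p, a, Fact.out, ha, hna.symm⟩,
      (isPrimePow_nat_iff _).mpr ⟨q, b, Fact.out, hb, hmb.symm⟩⟩
  by_contra hcon
  refine not_bad h fun r hr e he => ⟨fun hen hd => hcon ?_, fun hem hd => hcon ?_⟩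
  · haveI := Fact.mk hr
    exact key h r e he hen hd
  · haveI := Fact.mk hr
    obtain ⟨h1, h2, h3⟩ := key h.symm r e he hem hd
    exact ⟨h1, h3, h2⟩

end H33.FS
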