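import Cfsg.Agent.H33.FourSizesBasic

/-!
Class sizes `1, n, m, n m`: some element of prime power order of class size `n` has prime dividing `n`,
or symmetrically.
-/

set_option autoImplicit false
set_option linter.style.haveILetI false
set_option linter.unusedSectionVars false

namespace H33.FS

open Subgroup

variable {G : Type*} [Group G] [Finite G] {n m : ℕ}

/-- No element of prime power order of class size `n` or `m` has its prime in that size. -/
def Bad (G : Type*) [Group G] (n m : ℕ) : Prop :=
  ∀ r : ℕ, r.Prime → ∀ e : G, PE r e → (cls e = n → ¬ r ∣ n) ∧ (cls e = m → ¬ r ∣ m)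

theorem Bad.symm (hb : Bad G n m) : Bad G m n := fun r hr e he =>
  ⟨(hb r hr e he).2, (hb r hr e he).1⟩

/-- Normal closures coming from commuting elements of class sizes `n` and `m`. -/
def Fam (n m : ℕ) (K : Subgroup G) : Prop :=
  ∃ (p q : ℕ) (x y : G), p.Prime ∧ q.Prime ∧ PE q x ∧ PE p y ∧ cls x = n ∧ cls y = m ∧
    Commute x y ∧ (K = normalClosure ({x} : Set G) ∨ K = normalClosure ({y} : Set G))

theorem Fam.symm {K : Subgroup G} (h : Fam n m K) : Fam m n K := by
  obtain ⟨p, q, x, y, hp, hq, hx, hy, hxn, hym, hc, hK⟩ := h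
  exact ⟨q, p, y, x, hq, hp, hy, hx, hym, hxn, hc.symm, hK.symm⟩

theorem PE.inv' {p : ℕ} {x : G} (h : PE p x) : PE p x⁻¹ := by
  obtain ⟨k, hk⟩ := h
  exact ⟨k, by rw [orderOf_inv, hk]⟩

theorem FourSizes.m_or_nm_of_m_dvd (h : FourSizes G n m) {g : G} (hd : m ∣ cls g) :
    cls g = m ∨ cls g = n * m := by
  obtain ⟨r, hr, hrm⟩ := Nat.exists_prime_and_dvd h.one_lt_m.ne'
  exact h.m_or_nm_of_dvd hr (fun hrn => Nat.not_coprime_of_dvd_of_dvd hr.one_lt hrn hrm h.cop)
    (hrm.trans hd)

/-- Conjugation by powers, when the commutator is central. -/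
theorem conj_pow_eq_of_central {g e z : G} (hz : z ∈ center G) (h : g * e * g⁻¹ = z * e) (k : ℕ) :
    g ^ k * e * (g ^ k)⁻¹ = z ^ k * e := by
  induction k with
  | zero => simp
  | succ k ih =>
    have hzc : g * z ^ k * g⁻¹ = z ^ k := by
      rw [mem_center_iff.mp (pow_mem hz k) g, mul_inv_cancel_right]
    calc g ^ (k + 1) * e * (g ^ (k + 1))⁻¹ = g * (g ^ k * e * (g ^ k)⁻¹) * g⁻¹ := by
          rw [pow_succ']; group
      _ = g * (z ^ k * e) * g⁻¹ := by rw [ih]
      _ = (g * z ^ k * g⁻¹) * (g * e * g⁻¹) := by group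
      _ = z ^ k * (z * e) := by rw [hzc, h]
      _ = z ^ (k + 1) * e := by rw [← mul_assoc, ← pow_succ]

theorem commute_of_central_commutator {p q : ℕ} [Fact p.Prime] [Fact q.Prime] (hne : p ≠ q)
    {g e : G} (hg : PE q g) (hz : g * e * g⁻¹ * e⁻¹ ∈ center G)
    (hzp : PE p (g * e * g⁻¹ * e⁻¹)) : Commute g e := by
  set z := g * e * g⁻¹ * e⁻¹ with hzdef
  have h1 : g * e * g⁻¹ = z * e := by rw [hzdef, inv_mul_cancel_right]
  have h2 := conj_pow_eq_of_central hz h1 (orderOf g)
  rw [pow_orderOf_eq_one, one_mul, inv_one, mul_one] at h2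
  have h3 : orderOf z ∣ orderOf g := orderOf_dvd_of_pow_eq_one (mul_eq_right.mp h2.symm)
  have h4 : orderOf z = 1 := Nat.eq_one_of_dvd_coprimes (PE.coprime hne hzp hg) dvd_rfl h3
  rw [orderOf_eq_one_iff] at h4
  rw [h4, one_mul] at h1
  exact mul_inv_eq_iff_eq_mul.mp h1

theorem normalClosure_isPGroup_of_sylow_normal {q : ℕ} [Fact q.Prime] {x : G} (hx : PE q x)
    (S : Sylow q (normalClosure ({x} : Set G))) (hS : (S : Subgroup ↥(normalClosure ({x} : Set G))).Normal) :
    IsPGroup q (normalClosure ({x} : Set G)) := by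
  haveI := S.characteristic_of_normal hS
  haveI := H1.map_subtype_normal_of_characteristic (normalClosure ({x} : Set G)) (S : Subgroup (normalClosure ({x} : Set G)))
  set x₀ : (normalClosure ({x} : Set G)) := ⟨x, subset_normalClosure (Set.mem_singleton x)⟩
  obtain ⟨T, hT⟩ := ((pe_iff_isPGroup.mp hx).comap_subtype (K := (normalClosure ({x} : Set G)))).exists_le_sylow
  haveI := Sylow.unique_of_normal S hS
  have hxS : x ∈ (S : Subgroup (normalClosure ({x} : Set G))).map (normalClosure ({x} : Set G)).subtype :=
    ⟨x₀, Subsingleton.elim T S ▸ hT (show (x₀ : G) ∈ zpowers x from mem_zpowers x), rfl⟩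
  have hle : (normalClosure ({x} : Set G)) ≤ (S : Subgroup (normalClosure ({x} : Set G))).map (normalClosure ({x} : Set G)).subtype :=
    normalClosure_le_normal (Set.singleton_subset_iff.mpr hxS)
  exact (S.isPGroup'.map (normalClosure ({x} : Set G)).subtype).to_le hle

theorem bad_false (h : FourSizes G n m) (hbad : Bad G n m) {p q : ℕ} [Fact p.Prime] [Fact q.Prime]
    {x y : G} (hx : PE q x) (hy : PE p y) (hxn : cls x = n) (hym : cls y = m) (hxy : Commute x y)
    (hmin : ∀ K : Subgroup G, Fam n m K → K ≤ normalClosure ({x} : Set G) →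
      normalClosure ({x} : Set G) ≤ K) : False := by
  classical
  have hp : p.Prime := Fact.out
  have hq : q.Prime := Fact.out
  have hxc : x ∉ center G := h.not_center_of_n hxn
  have hyc : y ∉ center G := h.not_center_of_m hym
  have hqn : ¬ q ∣ n := (hbad q hq x hx).1 hxn
  have hqm : q ∣ m := (h.dvd_of_noncentral hx hxc).resolve_left hqn
  have hpm : ¬ p ∣ m := (hbad p hp y hy).2 hym
  have hpn : p ∣ n := (h.dvd_of_noncentral hy hyc).resolve_right hpm
  have hne : p ≠ q := fun e => hqn (e ▸ hpn)
  have hcop : (cls x).Coprime (cls y) := by rw [hxn, hym]; exact h.cop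
  set M := normalClosure ({x} : Set G) with hM
  set N := normalClosure ({y} : Set G) with hN
  have hxM : x ∈ M := subset_normalClosure (Set.mem_singleton x)
  have hMy : M ≤ centralizer ({y} : Set G) := normalClosure_le_cent hxy hcop
  have hMN : M ≤ centralizer (N : Set G) := normalClosure_commute hxy hcop
  have hself : M ≤ centralizer ({x} : Set G) → M ≤ centralizer (M : Set G) := fun hc => by
    refine normalClosure_le_normal (Set.singleton_subset_iff.mpr ?_)
    exact mem_centralizer_iff.mpr fun a ha => (commute_of_mem_cent (hc ha)).symm.eq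
  set t := (Nat.card (centralizer ({y} : Set G))).factorization q with ht
  have htq : ∀ g : G, cls g = m ∨ cls g = n * m →
      (Nat.card (centralizer ({g} : Set G))).factorization q = t := by
    intro g hg
    have h1 := factorization_card_cent q g
    have h2 := factorization_card_cent q y
    rw [h.factorization_cls hqn hg] at h1
    rw [hym] at h2
    omega
  have hfamn : ∀ e : G, ∀ r : ℕ, r.Prime → PE r e → cls e = n → Commute e y →
      Fam n m (normalClosure ({e} : Set G)) := fun e r hr he hen hey =>
    ⟨p, r, e, y, hp, hr, he, hy, hen, hym, hey, Or.inl rfl⟩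
  have hfamm : ∀ e : G, ∀ r : ℕ, r.Prime → PE r e → cls e = m → Commute x e →
      Fam n m (normalClosure ({e} : Set G)) := fun e r hr he hem hxe =>
    ⟨r, q, x, e, hr, hq, hx, he, hxn, hem, hxe, Or.inr rfl⟩
  -- `M` is a `q`-group
  have hMq : IsPGroup q M := by
    by_contra hMq
    have hnc : ¬ M ≤ centralizer (M : Set G) := by
      intro hc
      obtain ⟨S⟩ : Nonempty (Sylow q M) := inferInstance
      have hSn : (S : Subgroup M).Normal := ⟨fun s hs g => by
        have h1 : (g : G) * s = s * g :=
          (mem_centralizer_iff.mp (hc s.2) g g.2)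
        have h2 : g * s * g⁻¹ = s := mul_inv_eq_iff_eq_mul.mpr (Subtype.ext h1)
        rwa [h2]⟩
      exact hMq (normalClosure_isPGroup_of_sylow_normal hx S hSn)
    have hI : ∀ f ∈ M, f ∈ N → PE p f → f ∈ center G := by
      intro f hfM hfN hfp
      by_contra hfc
      have hMf : M ≤ centralizer ({f} : Set G) := fun a ha =>
        mem_cent_of_commute (mem_centralizer_iff.mp (hMN ha) f hfN)
      have hfx : Commute f x := commute_of_mem_cent (hMf hxM)
      rcases h.mem f with hf | hf | hf | hf
      · exact hfc (mem_center_iff_cls.mp hf)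
      · exact (hbad p hp f hfp).1 hf hpn
      · have hle : M ≤ normalClosure ({f} : Set G) := hmin _ (hfamm f p hp hfp hf hfx.symm)
          (normalClosure_le_normal (Set.singleton_subset_iff.mpr hfM))
        have hfN' : normalClosure ({f} : Set G) ≤ N :=
          normalClosure_le_normal (Set.singleton_subset_iff.mpr hfN)
        exact hnc (hMN.trans (centralizer_le (hle.trans hfN')))
      · exact hnc (hself (hMf.trans (h.cent_le_cent_of_nm hf hfx (PE.coprime hne hfp hx))))
    -- every `q'`-element of `M` centralizes a Sylow `q`-subgroup of `M`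
    have hcover : ∀ g : M, (orderOf g).Coprime q → ¬ q ∣ cls g := by
      rintro ⟨g, hgM⟩ hgq
      rw [orderOf_mk] at hgq
      obtain ⟨e, v, hev, ⟨k, hek⟩, hvp, he', hv'⟩ := H5.exists_p_decomposition (p := p) g
      have heM : e ∈ M := (zpowers_le.mpr hgM) he'
      have hvM : v ∈ M := (zpowers_le.mpr hgM) hv'
      have hev' : Commute e v := by
        obtain ⟨i, rfl⟩ := mem_zpowers_iff.mp he'
        obtain ⟨j, rfl⟩ := mem_zpowers_iff.mp hv'
        exact Commute.zpow_zpow_self g i j
      obtain ⟨ke, -, hke⟩ := (Nat.dvd_prime_pow hp).mp (orderOf_dvd_of_pow_eq_one hek)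
      have hep : PE p e := ⟨ke, hke⟩
      have hye : Commute y e := commute_of_mem_cent (hMy heM)
      have hyv : Commute y v := commute_of_mem_cent (hMy hvM)
      obtain ⟨R, hRq, hRc, hRy, hRe, hRv⟩ : ∃ R : Subgroup G, IsPGroup q R ∧ Nat.card R = q ^ t ∧
          R ≤ centralizer ({y} : Set G) ∧ R ≤ centralizer ({e} : Set G) ∧
          R ≤ centralizer ({v} : Set G) := by
        have hvo : ∀ w : G, PE p w → (orderOf w).Coprime (orderOf v) := by
          rintro w ⟨i, hi⟩
          rw [hi]
          exact hvp.symm.pow_left i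
        by_cases hc : e * y ∈ center G
        · -- then `C(y) ≤ C(e)`
          have hyec : centralizer ({y} : Set G) ≤ centralizer ({e} : Set G) := by
            intro w hw
            have h1 : Commute (e * y) w := (mem_center_iff.mp hc w).symm
            have h2 : Commute (e * y * y⁻¹) w := h1.mul_left (commute_of_mem_cent hw).inv_left
            rw [mul_inv_cancel_right] at h2
            exact mem_cent_of_commute h2
          have heq := cent_mul_eq hyv (hvo y hy)
          have hz : cls (y * v) = m ∨ cls (y * v) = n * m :=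
            h.m_or_nm_of_m_dvd (hym ▸ cls_dvd (heq ▸ inf_le_left))
          obtain ⟨R, hR, hRq, hRc⟩ := exists_full_pgroup q (y * v)
          rw [htq _ hz] at hRc
          rw [heq] at hR
          exact ⟨R, hRq, hRc, hR.trans inf_le_left, (hR.trans inf_le_left).trans hyec,
            hR.trans inf_le_right⟩
        · have hey : PE p (e * y) := hep.mul hy hye.symm
          have hmd : m ∣ cls (e * y) := by
            rcases h.mem (e * y) with a | a | a | a
            · exact absurd (mem_center_iff_cls.mp a) hc
            · exact absurd hpn ((hbad p hp _ hey).1 a)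
            · exact a.symm ▸ dvd_rfl
            · exact a.symm ▸ dvd_mul_left m n
          have heq := cent_mul_eq (hev'.mul_left hyv) (hvo _ hey)
          have hz : cls (e * y * v) = m ∨ cls (e * y * v) = n * m :=
            h.m_or_nm_of_m_dvd (hmd.trans (cls_dvd (heq ▸ inf_le_left)))
          obtain ⟨R, hR, hRq, hRc⟩ := exists_full_pgroup q (e * y * v)
          rw [htq _ hz] at hRc
          rw [heq] at hR
          have hRe : ∀ g' ∈ R, Commute g' e := by
            intro g' hg'
            have h1 : Commute (e * y) g' := commute_of_mem_cent (hR hg').1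
            have hM' : g' * e * g'⁻¹ * e⁻¹ ∈ M :=
              mul_mem ((normalClosure_normal : M.Normal).conj_mem e heM g') (inv_mem heM)
            have hN' : g' * e * g'⁻¹ * e⁻¹ ∈ N := by
              have h2 : g' * (e * y) * g'⁻¹ = e * y := by rw [← h1.eq, mul_inv_cancel_right]
              have hyN : y ∈ N := subset_normalClosure (Set.mem_singleton y)
              have h3 : g' * e * g'⁻¹ * e⁻¹ = e * (y * (g' * y⁻¹ * g'⁻¹)) * e⁻¹ := by
                calc g' * e * g'⁻¹ * e⁻¹ = (g' * (e * y) * g'⁻¹) * (g' * y⁻¹ * g'⁻¹) * e⁻¹ := by group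
                  _ = _ := by rw [h2]; group
              rw [h3]
              exact (normalClosure_normal : N.Normal).conj_mem _ (mul_mem hyN
                ((normalClosure_normal : N.Normal).conj_mem _ (inv_mem hyN) g')) e
            have hze : Commute (g' * e * g'⁻¹ * e⁻¹) e :=
              mem_centralizer_iff.mp (hMN heM) _ hN'
            have h4 : Commute (g' * e * g'⁻¹) e⁻¹ := by
              have := (hze.mul_left (Commute.refl e))
              rw [inv_mul_cancel_right] at this
              exact this.inv_right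
            have hzp : PE p (g' * e * g'⁻¹ * e⁻¹) := (hep.conj g').mul hep.inv' h4
            exact commute_of_central_commutator hne (pe_of_mem hRq hg') (hI _ hM' hN' hzp) hzp
          refine ⟨R, hRq, hRc, fun g' hg' => ?_, fun g' hg' => mem_cent_of_commute (hRe g' hg').symm,
            hR.trans inf_le_right⟩
          have h1 : Commute (e * y) g' := commute_of_mem_cent (hR hg').1
          have h2 : Commute (e⁻¹ * (e * y)) g' := (hRe g' hg').symm.inv_left.mul_left h1
          rw [inv_mul_cancel_left] at h2
          exact mem_cent_of_commute h2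
      intro hdvd
      set C := centralizer ({y} : Set G) with hCdef
      set D := C ⊓ centralizer ({g} : Set G) with hD
      have hRD : R ≤ D := le_inf hRy fun a ha => by
        rw [hev]
        exact mem_cent_of_commute
          ((commute_of_mem_cent (hRe ha)).mul_left (commute_of_mem_cent (hRv ha)))
      have hrel : ¬ q ∣ D.relIndex C := by
        intro hd
        have h1 := relIndex_mul_relIndex ⊥ D C bot_le inf_le_left
        rw [relIndex_bot_left, relIndex_bot_left] at h1
        have h2 : q ^ (t + 1) ∣ Nat.card C := by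
          rw [pow_succ, ← h1]
          exact mul_dvd_mul (hRc ▸ card_dvd_of_le hRD) hd
        have := (hq.pow_dvd_iff_le_factorization Nat.card_pos.ne').mp h2
        omega
      have h3 : cls (⟨g, hgM⟩ : M) = D.relIndex M := by
        show (centralizer ({(⟨g, hgM⟩ : M)} : Set M)).index = _
        rw [hD, Subgroup.relIndex]
        congr 1
        ext w
        rw [mem_subgroupOf, mem_inf, H27.mem_cent (x := g), H27.mem_cent, Subtype.ext_iff]
        exact ⟨fun hw => ⟨hMy w.2, hw⟩, fun hw => hw.2⟩
      rw [h3] at hdvd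
      haveI : (M.subgroupOf C).Normal := H1.subgroupOf_normal M C
      have h4 := H27.relIndex_dvd_index_right (D.subgroupOf C) (M.subgroupOf C)
      rw [relIndex_subgroupOf hMy] at h4
      exact hrel (hdvd.trans h4)
    obtain ⟨S⟩ : Nonempty (Sylow q M) := inferInstance
    exact hMq (normalClosure_isPGroup_of_sylow_normal hx S (sylow_normal_of_cover hcover S).1)
  -- `p`-elements of class size `n m` centralizing `y` centralize `M`
  have hMnm : ∀ b : G, PE p b → Commute b y → cls b = n * m → M ≤ centralizer ({b} : Set G) := by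
    intro b hb hby hbnm
    obtain ⟨A, hA, hAq, hAc⟩ := exists_full_pgroup q b
    rw [htq b (Or.inr hbnm)] at hAc
    have hAy : A ≤ centralizer ({y} : Set G) := fun a ha =>
      mem_cent_of_commute (commute_of_mem_cent (h.cent_le_cent_of_nm hbnm (commute_of_mem_cent (hA ha))
        (PE.coprime hne hb (pe_of_mem hAq ha)) (mem_cent_of_commute hby))).symm
    exact (le_of_full hMq hMy hAy hAq hAc).trans hA
  -- a `p`-element of class size `m` not centralizing `x`
  obtain ⟨b, hb, hby, hbm, hbx⟩ : ∃ b : G, PE p b ∧ Commute b y ∧ cls b = m ∧ ¬ Commute b x := by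
    obtain ⟨P, hP⟩ := H27.exists_sylow_le_of_not_dvd_index (p := p)
      (H := centralizer ({y} : Set G)) (hym ▸ hpm : ¬ p ∣ cls y)
    obtain ⟨b, hbP, hbx⟩ : ∃ b ∈ (P : Subgroup G), ¬ Commute b x := by
      by_contra hcon
      push Not at hcon
      have : ¬ p ∣ cls x := H27.not_dvd_index_iff.mpr
        ⟨P, fun b hb => mem_cent_of_commute (hcon b hb).symm⟩
      exact this (hxn ▸ hpn)
    have hbp : PE p b := pe_of_mem P.isPGroup' hbP
    have hby : Commute b y := (commute_of_mem_cent (hP hbP)).symm
    refine ⟨b, hbp, hby, ?_, hbx⟩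
    rcases h.mem b with a | a | a | a
    · exact absurd (mem_center_iff.mp (mem_center_iff_cls.mp a) x).symm hbx
    · exact absurd hpn ((hbad p hp b hbp).1 a)
    · exact a
    · exact absurd (commute_of_mem_cent (hMnm b hbp hby a hxM)) hbx
  have hcopb : (cls x).Coprime (cls b) := by rw [hxn, hbm]; exact h.cop
  have hconj : ∀ k : G, ¬ Commute b (k * x * k⁻¹) := by
    intro k hk
    refine hbx ?_
    have h1 := commute_conj_left hk.symm (by rw [cls_conj]; exact hcopb) k⁻¹
    rw [show k⁻¹ * (k * x * k⁻¹) * k⁻¹⁻¹ = x by group] at h1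
    exact h1.symm
  -- a noncentral `q`-element centralizing `b`
  obtain ⟨r, hrq, hbr, hrc⟩ : ∃ r : G, PE q r ∧ Commute b r ∧ r ∉ center G := by
    obtain ⟨A, hA, hAq, hAc⟩ := exists_full_pgroup q b
    rw [htq b (Or.inl hbm)] at hAc
    by_contra hcon
    push Not at hcon
    have hAz : A ≤ center G := fun a ha => hcon a (pe_of_mem hAq ha) (commute_of_mem_cent (hA ha))
    exact hxc (hAz ((le_of_full hMq hMy (hAz.trans (center_le_centralizer _)) hAq hAc) hxM))
  obtain ⟨Q, hQ⟩ := (pe_iff_isPGroup.mp hrq).exists_le_sylow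
  obtain ⟨k, hk⟩ : ∃ k : G, ∀ w ∈ (Q : Subgroup G), Commute (k * x * k⁻¹) w := by
    obtain ⟨Q₀, hQ₀⟩ := H27.exists_sylow_le_of_not_dvd_index (p := q)
      (H := centralizer ({x} : Set G)) (hxn ▸ hqn : ¬ q ∣ cls x)
    obtain ⟨k, rfl⟩ := MulAction.exists_smul_eq G Q₀ Q
    refine ⟨k, ?_⟩
    rintro _ ⟨w, hw, rfl⟩
    exact (commute_of_mem_cent (hQ₀ hw)).map (MulAut.conj k).toMonoidHom
  set x' := k * x * k⁻¹ with hx'
  have hx'M : x' ∈ M := (normalClosure_normal : M.Normal).conj_mem x hxM k
  have hx'r : Commute x' r := hk r (hQ (mem_zpowers r))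
  have hrn : cls r = n := by
    rcases h.mem r with a | a | a | a
    · exact absurd (mem_center_iff_cls.mp a) hrc
    · exact a
    · exact absurd hqm ((hbad q hq r hrq).2 a)
    · exact absurd (commute_of_mem_cent (h.cent_le_cent_of_nm a hbr.symm
        (PE.coprime hne.symm hrq hb) (mem_cent_of_commute hx'r.symm))) (hconj k)
  set W := normalClosure ({r} : Set G) with hW
  have hWb : W ≤ centralizer ({b} : Set G) :=
    normalClosure_le_cent hbr.symm (by rw [hrn, hbm]; exact h.cop)
  have hWM : ∀ e ∈ W, e ∈ M → e ∈ center G := by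
    intro e heW heM
    by_contra hec
    have heq : PE q e := pe_of_mem hMq heM
    rcases h.mem e with a | a | a | a
    · exact hec (mem_center_iff_cls.mp a)
    · have hle := hmin _ (hfamn e q hq heq a (commute_of_mem_cent (hMy heM)).symm)
        (normalClosure_le_normal (Set.singleton_subset_iff.mpr heM))
      exact hbx (commute_of_mem_cent (hWb ((normalClosure_le_normal
        (Set.singleton_subset_iff.mpr heW)) (hle hxM))))
    · exact (hbad q hq e heq).2 a hqm
    · obtain ⟨A, hA, hAq, hAc⟩ := exists_full_pgroup q e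
      rw [htq e (Or.inr a)] at hAc
      have hy' := h.cent_le_cent_of_nm a (commute_of_mem_cent (hMy heM)).symm
        (PE.coprime hne.symm heq hy)
      have hb' := h.cent_le_cent_of_nm a (commute_of_mem_cent (hWb heW)).symm
        (PE.coprime hne.symm heq hb)
      exact hbx (commute_of_mem_cent (((le_of_full hMq hMy (hA.trans hy') hAq hAc).trans
        (hA.trans hb')) hxM))
  have hx'q : PE q x' := hx.conj k
  have hxr : PE q (x' * r) := hx'q.mul hrq hx'r
  have hxrc : cls (x' * r) = n ∨ cls (x' * r) = m * n := by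
    rcases h.mem (x' * r) with a | a | a | a
    · exfalso
      have hc : Commute (x' * r) b := (mem_center_iff.mp (mem_center_iff_cls.mp a) b).symm
      have h1 : Commute (x' * r * r⁻¹) b := hc.mul_left hbr.symm.inv_left
      rw [mul_inv_cancel_right] at h1
      exact hconj k h1.symm
    · exact Or.inl a
    · exact absurd hqm ((hbad q hq _ hxr).2 a)
    · exact Or.inr (a.trans (mul_comm n m))
  obtain ⟨S, hS, hSp, hSc⟩ := exists_full_pgroup p (x' * r)
  have hsame : (Nat.card (centralizer ({x' * r} : Set G))).factorization p =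
      (Nat.card (centralizer ({r} : Set G))).factorization p := by
    have h1 := factorization_card_cent p (x' * r)
    have h2 := factorization_card_cent p r
    rw [h.symm.factorization_cls hpm hxrc] at h1
    rw [hrn] at h2
    omega
  have hScomm : ∀ c ∈ S, Commute c x' ∧ Commute c r := by
    intro c hc
    have h1 : Commute (x' * r) c := commute_of_mem_cent (hS hc)
    have hzM : c * x' * c⁻¹ * x'⁻¹ ∈ M :=
      mul_mem ((normalClosure_normal : M.Normal).conj_mem x' hx'M c) (inv_mem hx'M)
    have hzW : c * x' * c⁻¹ * x'⁻¹ ∈ W := by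
      have h2 : c * (x' * r) * c⁻¹ = x' * r := by rw [← h1.eq, mul_inv_cancel_right]
      have hrW : r ∈ W := subset_normalClosure (Set.mem_singleton r)
      have h3 : c * x' * c⁻¹ * x'⁻¹ = x' * (r * (c * r⁻¹ * c⁻¹)) * x'⁻¹ := by
        calc c * x' * c⁻¹ * x'⁻¹ = (c * (x' * r) * c⁻¹) * (c * r⁻¹ * c⁻¹) * x'⁻¹ := by group
          _ = _ := by rw [h2]; group
      rw [h3]
      exact (normalClosure_normal : W.Normal).conj_mem _ (mul_mem hrW
        ((normalClosure_normal : W.Normal).conj_mem _ (inv_mem hrW) c)) x'
    have hcx : Commute c x' := commute_of_central_commutator hne.symm (pe_of_mem hSp hc)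
      (hWM _ hzW hzM) (pe_of_mem hMq hzM)
    refine ⟨hcx, ?_⟩
    have h4 : Commute (x'⁻¹ * (x' * r)) c := hcx.symm.inv_left.mul_left h1
    rw [inv_mul_cancel_left] at h4
    exact h4.symm
  set E := centralizer ({r} : Set G) with hE
  have hSE : S ≤ E := fun c hc => mem_cent_of_commute (hScomm c hc).2.symm
  have hidx : ¬ p ∣ (S.subgroupOf E).index := by
    intro hd
    have h1 := card_mul_index (S.subgroupOf E)
    rw [Nat.card_congr (subgroupOfEquivOfLe hSE).toEquiv, hSc, hsame] at h1
    have h2 : p ^ ((Nat.card E).factorization p + 1) ∣ Nat.card E := by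
      rw [pow_succ]
      exact (mul_dvd_mul_left _ hd).trans (dvd_of_eq h1)
    have := (hp.pow_dvd_iff_le_factorization Nat.card_pos.ne').mp h2
    omega
  obtain ⟨T, hT⟩ := ((pe_iff_isPGroup.mp hb).comap_subtype (K := E)).exists_le_sylow
  have hS' : IsPGroup p (S.subgroupOf E) := hSp.comap_subtype
  obtain ⟨l, hl⟩ := MulAction.exists_smul_eq E (hS'.toSylow hidx) T
  have hbE : b ∈ E := mem_cent_of_commute hbr.symm
  have hb1 : (⟨b, hbE⟩ : E) ∈ ((l • hS'.toSylow hidx : Sylow p E) : Subgroup E) :=
    hl ▸ hT (show ((⟨b, hbE⟩ : E) : G) ∈ zpowers b from mem_zpowers b)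
  obtain ⟨c, hc, hcb⟩ := hb1
  have hcb' : (l : G) * c * (l : G)⁻¹ = b := congrArg Subtype.val hcb
  have hcS : (c : G) ∈ S := mem_subgroupOf.mp hc
  have hcls : cls (c : G) = m := by rw [← hbm, ← hcb', cls_conj]
  have h1 : Commute ((l : G) * c * (l : G)⁻¹) x' := commute_conj_left (hScomm _ hcS).1
    (by rw [hcls, hx', cls_conj, hxn]; exact h.cop.symm) l
  rw [hcb'] at h1
  exact hconj k h1

/-- The bad case does not occur. -/
theorem not_bad (h : FourSizes G n m) : ¬ Bad G n m := by
  intro hbad
  classical
  obtain ⟨g, hg⟩ := h.exn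
  obtain ⟨q, hq, x, -, hx, hxn⟩ := h.exists_primePow_n hg
  obtain ⟨g', hg'⟩ := h.exm
  obtain ⟨p, hp, y, -, hy, hym⟩ := h.symm.exists_primePow_n hg'
  haveI := Fact.mk hp
  haveI := Fact.mk hq
  -- some pair commutes
  have hpair : ∃ K, Fam n m K (G := G) := by
    obtain ⟨w, hw⟩ := h.exnm
    have hqp : q ≠ p := by
      intro e
      subst e
      rcases h.dvd_of_noncentral hx (h.not_center_of_n hxn) with a | a
      · exact (hbad q hq x hx).1 hxn a
      · exact (hbad q hq y hy).2 hym a
    set I := centralizer ({x} : Set G) ⊓ centralizer ({y} : Set G) with hI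
    obtain ⟨z, hzI, hzc⟩ : ∃ z ∈ I, z ∉ center G := by
      by_contra hcon
      push Not at hcon
      have hwc : w ∉ center G := fun hc => by
        rw [mem_center_iff_cls.mpr hc] at hw
        have : 1 < n * m := one_lt_mul h.one_lt_n.le h.one_lt_m
        omega
      have hlt : center G < centralizer ({w} : Set G) :=
        lt_of_le_of_ne (center_le_centralizer _) fun e =>
          hwc (e ▸ mem_cent_of_commute (Commute.refl w))
      have h1 : Nat.card I ≤ Nat.card (center G) := Nat.le_of_dvd Nat.card_pos (card_dvd_of_le hcon)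
      have h2 : Nat.card (center G) < Nat.card (centralizer ({w} : Set G)) := by
        refine lt_of_le_of_ne (Nat.le_of_dvd Nat.card_pos (card_dvd_of_le hlt.le)) fun e => ?_
        exact hlt.ne (eq_of_le_of_card_ge hlt.le e.ge)
      have h3 : I.index ≤ n * m := by
        have := Subgroup.index_inf_le (H := centralizer ({x} : Set G)) (K := centralizer ({y} : Set G))
        calc I.index ≤ cls x * cls y := this
          _ = n * m := by rw [hxn, hym]
      have h4 := card_mul_index I
      have h5 := card_mul_index (centralizer ({w} : Set G))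
      rw [show (centralizer ({w} : Set G)).index = n * m from hw] at h5
      have h6 : Nat.card I * I.index < Nat.card (centralizer ({w} : Set G)) * (n * m) :=
        Nat.mul_lt_mul_of_lt_of_le (h1.trans_lt h2) h3 (Nat.mul_pos (by have := h.one_lt_n; omega)
          (by have := h.one_lt_m; omega))
      omega
    obtain ⟨r, hr, e, he, her, hec⟩ := exists_part z hzc
    haveI := Fact.mk hr
    have heI : e ∈ I := zpowers_le.mpr hzI he
    have hxe : Commute x e := commute_of_mem_cent heI.1
    have hye : Commute y e := commute_of_mem_cent heI.2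
    rcases h.mem e with a | a | a | a
    · exact absurd (mem_center_iff_cls.mp a) hec
    · exact ⟨_, p, r, e, y, hp, hr, her, hy, a, hym, hye.symm, Or.inl rfl⟩
    · exact ⟨_, r, q, x, e, hr, hq, hx, her, hxn, a, hxe, Or.inr rfl⟩
    · refine ⟨_, p, q, x, y, hp, hq, hx, hy, hxn, hym, ?_, Or.inl rfl⟩
      rcases ne_or_eq r q with hne | rfl
      · exact commute_of_mem_cent (h.cent_le_cent_of_nm a hxe.symm (PE.coprime hne her hx)
          (mem_cent_of_commute hye.symm))
      · exact (commute_of_mem_cent (h.cent_le_cent_of_nm a hye.symm (PE.coprime hqp her hy)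
          (mem_cent_of_commute hxe.symm))).symm
  obtain ⟨K₀, hK₀⟩ := hpair
  obtain ⟨K, hK⟩ := (Set.toFinite {K : Subgroup G | Fam n m K}).exists_minimal ⟨K₀, hK₀⟩
  obtain ⟨p', q', x', y', hp', hq', hx', hy', hxn', hym', hc', hK'⟩ := hK.prop
  haveI := Fact.mk hp'
  haveI := Fact.mk hq'
  rcases hK' with rfl | rfl
  · exact bad_false h hbad hx' hy' hxn' hym' hc' fun L hL hle => hK.2 hL hle
  · exact bad_false h.symm hbad.symm hy' hx' hym' hxn' hc'.symm fun L hL hle => hK.2 hL.symm hle

end H33.FS
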