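import Cfsg.Agent.H27.ClassBasic
import Cfsg.Agent.H27.ConjUnion
import Cfsg.Agent.H1.Wielandt
import Cfsg.Agent.H5.Frobenius
import Cfsg.Agent.H1.Cores

/-!
Class sizes `1, n, m, n m` with `n, m` coprime: basic facts.
-/

set_option autoImplicit false
set_option linter.style.haveILetI false
set_option linter.unusedSectionVars false

namespace H33.FS

open Subgroup

variable {G : Type*} [Group G]

/-- The class size of `g`, as the index of its centralizer. -/
noncomputable abbrev cls (g : G) : ℕ := (centralizer ({g} : Set G)).index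

/-- `g` has `p`-power order. -/
def PE (p : ℕ) (g : G) : Prop := ∃ k : ℕ, orderOf g = p ^ k

/-- The class sizes are exactly `1, n, m, n m`. -/
structure FourSizes (G : Type*) [Group G] (n m : ℕ) : Prop where
  one_lt_n : 1 < n
  one_lt_m : 1 < m
  cop : n.Coprime m
  mem : ∀ g : G, cls g = 1 ∨ cls g = n ∨ cls g = m ∨ cls g = n * m
  exn : ∃ g : G, cls g = n
  exm : ∃ g : G, cls g = m
  exnm : ∃ g : G, cls g = n * m

variable {n m : ℕ}

theorem FourSizes.symm (h : FourSizes G n m) : FourSizes G m n :=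
  ⟨h.one_lt_m, h.one_lt_n, h.cop.symm,
    fun g => by rcases h.mem g with a | a | a | a <;> simp [a, mul_comm],
    h.exm, h.exn, by rw [mul_comm]; exact h.exnm⟩

theorem mem_center_iff_cls {g : G} : cls g = 1 ↔ g ∈ center G := H27.index_cent_eq_one_iff

theorem mem_cent_of_commute {x y : G} (h : Commute x y) : y ∈ centralizer ({x} : Set G) :=
  H27.mem_cent_comm.mpr h

theorem commute_of_mem_cent {x y : G} (h : y ∈ centralizer ({x} : Set G)) : Commute x y :=
  H27.mem_cent_comm.mp h

theorem cls_conj (g x : G) : cls (g * x * g⁻¹) = cls x := H27.index_cent_conj g x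

theorem PE.conj {p : ℕ} {x : G} (h : PE p x) (g : G) : PE p (g * x * g⁻¹) := by
  obtain ⟨k, hk⟩ := h
  exact ⟨k, by rw [← hk]; exact orderOf_injective (MulAut.conj g).toMonoidHom (MulAut.conj g).injective x⟩

theorem PE.coprime {p q : ℕ} [hp : Fact p.Prime] [hq : Fact q.Prime] (hne : p ≠ q) {x y : G}
    (hx : PE p x) (hy : PE q y) : (orderOf x).Coprime (orderOf y) := by
  obtain ⟨i, hi⟩ := hx
  obtain ⟨j, hj⟩ := hy
  rw [hi, hj]
  exact ((Nat.coprime_primes hp.out hq.out).mpr hne).pow i j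

theorem PE.coprime_prime {p q : ℕ} [hp : Fact p.Prime] [hq : Fact q.Prime] (hne : p ≠ q) {x : G}
    (hx : PE p x) : (orderOf x).Coprime q := by
  obtain ⟨i, hi⟩ := hx
  rw [hi]
  exact ((Nat.coprime_primes hp.out hq.out).mpr hne).pow_left i

theorem pe_iff_isPGroup {p : ℕ} [Fact p.Prime] {x : G} :
    PE p x ↔ IsPGroup p (zpowers x) := by
  constructor
  · rintro ⟨k, hk⟩
    exact IsPGroup.of_card (by rw [Nat.card_zpowers, hk])
  · intro h
    obtain ⟨k, hk⟩ := IsPGroup.iff_orderOf.mp h ⟨x, mem_zpowers x⟩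
    exact ⟨k, by rw [← hk, orderOf_mk]⟩

theorem pe_of_mem {p : ℕ} [Fact p.Prime] {P : Subgroup G} (hP : IsPGroup p P) {x : G} (hx : x ∈ P) :
    PE p x := pe_iff_isPGroup.mpr (hP.to_le (zpowers_le.mpr hx))

theorem PE.mul {p : ℕ} [hp : Fact p.Prime] {x y : G} (hx : PE p x) (hy : PE p y) (h : Commute x y) :
    PE p (x * y) := by
  obtain ⟨i, hi⟩ := hx
  obtain ⟨j, hj⟩ := hy
  have h1 : (x * y) ^ p ^ (i + j) = 1 := by
    rw [h.mul_pow, pow_add, pow_mul, ← hi, pow_orderOf_eq_one, one_pow, one_mul, mul_comm, pow_mul,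
      ← hj, pow_orderOf_eq_one, one_pow]
  obtain ⟨k, -, hk⟩ := (Nat.dvd_prime_pow hp.out).mp (orderOf_dvd_of_pow_eq_one h1)
  exact ⟨k, hk⟩

theorem cent_mul_eq {x y : G} (hxy : Commute x y) (h : (orderOf x).Coprime (orderOf y)) :
    centralizer ({x * y} : Set G) = centralizer ({x} : Set G) ⊓ centralizer ({y} : Set G) := by
  refine le_antisymm (le_inf (H27.cent_mul_le_left hxy h) (H27.cent_mul_le_right hxy h)) ?_
  rintro z ⟨h1, h2⟩
  exact mem_cent_of_commute ((commute_of_mem_cent h1).mul_left (commute_of_mem_cent h2))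

section Finite

variable [Finite G]

theorem cls_dvd {a b : G} (h : centralizer ({b} : Set G) ≤ centralizer ({a} : Set G)) :
    cls a ∣ cls b := index_dvd_of_le h

theorem cls_pos (g : G) : 0 < cls g := H27.cent_pos g

/-- A non-central element has a non-central prime power part. -/
theorem exists_part (g : G) (hg : g ∉ center G) :
    ∃ r : ℕ, r.Prime ∧ ∃ e ∈ zpowers g, PE r e ∧ e ∉ center G := by
  suffices H : ∀ N : ℕ, ∀ g : G, orderOf g = N → g ∉ center G →
      ∃ r : ℕ, r.Prime ∧ ∃ e ∈ zpowers g, PE r e ∧ e ∉ center G from H _ g rfl hg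
  intro N
  induction N using Nat.strong_induction_on with
  | _ N ih =>
  intro g hN hg
  have h1 : orderOf g ≠ 1 := fun h => hg (by rw [orderOf_eq_one_iff.mp h]; exact one_mem _)
  obtain ⟨r, hr, hrd⟩ := Nat.exists_prime_and_dvd h1
  haveI := Fact.mk hr
  obtain ⟨u, v, huv, ⟨k, hu⟩, hv, hu', hv'⟩ := H5.exists_p_decomposition (p := r) g
  by_cases huc : u ∈ center G
  · have hvc : v ∉ center G := fun h => hg (huv ▸ mul_mem huc h)
    obtain ⟨j, hj⟩ := mem_zpowers_iff.mp hv'
    have hdvd : orderOf v ∣ orderOf g := orderOf_dvd_of_pow_eq_one (by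
      rw [← hj, ← zpow_natCast, ← zpow_mul, mul_comm, zpow_mul, zpow_natCast, pow_orderOf_eq_one,
        one_zpow])
    have hlt : orderOf v < N := by
      rw [← hN]
      refine lt_of_le_of_ne (Nat.le_of_dvd (orderOf_pos g) hdvd) fun e => ?_
      exact hr.coprime_iff_not_dvd.mp hv.symm (e ▸ hrd)
    obtain ⟨s, hs, e, he, hes, hec⟩ := ih _ hlt v rfl hvc
    exact ⟨s, hs, e, (zpowers_le.mpr hv') he, hes, hec⟩
  · obtain ⟨j, -, hj⟩ := (Nat.dvd_prime_pow hr).mp (orderOf_dvd_of_pow_eq_one hu)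
    exact ⟨r, hr, u, hu', ⟨j, hj⟩, huc⟩

namespace FourSizes

variable (h : FourSizes G n m)

theorem eq_one_or_n_of_dvd {g : G} (hd : cls g ∣ n) (h : FourSizes G n m) :
    cls g = 1 ∨ cls g = n := by
  rcases h.mem g with a | a | a | a
  · exact Or.inl a
  · exact Or.inr a
  · exact absurd (Nat.eq_one_of_dvd_coprimes h.cop (a ▸ hd) dvd_rfl) h.one_lt_m.ne'
  · exact absurd (Nat.eq_one_of_dvd_coprimes h.cop ((Dvd.intro_left n rfl).trans (a ▸ hd)) dvd_rfl)
      h.one_lt_m.ne'

include h

theorem m_or_nm_of_dvd {r : ℕ} (hr : r.Prime) (hrn : ¬ r ∣ n) {g : G} (hd : r ∣ cls g) :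
    cls g = m ∨ cls g = n * m := by
  rcases h.mem g with a | a | a | a
  · exact absurd (a ▸ hd) hr.not_dvd_one
  · exact absurd (a ▸ hd) hrn
  · exact Or.inl a
  · exact Or.inr a

theorem dvd_nm (g : G) : cls g ∣ n * m := by
  rcases h.mem g with a | a | a | a <;> rw [a]
  exacts [one_dvd _, dvd_mul_right n m, dvd_mul_left m n]

theorem not_center_of_n {x : G} (hx : cls x = n) : x ∉ center G := fun hc => by
  rw [mem_center_iff_cls.mpr hc] at hx
  exact h.one_lt_n.ne hx

theorem not_center_of_m {x : G} (hx : cls x = m) : x ∉ center G := fun hc => by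
  rw [mem_center_iff_cls.mpr hc] at hx
  exact h.one_lt_m.ne hx

theorem exists_primePow_n {g : G} (hg : cls g = n) :
    ∃ r : ℕ, r.Prime ∧ ∃ e ∈ zpowers g, PE r e ∧ cls e = n := by
  obtain ⟨r, hr, e, he, her, hec⟩ := exists_part g (h.not_center_of_n hg)
  have hd : cls e ∣ n := hg ▸ cls_dvd (H27.cent_le_cent_of_mem_zpowers he)
  exact ⟨r, hr, e, he, her, (eq_one_or_n_of_dvd hd h).resolve_left fun e1 => hec (mem_center_iff_cls.mp e1)⟩

/-- Primes dividing neither `n` nor `m` are central. -/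
theorem mem_center_of_prime {r : ℕ} [hr : Fact r.Prime] (hrn : ¬ r ∣ n) (hrm : ¬ r ∣ m) {e : G}
    (he : PE r e) : e ∈ center G := by
  obtain ⟨R, hR⟩ := (pe_iff_isPGroup.mp he).exists_le_sylow
  have htop : centralizer ((R : Subgroup G) : Set G) = ⊤ := by
    refine H27.eq_top_of_forall_conj_mem _ fun g => ?_
    have hnd : ¬ r ∣ cls g := fun hd => (hr.out.dvd_mul.mp (hd.trans (h.dvd_nm g))).elim hrn hrm
    obtain ⟨R', hR'⟩ := H27.not_dvd_index_cent_iff.mp hnd
    obtain ⟨x, rfl⟩ := MulAction.exists_smul_eq G R R'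
    refine ⟨x, mem_centralizer_iff.mpr fun y hy => ?_⟩
    have h2 := mem_centralizer_iff.mp hR' (x * y * x⁻¹) ⟨y, hy, rfl⟩
    calc y * (x⁻¹ * g * x) = x⁻¹ * ((x * y * x⁻¹) * g) * x := by group
      _ = x⁻¹ * (g * (x * y * x⁻¹)) * x := by rw [h2]
      _ = x⁻¹ * g * x * y := by group
  rw [mem_center_iff]
  intro g
  exact (mem_centralizer_iff.mp (htop ▸ mem_top g) e (hR (mem_zpowers e))).symm

theorem dvd_of_noncentral {r : ℕ} [Fact r.Prime] {e : G} (he : PE r e) (hec : e ∉ center G) :
    r ∣ n ∨ r ∣ m := by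
  by_contra hcon
  push Not at hcon
  exact hec (h.mem_center_of_prime hcon.1 hcon.2 he)

end FourSizes

/-- Commuting elements with coprime class sizes: all their conjugates commute. -/
theorem commute_conj {a b : G} (hab : Commute a b) (hc : (cls a).Coprime (cls b)) (g k : G) :
    Commute (g * a * g⁻¹) (k * b * k⁻¹) := by
  obtain ⟨u, hu, v, hv, huv⟩ := H1.exists_mul_eq_of_coprime_index (centralizer ({a} : Set G))
    (centralizer ({b} : Set G)) hc (g⁻¹ * k)
  have h1 : u * a * u⁻¹ = a := by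
    rw [← (commute_of_mem_cent hu).eq, mul_inv_cancel_right]
  have h2 : v * b * v⁻¹ = b := by
    rw [← (commute_of_mem_cent hv).eq, mul_inv_cancel_right]
  have hg : g⁻¹ * k * b * (g⁻¹ * k)⁻¹ = u * b * u⁻¹ := by
    rw [huv]
    calc u * v * b * (u * v)⁻¹ = u * (v * b * v⁻¹) * u⁻¹ := by group
      _ = u * b * u⁻¹ := by rw [h2]
  have h3 : Commute a (g⁻¹ * k * b * (g⁻¹ * k)⁻¹) := by
    rw [hg]
    have h4 : Commute (u * a * u⁻¹) (u * b * u⁻¹) :=
      hab.map (MulAut.conj u).toMonoidHom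
    rwa [h1] at h4
  have h5 : Commute (g * a * g⁻¹) (g * (g⁻¹ * k * b * (g⁻¹ * k)⁻¹) * g⁻¹) :=
    h3.map (MulAut.conj g).toMonoidHom
  convert h5 using 1
  group

theorem commute_conj_left {a b : G} (hab : Commute a b) (hc : (cls a).Coprime (cls b)) (g : G) :
    Commute (g * a * g⁻¹) b := by
  simpa using commute_conj hab hc g 1

theorem normalClosure_le_cent {a b : G} (hab : Commute a b) (hc : (cls a).Coprime (cls b)) :
    normalClosure ({a} : Set G) ≤ centralizer ({b} : Set G) := by
  refine (closure_le _).mpr fun y hy => ?_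
  simp only [Group.mem_conjugatesOfSet_iff, Set.mem_singleton_iff, exists_eq_left] at hy
  obtain ⟨g, rfl⟩ := isConj_iff.mp hy
  exact mem_cent_of_commute (commute_conj_left hab hc g).symm

theorem normalClosure_commute {a b : G} (hab : Commute a b) (hc : (cls a).Coprime (cls b)) :
    normalClosure ({a} : Set G) ≤ centralizer (normalClosure ({b} : Set G) : Set G) := by
  refine (closure_le _).mpr fun y hy => ?_
  simp only [Group.mem_conjugatesOfSet_iff, Set.mem_singleton_iff, exists_eq_left] at hy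
  obtain ⟨g, rfl⟩ := isConj_iff.mp hy
  have hle : normalClosure ({b} : Set G) ≤ centralizer ({g * a * g⁻¹} : Set G) := by
    refine (closure_le _).mpr fun z hz => ?_
    simp only [Group.mem_conjugatesOfSet_iff, Set.mem_singleton_iff, exists_eq_left] at hz
    obtain ⟨k, rfl⟩ := isConj_iff.mp hz
    exact mem_cent_of_commute (commute_conj hab hc g k)
  exact mem_centralizer_iff.mpr fun z hz => (commute_of_mem_cent (hle hz)).symm.eq

/-- Elements of class size `n m` have `p'`-part of the centralizer central in it. -/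
theorem FourSizes.cent_le_cent_of_nm (h : FourSizes G n m) {b z : G} (hb : cls b = n * m)
    (hbz : Commute b z) (hcop : (orderOf b).Coprime (orderOf z)) :
    centralizer ({b} : Set G) ≤ centralizer ({z} : Set G) := by
  have heq := cent_mul_eq hbz hcop
  have hd : cls (b * z) ∣ cls b := hb ▸ h.dvd_nm (b * z)
  have hle : centralizer ({b * z} : Set G) ≤ centralizer ({b} : Set G) := heq ▸ inf_le_left
  have hcard : cls (b * z) = cls b := Nat.dvd_antisymm hd (cls_dvd hle)
  have h1 : centralizer ({b * z} : Set G) = centralizer ({b} : Set G) := by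
    refine eq_of_le_of_card_ge hle (le_of_eq ?_)
    refine Nat.eq_of_mul_eq_mul_right (H27.cent_pos b) ?_
    calc Nat.card (centralizer ({b} : Set G)) * cls b = Nat.card G := card_mul_index _
      _ = Nat.card (centralizer ({b * z} : Set G)) * cls (b * z) := (card_mul_index _).symm
      _ = _ := by rw [hcard]
  exact h1 ▸ (heq ▸ inf_le_right)

/-- The `q`-part of a centralizer. -/
theorem factorization_card_cent (q : ℕ) (g : G) :
    (Nat.card (centralizer ({g} : Set G))).factorization q + (cls g).factorization q =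
      (Nat.card G).factorization q := by
  rw [← card_mul_index (centralizer ({g} : Set G)),
    Nat.factorization_mul Nat.card_pos.ne' index_ne_zero_of_finite, Finsupp.add_apply]

theorem FourSizes.factorization_cls (h : FourSizes G n m) {r : ℕ} (hrn : ¬ r ∣ n)
    {g : G} (hg : cls g = m ∨ cls g = n * m) : (cls g).factorization r = m.factorization r := by
  rcases hg with a | a <;> rw [a]
  rw [Nat.factorization_mul (by have := h.one_lt_n; omega) (by have := h.one_lt_m; omega),
    Finsupp.add_apply, Nat.factorization_eq_zero_of_not_dvd hrn, zero_add]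

theorem exists_full_pgroup (q : ℕ) [Fact q.Prime] (g : G) :
    ∃ A : Subgroup G, A ≤ centralizer ({g} : Set G) ∧ IsPGroup q A ∧
      Nat.card A = q ^ (Nat.card (centralizer ({g} : Set G))).factorization q := by
  obtain ⟨S⟩ : Nonempty (Sylow q (centralizer ({g} : Set G))) := inferInstance
  exact ⟨(S : Subgroup _).map (centralizer ({g} : Set G)).subtype, map_subtype_le _,
    S.isPGroup'.map _, by rw [card_map_of_injective (Subgroup.subtype_injective _),
      S.card_eq_multiplicity]⟩

/-- A subgroup of full `q`-order of `H` contains every normal `q`-subgroup lying in `H`. -/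
theorem le_of_full {q : ℕ} [hq : Fact q.Prime] {H A M : Subgroup G} [M.Normal] (hM : IsPGroup q M)
    (hMH : M ≤ H) (hAH : A ≤ H) (hA : IsPGroup q A)
    (hc : Nat.card A = q ^ (Nat.card H).factorization q) : M ≤ A := by
  have hsup : IsPGroup q ↥(A ⊔ M) := hA.to_sup_of_normal_right hM
  obtain ⟨k, hk⟩ := IsPGroup.iff_card.mp hsup
  have hle : k ≤ (Nat.card H).factorization q := (hq.out.pow_dvd_iff_le_factorization
    Nat.card_pos.ne').mp (hk ▸ card_dvd_of_le (sup_le hAH hMH))
  have heq : A = A ⊔ M := eq_of_le_of_card_ge le_sup_left (by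
    rw [hk, hc]; exact Nat.pow_le_pow_right hq.out.pos hle)
  exact heq ▸ le_sup_right

/-- If every `p'`-element centralizes a Sylow `p`-subgroup, the Sylow `p`-subgroup is normal and
centralized by all `p'`-elements. -/
theorem sylow_normal_of_cover {p : ℕ} [Fact p.Prime]
    (h : ∀ g : G, (orderOf g).Coprime p → ¬ p ∣ cls g) (P : Sylow p G) :
    (P : Subgroup G).Normal ∧
      ∀ v : G, (orderOf v).Coprime p → v ∈ centralizer ((P : Subgroup G) : Set G) := by
  set C := centralizer ((P : Subgroup G) : Set G) with hC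
  have hCN : C ≤ normalizer ((P : Subgroup G) : Set G) := centralizer_le_normalizer _
  have htop : (P : Subgroup G) ⊔ C = ⊤ := by
    refine H27.eq_top_of_forall_conj_mem _ fun g => ?_
    obtain ⟨u, v, huv, ⟨k, hu⟩, hv, hu', hv'⟩ := H5.exists_p_decomposition (p := p) g
    have huv' : Commute u v := by
      obtain ⟨i, rfl⟩ := mem_zpowers_iff.mp hu'
      obtain ⟨j, rfl⟩ := mem_zpowers_iff.mp hv'
      exact Commute.zpow_zpow_self g i j
    obtain ⟨R, hR⟩ := H27.not_dvd_index_cent_iff.mp (h v hv)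
    -- `u` lies in a Sylow subgroup of `C(v)`, conjugate there to `R`
    set D := centralizer ({v} : Set G) with hD
    have hRD : (R : Subgroup G) ≤ D := fun r hr =>
      mem_cent_of_commute (mem_centralizer_iff.mp hR r hr).symm
    obtain ⟨j, -, hj⟩ := (Nat.dvd_prime_pow (Fact.out : p.Prime)).mp (orderOf_dvd_of_pow_eq_one hu)
    have huD : u ∈ D := mem_cent_of_commute huv'.symm
    obtain ⟨T, hT⟩ := ((pe_iff_isPGroup.mp (⟨j, hj⟩ : PE p u)).comap_subtype (K := D)).exists_le_sylow
    set R' : Sylow p D := R.subtype hRD with hR'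
    obtain ⟨k', hk'⟩ := MulAction.exists_smul_eq D R' T
    have hu'' : (k' : G)⁻¹ * u * k' ∈ (R : Subgroup G) := by
      have h1 : (⟨u, huD⟩ : D) ∈ ((k' • R' : Sylow p D) : Subgroup D) :=
        hk' ▸ hT (show ((⟨u, huD⟩ : D) : G) ∈ zpowers u from mem_zpowers u)
      have h2 : k'⁻¹ * ⟨u, huD⟩ * k' ∈ (R' : Subgroup D) := by
        obtain ⟨y, hy, hyu⟩ := h1
        rw [← hyu]
        show k'⁻¹ * (k' * y * k'⁻¹) * k' ∈ (R' : Subgroup D)
        rw [show k'⁻¹ * (k' * y * k'⁻¹) * k' = y by group]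
        exact hy
      exact h2
    have hvk : (k' : G)⁻¹ * v * k' = v := by
      rw [mul_assoc, (commute_of_mem_cent k'.2).eq, inv_mul_cancel_left]
    obtain ⟨x, rfl⟩ := MulAction.exists_smul_eq G P R
    refine ⟨(k' : G) * x, ?_⟩
    have hgk : (k' : G)⁻¹ * g * k' = (k' : G)⁻¹ * u * k' * v := by
      calc (k' : G)⁻¹ * g * k' = (k' : G)⁻¹ * u * k' * ((k' : G)⁻¹ * v * k') := by rw [huv]; group
        _ = _ := by rw [hvk]
    have h1 : x⁻¹ * ((k' : G)⁻¹ * u * k') * x ∈ (P : Subgroup G) := by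
      obtain ⟨y, hy, hyu⟩ := hu''
      rw [← hyu]
      show x⁻¹ * (x * y * x⁻¹) * x ∈ (P : Subgroup G)
      rw [show x⁻¹ * (x * y * x⁻¹) * x = y by group]
      exact hy
    have h2 : x⁻¹ * v * x ∈ C := by
      refine mem_centralizer_iff.mpr fun y hy => ?_
      have h3 := mem_centralizer_iff.mp hR (x * y * x⁻¹) ⟨y, hy, rfl⟩
      calc y * (x⁻¹ * v * x) = x⁻¹ * ((x * y * x⁻¹) * v) * x := by group
        _ = x⁻¹ * (v * (x * y * x⁻¹)) * x := by rw [h3]
        _ = x⁻¹ * v * x * y := by group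
    rw [show ((k' : G) * x)⁻¹ * g * ((k' : G) * x) =
      (x⁻¹ * ((k' : G)⁻¹ * u * k') * x) * (x⁻¹ * v * x) from by
        calc ((k' : G) * x)⁻¹ * g * ((k' : G) * x) = x⁻¹ * ((k' : G)⁻¹ * g * k') * x := by group
          _ = _ := by rw [hgk]; group]
    exact mul_mem_sup h1 h2
  have hn : (P : Subgroup G).Normal :=
    normalizer_eq_top_iff.mp (top_le_iff.mp (htop.ge.trans (sup_le le_normalizer hCN)))
  refine ⟨hn, fun v hv => ?_⟩
  obtain ⟨R, hR⟩ := H27.not_dvd_index_cent_iff.mp (h v hv)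
  haveI := Sylow.unique_of_normal P hn
  rwa [Subsingleton.elim R P] at hR

end Finite

end H33.FS
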