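import Cfsg.Agent.H36.Subnormalizer
import Cfsg.Agent.H84.Invariant
import Cfsg.Agent.H10.PSolvable

/-!
`p`-subgroups over a `p`-subgroup of a quotient: counting lifts, Sylow subgroups, subnormalizers.
-/

set_option autoImplicit false
set_option linter.style.haveILetI false
set_option linter.unusedSectionVars false

namespace H33

open Subgroup

variable {G K : Type*} [Group G] [Group K] [Finite G] {p : ℕ} [Fact p.Prime]

/-- The `p`-subgroups containing `H` with the same image as `R`. -/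
abbrev Lifts (p : ℕ) (f : G →* K) (H R : Subgroup G) : Type _ :=
  {R' : Subgroup G // IsPGroup p R' ∧ H ≤ R' ∧ R'.map f = R.map f}

theorem eq_one_of_pgroup_ker {f : G →* K} (hN : ¬ p ∣ Nat.card f.ker) {R : Subgroup G}
    (hR : IsPGroup p R) {x : G} (hx : x ∈ R) (hfx : x ∈ f.ker) : x = 1 := by
  obtain ⟨k, hk⟩ := IsPGroup.iff_card.mp hR
  have hc : (Nat.card R).Coprime (Nat.card f.ker) := by
    rw [hk]
    exact ((Fact.out : p.Prime).coprime_iff_not_dvd.mpr hN).pow_left k
  exact Subgroup.disjoint_def.mp (disjoint_of_coprime_natCard hc) hx hfx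

theorem card_map_of_pgroup {f : G →* K} (hN : ¬ p ∣ Nat.card f.ker) {R : Subgroup G}
    (hR : IsPGroup p R) : Nat.card (R.map f) = Nat.card R := by
  refine (Nat.card_congr (Equiv.ofBijective (fun x : R => (⟨f x, mem_map_of_mem f x.2⟩ : R.map f))
    ⟨fun a b h => ?_, ?_⟩)).symm
  · have h' : f a = f b := congrArg Subtype.val h
    refine Subtype.ext (inv_mul_eq_one.mp (eq_one_of_pgroup_ker hN hR
      (mul_mem (inv_mem a.2) b.2) ?_))
    rw [MonoidHom.mem_ker, map_mul, map_inv, h', inv_mul_cancel]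
  · rintro ⟨_, x, hx, rfl⟩
    exact ⟨⟨x, hx⟩, rfl⟩

theorem card_comap_eq (f : G →* K) (A : Subgroup K) (hA : A ≤ f.range) :
    Nat.card (A.comap f) = Nat.card f.ker * Nat.card A := by
  let g : A.comap f →* A := (f.comp (A.comap f).subtype).codRestrict A fun x => x.2
  have hs : Function.Surjective g := by
    rintro ⟨a, ha⟩
    obtain ⟨x, rfl⟩ := hA ha
    exact ⟨⟨x, ha⟩, rfl⟩
  have hk : Nat.card g.ker = Nat.card f.ker := Nat.card_congr
    { toFun := fun x => ⟨(x : A.comap f), congrArg Subtype.val x.2⟩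
      invFun := fun x => ⟨⟨x, by rw [mem_comap, MonoidHom.mem_ker.mp x.2]; exact one_mem A⟩,
        Subtype.ext x.2⟩
      left_inv := fun x => rfl
      right_inv := fun x => rfl }
  rw [← card_mul_index g.ker, index_ker, MonoidHom.range_eq_top.mpr hs, card_top, hk]

theorem mem_normalizer_inf {M : Type*} [Group M] {A B : Subgroup M} {g : M}
    (hA : g ∈ normalizer (A : Set M)) (hB : g ∈ normalizer (B : Set M)) :
    g ∈ normalizer ((A ⊓ B : Subgroup M) : Set M) := by
  rw [mem_normalizer_iff] at hA hB ⊢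
  intro y
  simp only [mem_inf]
  rw [hA y, hB y]

/-- Two lifts are conjugate by an element of the kernel centralizing `H`. -/
theorem exists_conj_lift {f : G →* K} (hN : ¬ p ∣ Nat.card f.ker) {H R : Subgroup G}
    (hR : IsPGroup p R) (hHR : H ≤ R) (R' : Lifts p f H R) :
    ∃ n ∈ f.ker ⊓ centralizer (H : Set G), H84.cmap n R = R'.1 := by
  obtain ⟨R', hR', hHR', hmap⟩ := R'
  set L := (R.map f).comap f with hL
  have hRL : R ≤ L := le_comap_map f R
  have hR'L : R' ≤ L := by rw [hL, ← hmap]; exact le_comap_map f R'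
  have hcL : Nat.card L = Nat.card f.ker * Nat.card R := by
    rw [hL, card_comap_eq f _ (map_le_range f R), card_map_of_pgroup hN hR]
  have hidx : ∀ S : Subgroup G, S ≤ L → Nat.card S = Nat.card R → ¬ p ∣ S.relIndex L := by
    intro S hS hc
    have h := relIndex_mul_relIndex ⊥ S L bot_le hS
    rw [relIndex_bot_left, relIndex_bot_left, hcL, hc, mul_comm (Nat.card f.ker)] at h
    rw [Nat.eq_of_mul_eq_mul_left Nat.card_pos h]
    exact hN
  have hcard : Nat.card R' = Nat.card R := by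
    rw [← card_map_of_pgroup hN hR', hmap, card_map_of_pgroup hN hR]
  obtain ⟨g, hgL, hg⟩ : ∃ g ∈ L, H84.cmap g R = R' := by
    have hP : IsPGroup p (R.subgroupOf L) := hR.comap_subtype
    have hP' : IsPGroup p (R'.subgroupOf L) := hR'.comap_subtype
    obtain ⟨g, hg⟩ := MulAction.exists_smul_eq L (hP.toSylow (hidx R hRL rfl))
      (hP'.toSylow (hidx R' hR'L hcard))
    refine ⟨g, g.2, eq_of_le_of_card_ge ?_ (by rw [H84.card_cmap, hcard])⟩
    rintro _ ⟨x, hx, rfl⟩
    have hmem : g * ⟨x, hRL hx⟩ * g⁻¹ ∈ ((g • hP.toSylow (hidx R hRL rfl) : Sylow p L) : Subgroup L) :=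
      smul_mem_pointwise_smul (⟨x, hRL hx⟩ : L) (MulAut.conj g) (R.subgroupOf L)
        (mem_subgroupOf.mpr hx)
    rw [hg] at hmem
    exact mem_subgroupOf.mp hmem
  obtain ⟨r, hr, hrg⟩ := mem_map.mp (mem_comap.mp hgL)
  have hn : g * r⁻¹ ∈ f.ker := by rw [MonoidHom.mem_ker, map_mul, map_inv, hrg, mul_inv_cancel]
  have hnR : H84.cmap (g * r⁻¹) R = R' := by
    rw [← H84.cmap_mul, H84.cmap_eq_self_of_mem (inv_mem hr), hg]
  refine ⟨g * r⁻¹, ⟨hn, mem_centralizer_iff.mpr fun h hh => ?_⟩, hnR⟩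
  set n := g * r⁻¹ with hnn
  have h1 : n⁻¹ * h * n ∈ R := H84.mem_cmap.mp (hnR.symm ▸ hHR' hh)
  have h2 : h⁻¹ * (n⁻¹ * h * n) = 1 := by
    refine eq_one_of_pgroup_ker hN hR (mul_mem (inv_mem (hHR hh)) h1) ?_
    rw [MonoidHom.mem_ker]
    simp [map_mul, MonoidHom.mem_ker.mp hn]
  rw [inv_mul_eq_one] at h2
  calc h * n = n * (n⁻¹ * h * n) := by group
    _ = n * h := by rw [← h2]

theorem mem_centralizer_of_ker_normalizer {f : G →* K} (hN : ¬ p ∣ Nat.card f.ker) {R : Subgroup G}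
    (hR : IsPGroup p R) {n : G} (hn : n ∈ f.ker) (hnR : n ∈ normalizer (R : Set G)) :
    n ∈ centralizer (R : Set G) := by
  rw [mem_centralizer_iff]
  intro x hx
  have h := eq_one_of_pgroup_ker hN hR (mul_mem ((mem_normalizer_iff.mp hnR x).mp hx) (inv_mem hx))
    (by rw [MonoidHom.mem_ker]; simp [MonoidHom.mem_ker.mp hn])
  rw [mul_inv_eq_one, mul_inv_eq_iff_eq_mul] at h
  exact h.symm

/-- The number of lifts. -/
theorem card_lifts {f : G →* K} (hN : ¬ p ∣ Nat.card f.ker) {H R : Subgroup G}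
    (hR : IsPGroup p R) (hHR : H ≤ R) :
    Nat.card (Lifts p f H R) * Nat.card ↥(f.ker ⊓ centralizer (R : Set G)) =
      Nat.card ↥(f.ker ⊓ centralizer (H : Set G)) := by
  rw [← Nat.card_prod]
  choose n hn hnR using exists_conj_lift hN hR hHR
  refine Nat.card_congr (Equiv.ofBijective (fun t : Lifts p f H R × ↥(f.ker ⊓ centralizer (R : Set G)) =>
    (⟨n t.1 * t.2, mul_mem (hn t.1) ((inf_le_inf_left _ (centralizer_le hHR)) t.2.2)⟩ :
      ↥(f.ker ⊓ centralizer (H : Set G)))) ⟨?_, ?_⟩)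
  · rintro ⟨a, c⟩ ⟨b, d⟩ h
    have h' : n a * c = n b * d := congrArg Subtype.val h
    have hab : a = b := by
      have h2 := congrArg (fun g => H84.cmap g R) h'
      simp only [← H84.cmap_mul, H84.cmap_eq_self_of_mem_centralizer (c.2.2 : (c : G) ∈ centralizer (R : Set G)),
        H84.cmap_eq_self_of_mem_centralizer (d.2.2 : (d : G) ∈ centralizer (R : Set G)), hnR] at h2
      exact Subtype.ext h2
    subst hab
    exact Prod.ext rfl (Subtype.ext (mul_left_cancel h'))
  · rintro ⟨m, hm⟩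
    let a : Lifts p f H R := ⟨H84.cmap m R, hR.map _, fun h hh => H84.mem_cmap.mpr ?_, ?_⟩
    · have hna : n a ∈ f.ker := (hn a).1
      have hmk : (n a)⁻¹ * m ∈ f.ker := mul_mem (inv_mem hna) hm.1
      refine ⟨(a, ⟨(n a)⁻¹ * m, hmk, mem_centralizer_of_ker_normalizer hN hR hmk
          (H84.cmap_eq_iff_mem_normalizer.mp ?_)⟩), Subtype.ext (mul_inv_cancel_left _ _)⟩
      rw [← H84.cmap_mul, show H84.cmap m R = a.1 from rfl, ← hnR a, H84.cmap_cancel]
    · rw [show m⁻¹ * h * m = h by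
        rw [mul_assoc, mem_centralizer_iff.mp hm.2 h hh, inv_mul_cancel_left]]
      exact hHR hh
    · rw [map_map]
      ext y
      simp [mem_map, MonoidHom.mem_ker.mp hm.1]

/-- Conjugation of the fixed points in the kernel. -/
theorem cmap_ker_centralizer (f : G →* K) (n : G) (R : Subgroup G) :
    H84.cmap n (f.ker ⊓ centralizer (R : Set G)) = f.ker ⊓ centralizer (H84.cmap n R : Set G) := by
  ext x
  rw [H84.mem_cmap, mem_inf, mem_inf, mem_centralizer_iff, mem_centralizer_iff]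
  constructor
  · rintro ⟨h1, h2⟩
    refine ⟨by simpa [mul_assoc] using (MonoidHom.normal_ker f).conj_mem _ h1 n, fun r hr => ?_⟩
    have h3 := h2 _ (H84.mem_cmap.mp hr)
    calc r * x = n * ((n⁻¹ * r * n) * (n⁻¹ * x * n)) * n⁻¹ := by group
      _ = n * ((n⁻¹ * x * n) * (n⁻¹ * r * n)) * n⁻¹ := by rw [h3]
      _ = x * r := by group
  · rintro ⟨h1, h2⟩
    refine ⟨by simpa using (MonoidHom.normal_ker f).conj_mem x h1 n⁻¹, fun r hr => ?_⟩
    have h3 := h2 (n * r * n⁻¹) (H84.conj_mem_cmap hr)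
    calc r * (n⁻¹ * x * n) = n⁻¹ * ((n * r * n⁻¹) * x) * n := by group
      _ = n⁻¹ * (x * (n * r * n⁻¹)) * n := by rw [h3]
      _ = n⁻¹ * x * n * r := by group

theorem card_ker_centralizer_lift {f : G →* K} (hN : ¬ p ∣ Nat.card f.ker) {H R : Subgroup G}
    (hR : IsPGroup p R) (hHR : H ≤ R) (R' : Lifts p f H R) :
    Nat.card ↥(f.ker ⊓ centralizer (R'.1 : Set G)) =
      Nat.card ↥(f.ker ⊓ centralizer (R : Set G)) := by
  obtain ⟨n, hn, hnR⟩ := exists_conj_lift hN hR hHR R'
  rw [← hnR, ← H84.card_cmap n (f.ker ⊓ centralizer (R : Set G))]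
  rw [cmap_ker_centralizer]

/-! ### Sylow subgroups -/

theorem card_map_sylow (f : G →* K) (hf : Function.Surjective f) (hN : ¬ p ∣ Nat.card f.ker)
    (P : Sylow p G) : Nat.card (P.mapSurjective hf) = Nat.card P := by
  rw [Sylow.coe_mapSurjective, card_map_of_pgroup hN P.isPGroup']

/-- The Sylow subgroups containing `H`, compared with those of the image. -/
theorem sylowCount_le (f : G →* K) (hf : Function.Surjective f) [Finite K]
    (hN : ¬ p ∣ Nat.card f.ker) (P : Sylow p G) (H : Subgroup G) :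
    Nat.card {Q : Sylow p G // H ≤ Q} * Nat.card ↥(f.ker ⊓ centralizer ((P : Subgroup G) : Set G)) ≤
      Nat.card {Q : Sylow p K // H.map f ≤ Q} * Nat.card ↥(f.ker ⊓ centralizer (H : Set G)) := by
  classical
  let π : {Q : Sylow p G // H ≤ Q} → {Q : Sylow p K // H.map f ≤ Q} :=
    fun Q => ⟨Q.1.mapSurjective hf, map_mono Q.2⟩
  haveI := Fintype.ofFinite {Q : Sylow p K // H.map f ≤ Q}
  rw [← Nat.card_congr (Equiv.sigmaFiberEquiv π), Nat.card_sigma, Finset.sum_mul,
    Nat.card_eq_fintype_card (α := {Q : Sylow p K // H.map f ≤ Q}), ← Finset.card_univ,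
    ← smul_eq_mul (Finset.univ (α := {Q : Sylow p K // H.map f ≤ Q})).card, ← Finset.sum_const]
  refine Finset.sum_le_sum fun Qb _ => ?_
  rcases isEmpty_or_nonempty {x // π x = Qb} with he | ⟨⟨Q, hQ⟩⟩
  · simp
  have hC : Nat.card ↥(f.ker ⊓ centralizer ((P : Subgroup G) : Set G)) =
      Nat.card ↥(f.ker ⊓ centralizer ((Q.1 : Subgroup G) : Set G)) := by
    obtain ⟨g, hg⟩ := MulAction.exists_smul_eq G P Q.1
    have hQg : H84.cmap g (P : Subgroup G) = (Q.1 : Subgroup G) := by
      rw [← hg]; rfl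
    rw [← H84.card_cmap g (f.ker ⊓ centralizer ((P : Subgroup G) : Set G)), ← hQg]
    rw [cmap_ker_centralizer]
  rw [hC, ← card_lifts hN Q.1.isPGroup' Q.2]
  refine Nat.mul_le_mul_right _ (Nat.card_le_card_of_injective
    (fun x => (⟨(x.1.1 : Subgroup G), x.1.1.isPGroup', x.1.2, ?_⟩ : Lifts p f H Q.1))
    fun a b h => Subtype.ext (Subtype.ext (Sylow.ext (congrArg (fun t : Lifts p f H Q.1 => t.1) h))))
  exact congrArg (fun t : {Q : Sylow p K // H.map f ≤ Q} => (t.1 : Subgroup K)) (x.2.trans hQ.symm)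

theorem sylow_eq_of_ker_le {f : G →* K} (hf : Function.Surjective f) (hN : IsPGroup p f.ker)
    {Q Q' : Sylow p G} (h : Q.mapSurjective hf = Q'.mapSurjective hf) : Q = Q' := by
  have hk : ∀ S : Sylow p G, f.ker ≤ S := fun S => hN.le_sylow_of_normal S
  refine Sylow.ext ?_
  have h' : (Q : Subgroup G).map f = (Q' : Subgroup G).map f :=
    congrArg (fun S : Sylow p K => (S : Subgroup K)) h
  rw [← comap_map_eq_self (hk Q), h', comap_map_eq_self (hk Q')]

theorem sylowCount_le_of_pKer (f : G →* K) (hf : Function.Surjective f) [Finite K]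
    (hN : IsPGroup p f.ker) (H : Subgroup G) :
    Nat.card {Q : Sylow p G // H ≤ Q} ≤ Nat.card {Q : Sylow p K // H.map f ≤ Q} :=
  Nat.card_le_card_of_injective
    (fun Q => ⟨Q.1.mapSurjective hf, map_mono Q.2⟩)
    fun _ _ h => Subtype.ext (sylow_eq_of_ker_le hf hN (congrArg Subtype.val h))

theorem card_sylow_ge (f : G →* K) (hf : Function.Surjective f) [Finite K]
    (hN : ¬ p ∣ Nat.card f.ker) (P : Sylow p G) :
    Nat.card (Sylow p K) * Nat.card f.ker ≤
      Nat.card (Sylow p G) * Nat.card ↥(f.ker ⊓ centralizer ((P : Subgroup G) : Set G)) := by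
  rw [P.card_eq_index_normalizer, (P.mapSurjective hf).card_eq_index_normalizer]
  show (normalizer (((P : Subgroup G).map f : Subgroup K) : Set K)).index * _ ≤ _
  set N := normalizer ((P : Subgroup G) : Set G) with hNdef
  have hker : Nat.card ↥(f.ker ⊓ centralizer ((P : Subgroup G) : Set G)) = Nat.card ↥(f.ker ⊓ N) :=
    congrArg (fun S : Subgroup G => Nat.card S) (le_antisymm
      (inf_le_inf_left _ (centralizer_le_normalizer _))
      fun x hx => ⟨hx.1, mem_centralizer_of_ker_normalizer hN P.isPGroup' hx.1 hx.2⟩)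
  rw [hker]
  have hmap : N.map f ≤ normalizer (((P : Subgroup G).map f : Subgroup K) : Set K) :=
    le_normalizer_map f
  have h1 : (normalizer (((P : Subgroup G).map f : Subgroup K) : Set K)).index ≤ (N.map f).index :=
    Nat.le_of_dvd (Nat.pos_of_ne_zero index_ne_zero_of_finite) (index_dvd_of_le hmap)
  refine (Nat.mul_le_mul_right _ h1).trans (le_of_eq ?_)
  rw [index_map, MonoidHom.range_eq_top.mpr hf, index_top, mul_one]
  have h2 : N.relIndex (N ⊔ f.ker) * (N ⊔ f.ker).index = N.index :=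
    relIndex_mul_index le_sup_left
  have h3 : Nat.card f.ker = N.relIndex (N ⊔ f.ker) * Nat.card ↥(f.ker ⊓ N) := by
    have a1 := relIndex_mul_relIndex ⊥ N (N ⊔ f.ker) bot_le le_sup_left
    have a2 := relIndex_mul_relIndex ⊥ f.ker (N ⊔ f.ker) bot_le le_sup_right
    have a3 := relIndex_mul_relIndex ⊥ (f.ker ⊓ N) N bot_le inf_le_right
    rw [relIndex_bot_left, relIndex_bot_left] at a1 a3
    rw [relIndex_bot_left, relIndex_bot_left, relIndex_sup_right] at a2
    rw [inf_relIndex_right] at a3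
    refine Nat.eq_of_mul_eq_mul_right
      (Nat.pos_of_ne_zero fun h : f.ker.relIndex N = 0 => by
        rw [h, mul_zero] at a3; exact Nat.card_pos.ne' a3.symm) ?_
    rw [mul_assoc, a3, a2, mul_comm, a1]
  rw [h3, show (normalizer ((P : Subgroup G) : Set G)).index = N.index from rfl] at *
  rw [show (normalizer (P : Set G)).index = N.index from rfl, ← h2]
  ring

/-! ### Subnormalizers -/

theorem InSN.map {H : Subgroup G} {g : G} (h : H36.InSN p H g) (f : G →* K) :
    H36.InSN p (H.map f) (f g) := by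
  obtain ⟨R, hR, hHR, hg⟩ := h
  exact ⟨R.map f, hR.map f, map_mono hHR, le_normalizer_map f ⟨g, hg, rfl⟩⟩

theorem inSN_iff_map_of_pKer (f : G →* K) (hf : Function.Surjective f) (hN : IsPGroup p f.ker)
    (H : Subgroup G) (g : G) : H36.InSN p H g ↔ H36.InSN p (H.map f) (f g) := by
  refine ⟨fun h => InSN.map h f, ?_⟩
  rintro ⟨R, hR, hHR, hg⟩
  refine ⟨R.comap f, hR.comap_of_ker_isPGroup f hN, map_le_iff_le_comap.mp hHR, ?_⟩
  rw [← comap_normalizer_eq_of_surjective R hf]
  exact hg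

theorem snCard_fibre (f : G →* K) (hf : Function.Surjective f) [Finite K]
    (hN : ¬ p ∣ Nat.card f.ker) {H : Subgroup G} (hH : IsPGroup p H)
    (x : {x : K // H36.InSN p (H.map f) x}) :
    Nat.card {g : {g : G // H36.InSN p H g} // f g.1 = x.1} =
      Nat.card ↥(f.ker ⊓ centralizer (H : Set G)) := by
  classical
  obtain ⟨x, hx⟩ := x
  obtain ⟨Rb, hRb⟩ := (Set.toFinite
    {R : Subgroup K | IsPGroup p R ∧ H.map f ≤ R ∧ x ∈ normalizer (R : Set K)}).exists_minimal hx
  have hleast : ∀ T : Subgroup K, IsPGroup p T → H.map f ≤ T → x ∈ normalizer (T : Set K) → Rb ≤ T := by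
    intro T hT hHT hxT
    have hinf : x ∈ normalizer ((T ⊓ Rb : Subgroup K) : Set K) := mem_normalizer_inf hxT hRb.prop.2.2
    exact (hRb.2 ⟨hT.to_inf_left, le_inf hHT hRb.prop.2.1, hinf⟩ inf_le_right).trans inf_le_left
  obtain ⟨hRbp, hHRb, hxRb⟩ := hRb.prop
  -- a lift
  set L := Rb.comap f with hL
  have hHL : H ≤ L := map_le_iff_le_comap.mp hHRb
  obtain ⟨S, hS⟩ := (hH.comap_subtype (K := L)).exists_le_sylow
  set R := (S : Subgroup L).map L.subtype with hR'
  have hRp : IsPGroup p R := S.isPGroup'.map _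
  have hHR : H ≤ R := fun h hh => ⟨⟨h, hHL hh⟩, hS hh, rfl⟩
  have hRL : R ≤ L := map_subtype_le _
  have hRmap : R.map f = Rb := by
    refine eq_of_le_of_card_ge (map_le_iff_le_comap.mpr hRL) ?_
    rw [card_map_of_pgroup hN hRp, hR', card_map_of_injective L.subtype_injective,
      S.card_eq_multiplicity, hL, card_comap_eq f Rb (fun y _ => hf y)]
    obtain ⟨k, hk⟩ := IsPGroup.iff_card.mp hRbp
    rw [hk, Nat.factorization_mul Nat.card_pos.ne' (pow_ne_zero _ (Fact.out : p.Prime).ne_zero),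
      Finsupp.add_apply, Nat.factorization_eq_zero_of_not_dvd hN, zero_add,
      (Fact.out : p.Prime).factorization_pow, Finsupp.single_eq_same]
  obtain ⟨g₀, hg₀⟩ := hf x
  have hLn : g₀ ∈ normalizer (L : Set G) := by
    rw [← hg₀] at hxRb
    rw [hL, ← comap_normalizer_eq_of_surjective Rb hf]
    exact hxRb
  -- the fibre is a disjoint union over the lifts
  let T := Σ R' : Lifts p f H R, {g : G // f g = x ∧ g ∈ normalizer (R'.1 : Set G)}
  let e : T → {g : {g : G // H36.InSN p H g} // f g.1 = x} := fun t =>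
    ⟨⟨t.2.1, t.1.1, t.1.2.1, t.1.2.2.1, t.2.2.2⟩, t.2.2.1⟩
  have he : Function.Bijective e := by
    constructor
    · rintro ⟨R₁, g₁, h₁, hn₁⟩ ⟨R₂, g₂, h₂, hn₂⟩ h
      obtain rfl : g₁ = g₂ := congrArg (fun t => t.1.1) h
      obtain rfl : R₁ = R₂ := by
        have key : ∀ A B : Lifts p f H R, g₁ ∈ normalizer (A.1 : Set G) →
            g₁ ∈ normalizer (B.1 : Set G) → A.1 ≤ B.1 := by
          intro A B hA hB
          have hgn : g₁ ∈ normalizer ((A.1 ⊓ B.1 : Subgroup G) : Set G) := mem_normalizer_inf hA hB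
          have h3 := hleast _ ((A.2.1.to_inf_left (K := B.1)).map f)
            (map_mono (le_inf A.2.2.1 B.2.2.1)) (h₁ ▸ le_normalizer_map f ⟨g₁, hgn, rfl⟩)
          have h4 : A.1 ⊓ B.1 = A.1 := eq_of_le_of_card_ge inf_le_left (by
            calc Nat.card A.1 = Nat.card Rb := (card_map_of_pgroup hN A.2.1).symm.trans
                  (congrArg (fun S : Subgroup K => Nat.card S) (A.2.2.2.trans hRmap))
              _ ≤ Nat.card ((A.1 ⊓ B.1).map f) := Nat.le_of_dvd Nat.card_pos (card_dvd_of_le h3)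
              _ = _ := card_map_of_pgroup hN (A.2.1.to_inf_left (K := B.1)))
          exact inf_eq_left.mp h4
        exact Subtype.ext (le_antisymm (key _ _ hn₁ hn₂) (key _ _ hn₂ hn₁))
      rfl
    · rintro ⟨⟨g, Q, hQ, hHQ, hgQ⟩, hgx⟩
      dsimp only at hgx
      refine ⟨⟨⟨Q ⊓ L, hQ.to_inf_left, le_inf hHQ hHL, ?_⟩, g, hgx, ?_⟩, rfl⟩
      · rw [hRmap]
        refine le_antisymm (map_le_iff_le_comap.mpr inf_le_right) fun y hy => ?_
        obtain ⟨a, ha, rfl⟩ := hleast _ (hQ.map f) (map_mono hHQ)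
          (hgx ▸ le_normalizer_map f ⟨g, hgQ, rfl⟩) hy
        exact ⟨a, ⟨ha, hy⟩, rfl⟩
      · have hgL : g ∈ normalizer (L : Set G) := by
          rw [hL, ← comap_normalizer_eq_of_surjective Rb hf]
          show f g ∈ normalizer (Rb : Set K)
          rw [hgx]
          exact hxRb
        exact mem_normalizer_inf hgQ hgL
  rw [← Nat.card_congr (Equiv.ofBijective e he)]
  haveI := Fintype.ofFinite (Lifts p f H R)
  show Nat.card (Σ R' : Lifts p f H R, {g : G // f g = x ∧ g ∈ normalizer (R'.1 : Set G)}) = _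
  rw [Nat.card_sigma, ← card_lifts hN hRp hHR]
  have hconst : ∀ R' : Lifts p f H R, Nat.card {g : G // f g = x ∧ g ∈ normalizer (R'.1 : Set G)} =
      Nat.card ↥(f.ker ⊓ centralizer (R : Set G)) := by
    intro R'
    rw [← card_ker_centralizer_lift hN hRp hHR R']
    -- an element of the coset normalizing `R'`
    let R'' : Lifts p f (⊥ : Subgroup G) R'.1 := ⟨H84.cmap g₀ R'.1, R'.2.1.map _, bot_le, by
      have hconj : f.comp (MulAut.conj g₀).toMonoidHom = (MulAut.conj x).toMonoidHom.comp f := by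
        ext y; simp [hg₀]
      show (R'.1.map _).map f = R'.1.map f
      rw [map_map, hconj, ← map_map, R'.2.2.2, hRmap, show Rb.map (MulAut.conj x).toMonoidHom = Rb from mem_normalizer_iff_map_conj_eq.mp hxRb]⟩
    obtain ⟨m, hm, hmR⟩ := exists_conj_lift hN R'.2.1 bot_le R''
    have hy : m⁻¹ * g₀ ∈ normalizer (R'.1 : Set G) := H84.cmap_eq_iff_mem_normalizer.mp (by
      rw [← H84.cmap_mul, show H84.cmap g₀ R'.1 = R''.1 from rfl, ← hmR, H84.cmap_cancel])
    have hfy : f (m⁻¹ * g₀) = x := by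
      rw [map_mul, map_inv, MonoidHom.mem_ker.mp hm.1, inv_one, one_mul, hg₀]
    exact Nat.card_congr
      { toFun := fun g => ⟨(m⁻¹ * g₀)⁻¹ * g.1,
          have hk : (m⁻¹ * g₀)⁻¹ * g.1 ∈ f.ker := by
            rw [MonoidHom.mem_ker, map_mul, map_inv, hfy, g.2.1, inv_mul_cancel]
          ⟨hk, mem_centralizer_of_ker_normalizer hN R'.2.1 hk (mul_mem (inv_mem hy) g.2.2)⟩⟩
        invFun := fun c => ⟨(m⁻¹ * g₀) * c.1,
          by rw [map_mul, hfy, MonoidHom.mem_ker.mp (show (c : G) ∈ f.ker from c.2.1), mul_one],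
          mul_mem hy (centralizer_le_normalizer _ c.2.2)⟩
        left_inv := fun g => Subtype.ext (mul_inv_cancel_left _ _)
        right_inv := fun c => Subtype.ext (inv_mul_cancel_left _ _) }
  simp [hconst, Nat.card_eq_fintype_card]

end H33
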