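import Cfsg.Agent.H33.FixProd
import Cfsg.Agent.H33.SylowFibre
import Cfsg.Agent.H1.Cores
import Mathlib.Analysis.MeanInequalities

/-!
`p`-solvable groups: the number of `p`-elements, and the subnormalizer formula.
-/

set_option autoImplicit false
set_option linter.style.haveILetI false

namespace H33

open Subgroup

universe u

/-- The number of Sylow subgroups containing `x`. -/
noncomputable def sylLam (p : ℕ) {G : Type*} [Group G] (x : G) : ℕ :=
  Nat.card {Q : Sylow p G // zpowers x ≤ Q}

theorem prod_sylLam_le {p : ℕ} [Fact p.Prime] : ∀ (n : ℕ) {G : Type u} [Group G] [Finite G],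
    Nat.card G = n → Cfsg.IsPSolvable p G → ∀ (P : Sylow p G) [Fintype (P : Subgroup G)],
      (∏ x : (P : Subgroup G), sylLam p (x : G)) ^ p ≤
        Nat.card (Sylow p G) ^ Nat.card (P : Subgroup G) := by
  classical
  intro n
  induction n using Nat.strong_induction_on with
  | _ n ih =>
  intro G _ _ hn hG P _
  have hp : p.Prime := Fact.out
  rcases subsingleton_or_nontrivial G with hs | hnt
  · haveI : Subsingleton (Sylow p G) := ⟨fun a b => Sylow.ext (SetLike.ext fun x => by
      rw [Subsingleton.elim x 1]; simp [one_mem])⟩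
    have h1 : ∀ x : (P : Subgroup G), sylLam p (x : G) ≤ 1 := fun x =>
      Finite.card_le_one_iff_subsingleton.mpr inferInstance
    exact (Nat.pow_le_pow_left (Finset.prod_le_one' fun x _ => h1 x) p).trans
      ((one_pow p).le.trans (Nat.one_le_pow _ _ Nat.card_pos))
  obtain ⟨N, hNn, hN0, hN⟩ : ∃ N : Subgroup G, N.Normal ∧ N ≠ ⊥ ∧
      (IsPGroup p N ∨ ¬ p ∣ Nat.card N) := by
    rcases H10.pCore_or_pPrimeCore_ne_bot hG with h | h
    · exact ⟨_, H1.pCore_normal' p G, h, Or.inl (H1.isPGroup_pCore p G)⟩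
    · exact ⟨_, H1.pPrimeCore_normal' p G, h, Or.inr
        (hp.coprime_iff_not_dvd.mp (H1.card_pPrimeCore_coprime p G).symm)⟩
  haveI := hNn
  set f := QuotientGroup.mk' N with hf
  have hsurj : Function.Surjective f := QuotientGroup.mk'_surjective N
  have hker : f.ker = N := QuotientGroup.ker_mk' N
  set Pb := P.mapSurjective hsurj with hPb
  haveI : Fintype (Pb : Subgroup (G ⧸ N)) := Fintype.ofFinite _
  have hih : (∏ y : (Pb : Subgroup (G ⧸ N)), sylLam p (y : G ⧸ N)) ^ p ≤
      Nat.card (Sylow p (G ⧸ N)) ^ Nat.card (Pb : Subgroup (G ⧸ N)) :=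
    ih _ (hn ▸ H10.card_quotient_lt N hN0) rfl (H10.isPSolvable_quotient hG N) Pb
  let φ : (P : Subgroup G) →* (Pb : Subgroup (G ⧸ N)) :=
    (f.comp (P : Subgroup G).subtype).codRestrict _ fun x => mem_map_of_mem f x.2
  have hφ : Function.Surjective φ := by
    rintro ⟨_, x, hx, rfl⟩
    exact ⟨⟨x, hx⟩, rfl⟩
  have hfib : ∀ y, (Finset.univ.filter (fun x => φ x = y)).card = Nat.card φ.ker := by
    intro y
    obtain ⟨x, rfl⟩ := hφ y
    rw [← Fintype.card_subtype, ← Nat.card_eq_fintype_card]
    exact Nat.card_congr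
      { toFun := fun z => ⟨x⁻¹ * z.1, by rw [MonoidHom.mem_ker, map_mul, map_inv, z.2, inv_mul_cancel]⟩
        invFun := fun k => ⟨x * k.1, by rw [map_mul, MonoidHom.mem_ker.mp k.2, mul_one]⟩
        left_inv := fun z => Subtype.ext (mul_inv_cancel_left _ _)
        right_inv := fun k => Subtype.ext (inv_mul_cancel_left _ _) }
  have hprod : ∏ x : (P : Subgroup G), sylLam p (f (x : G)) =
      (∏ y : (Pb : Subgroup (G ⧸ N)), sylLam p (y : G ⧸ N)) ^ Nat.card φ.ker := by
    show ∏ x : (P : Subgroup G), sylLam p ((φ x : (Pb : Subgroup (G ⧸ N))) : G ⧸ N) = _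
    rw [← Finset.prod_fiberwise' Finset.univ φ (fun y => sylLam p (y : G ⧸ N)), ← Finset.prod_pow]
    exact Finset.prod_congr rfl fun y _ => by rw [Finset.prod_const, hfib y]
  have hcard : Nat.card (P : Subgroup G) = Nat.card φ.ker * Nat.card (Pb : Subgroup (G ⧸ N)) := by
    rw [← card_mul_index φ.ker, index_ker, MonoidHom.range_eq_top.mpr hφ, card_top]
  have hih' : (∏ x : (P : Subgroup G), sylLam p (f (x : G))) ^ p ≤
      Nat.card (Sylow p (G ⧸ N)) ^ Nat.card (P : Subgroup G) := by
    rw [hprod, hcard, ← pow_mul, mul_comm (Nat.card φ.ker) p, pow_mul, mul_comm (Nat.card φ.ker),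
      pow_mul]
    exact Nat.pow_le_pow_left hih _
  rcases hN with hN | hN
  · rw [← hker] at hN
    calc (∏ x : (P : Subgroup G), sylLam p (x : G)) ^ p
        ≤ (∏ x : (P : Subgroup G), sylLam p (f (x : G))) ^ p := by
          refine Nat.pow_le_pow_left (Finset.prod_le_prod' fun x _ => ?_) _
          refine (sylowCount_le_of_pKer f hsurj hN (zpowers (x : G))).trans (le_of_eq ?_)
          unfold sylLam
          rw [MonoidHom.map_zpowers]
      _ ≤ _ := hih'
      _ ≤ _ := Nat.pow_le_pow_left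
          (Nat.card_le_card_of_surjective _ (Sylow.mapSurjective_surjective hsurj p)) _
  · have hk : ¬ p ∣ Nat.card f.ker := hker.symm ▸ hN
    set cP := Nat.card ↥(f.ker ⊓ centralizer ((P : Subgroup G) : Set G)) with hcP
    have hstep : (∏ x : (P : Subgroup G), sylLam p (x : G)) * cP ^ Nat.card (P : Subgroup G) ≤
        (∏ x : (P : Subgroup G), sylLam p (f (x : G))) *
          ∏ x : (P : Subgroup G), Nat.card ↥(f.ker ⊓ centralizer ({(x : G)} : Set G)) := by
      rw [Nat.card_eq_fintype_card (α := (P : Subgroup G)), ← Finset.card_univ, ← Finset.prod_const,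
        ← Finset.prod_mul_distrib, ← Finset.prod_mul_distrib]
      refine Finset.prod_le_prod' fun x _ => ?_
      have h := sylowCount_le f hsurj hk P (zpowers (x : G))
      unfold sylLam
      rw [MonoidHom.map_zpowers] at h
      rw [← centralizer_closure ({(x : G)} : Set G), ← zpowers_eq_closure]
      exact h
    have hV := prod_centralizer_pow_le (P : Subgroup G) f.ker P.isPGroup' hk
      (normalizer_eq_top_iff.mpr (MonoidHom.normal_ker f) ▸ le_top)
    have hn := card_sylow_ge f hsurj hk P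
    refine Nat.le_of_mul_le_mul_right ?_
      (pow_pos (pow_pos Nat.card_pos _) _ : 0 < (cP ^ Nat.card (P : Subgroup G)) ^ p)
    rw [← mul_pow]
    refine (Nat.pow_le_pow_left hstep p).trans ?_
    rw [mul_pow]
    refine (Nat.mul_le_mul hih' hV).trans ?_
    rw [← mul_assoc, ← mul_pow]
    refine (Nat.mul_le_mul_right _ (Nat.pow_le_pow_left hn _)).trans (le_of_eq ?_)
    obtain ⟨m, rfl⟩ : ∃ m, p = m + 1 := ⟨p - 1, (Nat.sub_add_cancel hp.one_le).symm⟩
    simp only [Nat.add_sub_cancel]
    rw [← hcP]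
    ring

/-- The number of `p`-elements, bounded below. -/
theorem pel_count_ge {G : Type u} [Group G] [Finite G] {p : ℕ} [Fact p.Prime]
    (hG : Cfsg.IsPSolvable p G) (P : Sylow p G) :
    Nat.card (P : Subgroup G) ^ p * Nat.card (Sylow p G) ^ (p - 1) ≤
      Nat.card {g : G // ∃ k : ℕ, orderOf g = p ^ k} ^ p := by
  classical
  haveI := Fintype.ofFinite G
  haveI := Fintype.ofFinite (Sylow p G)
  have hp : p.Prime := Fact.out
  set lam : G → ℕ := fun x => sylLam p x with hlam
  have hlamfilter : ∀ g, (Finset.univ.filter (fun Q : Sylow p G => g ∈ (Q : Subgroup G))).card = lam g := by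
    intro g
    simp only [hlam]
    unfold sylLam
    rw [Nat.card_eq_fintype_card, Fintype.card_subtype]
    congr 1
    ext Q
    simp
  have hlampos : ∀ g : G, (∃ k : ℕ, orderOf g = p ^ k) → 0 < lam g := by
    rintro g ⟨k, hk⟩
    obtain ⟨Q, hQ⟩ := (IsPGroup.of_card (G := zpowers g) (p := p) (n := k)
      (by rw [Nat.card_zpowers, hk])).exists_le_sylow
    exact Finite.card_pos_iff.mpr ⟨⟨Q, hQ⟩⟩
  have hQel : ∀ (Q : Sylow p G), ∀ g ∈ (Q : Subgroup G), ∃ k : ℕ, orderOf g = p ^ k := by
    intro Q g hg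
    obtain ⟨k, hk⟩ := IsPGroup.iff_orderOf.mp Q.isPGroup' ⟨g, hg⟩
    exact ⟨k, by rw [← hk, orderOf_mk]⟩
  -- double counting
  have hsum : (Nat.card {g : G // ∃ k : ℕ, orderOf g = p ^ k} : ℝ) =
      ∑ Q : Sylow p G, ∑ g : (Q : Subgroup G), (1 : ℝ) / lam g := by
    have h1 : ∀ Q : Sylow p G, ∑ g : (Q : Subgroup G), (1 : ℝ) / lam g =
        ∑ g : G, if g ∈ (Q : Subgroup G) then (1 : ℝ) / lam g else 0 := by
      intro Q
      rw [← Finset.sum_filter]
      exact (Finset.sum_subtype _ (fun g => by simp) (fun g => (1 : ℝ) / lam g)).symm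
    rw [Finset.sum_congr rfl (fun Q _ => h1 Q), Finset.sum_comm,
      Nat.card_eq_fintype_card, Fintype.card_subtype, Finset.card_eq_sum_ones, Nat.cast_sum,
      Finset.sum_filter]
    refine Finset.sum_congr rfl fun g _ => ?_
    rw [← Finset.sum_filter, Finset.sum_const, hlamfilter, nsmul_eq_mul]
    by_cases hg : ∃ k : ℕ, orderOf g = p ^ k
    · rw [if_pos hg, Nat.cast_one, mul_one_div, div_self]
      exact_mod_cast (hlampos g hg).ne'
    · rw [if_neg hg]
      have : lam g = 0 := by
        rw [← hlamfilter, Finset.card_eq_zero, Finset.filter_eq_empty_iff]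
        exact fun Q _ hQ => hg (hQel Q g hQ)
      simp [this]
  have hall : ∀ Q : Sylow p G, Nat.card (Q : Subgroup G) = Nat.card (P : Subgroup G) := fun Q =>
    Q.card_eq_multiplicity.trans P.card_eq_multiplicity.symm
  set a := Nat.card (P : Subgroup G) with ha
  set n := Nat.card (Sylow p G) with hn
  have hn0 : (0 : ℝ) < n := by exact_mod_cast (Nat.card_pos : 0 < Nat.card (Sylow p G))
  have ha0 : (0 : ℝ) < a := by exact_mod_cast (Nat.card_pos : 0 < Nat.card (P : Subgroup G))
  set c := (n : ℝ) ^ (-((p : ℝ)⁻¹)) with hc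
  have hone : ∀ Q : Sylow p G, (a : ℝ) * c ≤ ∑ g : (Q : Subgroup G), (1 : ℝ) / lam g := by
    intro Q
    have hgm := Real.geom_mean_le_arith_mean_weighted (Finset.univ : Finset (Q : Subgroup G))
      (fun _ => (a : ℝ)⁻¹) (fun g => (1 : ℝ) / lam g) (fun _ _ => by positivity)
      (by rw [Finset.sum_const, Finset.card_univ, ← Nat.card_eq_fintype_card, hall Q, nsmul_eq_mul,
        mul_inv_cancel₀ ha0.ne'])
      (fun _ _ => by positivity)
    rw [Real.finsetProd_rpow _ _ (fun g _ => by positivity), ← Finset.mul_sum] at hgm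
    refine le_trans ?_ ((mul_le_mul_iff_right₀ (inv_pos.mpr ha0)).mp
      (le_trans (le_of_eq (inv_mul_cancel_left₀ ha0.ne' c)) ?_) : (a : ℝ) * c ≤ _)
    · exact le_rfl
    refine le_trans ?_ hgm
    have hL := prod_sylLam_le (Nat.card G) rfl hG Q
    rw [hall Q] at hL
    set L := ∏ g : (Q : Subgroup G), lam g with hLdef
    have hLpos : (0 : ℝ) < L := by
      exact_mod_cast (Finset.prod_pos fun g _ => hlampos _ (hQel Q g g.2) : 0 < L)
    rw [show ∏ g : (Q : Subgroup G), (1 : ℝ) / lam g = (L : ℝ)⁻¹ by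
      rw [hLdef, Nat.cast_prod, ← Finset.prod_inv_distrib]; simp [one_div]]
    rw [hc, Real.rpow_neg hn0.le, Real.inv_rpow hLpos.le]
    refine inv_anti₀ (Real.rpow_pos_of_pos hLpos _) ?_
    have hL' : (L : ℝ) ^ (p : ℝ) ≤ (n : ℝ) ^ (a : ℝ) := by
      rw [Real.rpow_natCast, Real.rpow_natCast]; exact_mod_cast hL
    have := Real.rpow_le_rpow (Real.rpow_nonneg hLpos.le _) hL'
      (by positivity : (0 : ℝ) ≤ ((p : ℝ) * a)⁻¹)
    rw [← Real.rpow_mul hLpos.le, ← Real.rpow_mul hn0.le] at this
    have hp0 : (p : ℝ) ≠ 0 := by exact_mod_cast hp.ne_zero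
    rwa [show (p : ℝ) * ((p : ℝ) * a)⁻¹ = (a : ℝ)⁻¹ by field_simp,
      show (a : ℝ) * ((p : ℝ) * a)⁻¹ = (p : ℝ)⁻¹ by field_simp] at this
  have hu : (a : ℝ) * n * c ≤ (Nat.card {g : G // ∃ k : ℕ, orderOf g = p ^ k} : ℝ) := by
    rw [hsum]
    refine le_trans (le_of_eq ?_) (Finset.card_nsmul_le_sum Finset.univ _ _ fun Q _ => hone Q)
    rw [Finset.card_univ, ← Nat.card_eq_fintype_card, ← hn, nsmul_eq_mul]
    ring
  have hfin := pow_le_pow_left₀ (mul_nonneg (mul_nonneg ha0.le hn0.le) (Real.rpow_nonneg hn0.le _)) hu p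
  suffices h : ((a ^ p * n ^ (p - 1) : ℕ) : ℝ) ≤
      ((Nat.card {g : G // ∃ k : ℕ, orderOf g = p ^ k} ^ p : ℕ) : ℝ) by exact_mod_cast h
  push_cast
  refine le_trans (le_of_eq ?_) hfin
  have hcp : c ^ p = (n : ℝ)⁻¹ := by
    rw [hc, ← Real.rpow_natCast, ← Real.rpow_mul hn0.le, neg_mul,
      inv_mul_cancel₀ (by exact_mod_cast hp.ne_zero), Real.rpow_neg_one]
  obtain ⟨m, rfl⟩ : ∃ m, p = m + 1 := ⟨p - 1, (Nat.sub_add_cancel hp.one_le).symm⟩
  rw [mul_pow, mul_pow, hcp, Nat.add_sub_cancel, pow_succ (n : ℝ) m]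
  field_simp

/-! ### The subnormalizer formula -/

theorem fin_telescope : ∀ {n : ℕ} (a : Fin (n + 1) → ℕ) (c : Fin n → ℕ),
    (∀ i : Fin n, a i.castSucc = a i.succ * c i) → a 0 = a (Fin.last n) * ∏ i, c i := by
  intro n
  induction n with
  | zero => intro a c _; simp
  | succ n ih =>
    intro a c h
    have h1 := ih (fun i => a i.succ) (fun i => c i.succ) (fun i => by
      have := h i.succ
      rwa [← Fin.succ_castSucc] at this)
    have h0 := h 0
    rw [Fin.castSucc_zero] at h0
    rw [h0, h1, Fin.prod_univ_succ, ← Fin.succ_last]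
    ring

theorem snCard_step {G K : Type*} [Group G] [Group K] [Finite G] [Finite K] {p : ℕ} [Fact p.Prime]
    (f : G →* K) (hf : Function.Surjective f) (H : Subgroup G) (hH : IsPGroup p H) :
    (¬ p ∣ Nat.card f.ker → Nat.card {g : G // H36.InSN p H g} =
      Nat.card {x : K // H36.InSN p (H.map f) x} * Nat.card ↥(f.ker ⊓ centralizer (H : Set G))) ∧
    (IsPGroup p f.ker → Nat.card {g : G // H36.InSN p H g} =
      Nat.card {x : K // H36.InSN p (H.map f) x} * Nat.card f.ker) := by
  classical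
  haveI := Fintype.ofFinite {x : K // H36.InSN p (H.map f) x}
  let π : {g : G // H36.InSN p H g} → {x : K // H36.InSN p (H.map f) x} :=
    fun g => ⟨f g.1, InSN.map g.2 f⟩
  rw [← Nat.card_congr (Equiv.sigmaFiberEquiv π), Nat.card_sigma]
  have hfib : ∀ x, Nat.card {g // π g = x} =
      Nat.card {g : {g : G // H36.InSN p H g} // f g.1 = x.1} := fun x =>
    Nat.card_congr (Equiv.subtypeEquivRight fun g => Subtype.ext_iff)
  constructor
  · intro hN
    rw [Finset.sum_congr rfl (fun x _ => (hfib x).trans (snCard_fibre f hf hN hH x)),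
      Finset.sum_const, Finset.card_univ, Nat.card_eq_fintype_card (α := {x : K // _}), smul_eq_mul]
  · intro hN
    have h2 : ∀ x : {x : K // H36.InSN p (H.map f) x},
        Nat.card {g : {g : G // H36.InSN p H g} // f g.1 = x.1} = Nat.card f.ker := by
      rintro ⟨x, hx⟩
      obtain ⟨g₀, rfl⟩ := hf x
      exact Nat.card_congr
        { toFun := fun g => ⟨g₀⁻¹ * g.1.1, by rw [MonoidHom.mem_ker, map_mul, map_inv, g.2, inv_mul_cancel]⟩
          invFun := fun k => ⟨⟨g₀ * k.1, (inSN_iff_map_of_pKer f hf hN H _).mpr (by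
            rwa [map_mul, MonoidHom.mem_ker.mp k.2, mul_one])⟩, by
            show f (g₀ * k.1) = f g₀
            rw [map_mul, MonoidHom.mem_ker.mp k.2, mul_one]⟩
          left_inv := fun g => Subtype.ext (Subtype.ext (mul_inv_cancel_left _ _))
          right_inv := fun k => Subtype.ext (inv_mul_cancel_left _ _) }
    rw [Finset.sum_congr rfl (fun x _ => (hfib x).trans (h2 x)),
      Finset.sum_const, Finset.card_univ, Nat.card_eq_fintype_card (α := {x : K // _}), smul_eq_mul]

theorem snCount_formula {G : Type u} [Group G] [Finite G] {p : ℕ} [Fact p.Prime]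
    (H : Subgroup G) (hH : IsPGroup p H) (P : Sylow p G)
    (n : ℕ) (M : Fin (n + 1) → Subgroup G) (h0 : M 0 = ⊥) (hn : M (Fin.last n) = ⊤) (hmono : Monotone M)
    (hnormal : ∀ i, (M i).Normal)
    (hfac : ∀ i : Fin n, (∃ m : ℕ, (M i.castSucc).relIndex (M i.succ) = p ^ m) ∨
      ((M i.castSucc).relIndex (M i.succ)).Coprime p) :
    Nat.card {g : G // H36.InSN p H g} =
      Nat.card (P : Subgroup G) *
        ∏ i : Fin n, (if ((M i.castSucc).relIndex (M i.succ)).Coprime p then
          Nat.card {u : G // u ∈ M i.succ ∧ ∀ h ∈ H, h * u * h⁻¹ * u⁻¹ ∈ M i.castSucc} / Nat.card (M i.castSucc)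
          else 1) := by
  classical
  have hp : p.Prime := Fact.out
  haveI := hnormal
  let s : Fin (n + 1) → ℕ := fun i =>
    Nat.card {x : G ⧸ M i // H36.InSN p (H.map (QuotientGroup.mk' (M i))) x}
  let C : Fin n → ℕ := fun i => (if ((M i.castSucc).relIndex (M i.succ)).Coprime p then
    Nat.card {u : G // u ∈ M i.succ ∧ ∀ h ∈ H, h * u * h⁻¹ * u⁻¹ ∈ M i.castSucc} / Nat.card (M i.castSucc)
    else 1)
  let D : Fin n → ℕ := fun i => p ^ ((M i.castSucc).relIndex (M i.succ)).factorization p
  have hs : ∀ i : Fin n, s i.castSucc = s i.succ * (D i * C i) := by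
    intro i
    set A := M i.castSucc with hA
    set B := M i.succ with hB
    have hAB : A ≤ B := hmono (Fin.castSucc_le_succ i)
    let f : G ⧸ A →* G ⧸ B := QuotientGroup.map A B (MonoidHom.id G) (hAB.trans (comap_id B).ge)
    have hf : Function.Surjective f := fun x => by
      obtain ⟨g, rfl⟩ := QuotientGroup.mk_surjective x
      exact ⟨(g : G ⧸ A), rfl⟩
    have hker : f.ker = B.map (QuotientGroup.mk' A) := by
      show (QuotientGroup.map A B (MonoidHom.id G) (hAB.trans (comap_id B).ge)).ker = _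
      rw [QuotientGroup.ker_map, comap_id]
    have hHmap : (H.map (QuotientGroup.mk' A)).map f = H.map (QuotientGroup.mk' B) := by
      rw [map_map]; rfl
    have hkc : Nat.card f.ker = A.relIndex B := by
      rw [hker, ← relIndex_ker, QuotientGroup.ker_mk']
    have hst := snCard_step f hf (H.map (QuotientGroup.mk' A)) (hH.map _)
    rw [hkc, hHmap] at hst
    show _ = _ * ((p ^ (A.relIndex B).factorization p) * _)
    by_cases hc : (A.relIndex B).Coprime p
    · have hnd := hp.coprime_iff_not_dvd.mp hc.symm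
      refine (hst.1 hnd).trans ?_
      rw [Nat.factorization_eq_zero_of_not_dvd hnd, pow_zero, one_mul]
      congr 1
      simp only [C, ← hA, ← hB, if_pos hc]
      have hu : Nat.card {u : G // u ∈ B ∧ ∀ h ∈ H, h * u * h⁻¹ * u⁻¹ ∈ A} =
          Nat.card ((f.ker ⊓ centralizer ((H.map (QuotientGroup.mk' A) : Subgroup (G ⧸ A)) : Set (G ⧸ A))).comap
            (QuotientGroup.mk' A)) := by
        refine Nat.card_congr (Equiv.subtypeEquivRight fun u => ?_)
        rw [mem_comap, mem_inf, hker]
        refine and_congr ?_ ?_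
        · constructor
          · exact fun hu => mem_map_of_mem _ hu
          · rintro ⟨v, hv, hvu⟩
            have h1 := hAB (QuotientGroup.eq.mp hvu)
            simpa using mul_mem hv h1
        · rw [mem_centralizer_iff]
          constructor
          · rintro hu _ ⟨h, hh, rfl⟩
            have h1 := hu h hh
            rw [← QuotientGroup.eq_one_iff, QuotientGroup.mk_mul, QuotientGroup.mk_mul,
              QuotientGroup.mk_mul, QuotientGroup.mk_inv, QuotientGroup.mk_inv, mul_inv_eq_one,
              mul_inv_eq_iff_eq_mul] at h1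
            exact h1
          · intro hu h hh
            rw [← QuotientGroup.eq_one_iff, QuotientGroup.mk_mul, QuotientGroup.mk_mul,
              QuotientGroup.mk_mul, QuotientGroup.mk_inv, QuotientGroup.mk_inv, mul_inv_eq_one,
              mul_inv_eq_iff_eq_mul]
            exact hu _ (mem_map_of_mem _ hh)
      rw [hu, card_comap_eq (QuotientGroup.mk' A) _ (fun y _ => QuotientGroup.mk'_surjective A y),
        QuotientGroup.ker_mk', Nat.mul_div_cancel_left _ Nat.card_pos]
    · obtain ⟨m, hm⟩ := (hfac i).resolve_right hc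
      refine (hst.2 (IsPGroup.of_card (n := m) (hkc.trans hm))).trans ?_
      simp only [C, ← hA, ← hB, if_neg hc, mul_one]
      rw [hm, hp.factorization_pow, Finsupp.single_eq_same]
  have h1 := fin_telescope s (fun i => D i * C i) hs
  have hlast : s (Fin.last n) = 1 := by
    haveI : Subsingleton (G ⧸ M (Fin.last n)) := QuotientGroup.subsingleton_iff.mpr hn
    haveI : Unique {x : G ⧸ M (Fin.last n) //
        H36.InSN p (H.map (QuotientGroup.mk' (M (Fin.last n)))) x} :=
      { default := ⟨1, H.map _, hH.map _, le_rfl, one_mem _⟩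
        uniq := fun a => Subtype.ext (Subsingleton.elim _ _) }
    exact Nat.card_unique
  have hfirst : s 0 = Nat.card {g : G // H36.InSN p H g} := by
    have hk : Nat.card (QuotientGroup.mk' (M 0)).ker = 1 := by rw [QuotientGroup.ker_mk', h0, card_bot]
    have h := (snCard_step (QuotientGroup.mk' (M 0)) (QuotientGroup.mk'_surjective _) H hH).1
      (by rw [hk]; exact hp.not_dvd_one)
    have hb : Nat.card ↥((QuotientGroup.mk' (M 0)).ker ⊓ centralizer (H : Set G)) = 1 :=
      Nat.dvd_one.mp ((card_dvd_of_le inf_le_left).trans (dvd_of_eq hk))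
    rw [hb, mul_one] at h
    exact h.symm
  have hidx := fin_telescope (fun i => p ^ (M i).index.factorization p) D fun i => by
    show p ^ (M i.castSucc).index.factorization p = p ^ (M i.succ).index.factorization p * _
    rw [← pow_add, ← relIndex_mul_index (hmono (Fin.castSucc_le_succ i)),
      Nat.factorization_mul relIndex_ne_zero' index_ne_zero_of_finite, Finsupp.add_apply, add_comm]
  simp only [h0, hn, index_bot, index_top, Nat.factorization_one, Finsupp.coe_zero, Pi.zero_apply,
    pow_zero, one_mul] at hidx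
  rw [← hfirst, h1, hlast, one_mul, Finset.prod_mul_distrib, ← hidx, P.card_eq_multiplicity]
where
  relIndex_ne_zero' {G : Type u} [Group G] [Finite G] {A B : Subgroup G} : A.relIndex B ≠ 0 :=
    index_ne_zero_of_finite

end H33
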