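import Cfsg.Agent.S4023
import Cfsg.Agent.H33.SylowFibre
import Cfsg.Agent.H10.PSolvable

/-!
Conjugate `p`-subgroups of equal order and a normal `p`-solvable subgroup.
-/

set_option autoImplicit false
set_option linter.style.haveILetI false

namespace H33

open Subgroup

universe u

variable {p : ℕ} [Fact p.Prime]

theorem le_normal_of_orderP {G : Type u} [Group G] [Finite G]
    (hC : ∀ H K : Subgroup G, IsPGroup p H → IsPGroup p K → Nat.card H = Nat.card K →
      ∃ g : G, K = H.map (MulAut.conj g).toMonoidHom) {M : Subgroup G} [M.Normal]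
    (hpM : p ∣ Nat.card M) {x : G} (hx : x ^ p = 1) : x ∈ M := by
  rcases eq_or_ne x 1 with rfl | hx1
  · exact one_mem M
  have hp : p.Prime := Fact.out
  obtain ⟨y, hy⟩ := exists_prime_orderOf_dvd_card' p hpM
  have hox : orderOf x = p := orderOf_eq_prime hx hx1
  have hc : Nat.card (zpowers (y : G)) = p := by rw [Nat.card_zpowers, orderOf_coe, hy]
  obtain ⟨g, hg⟩ := hC (zpowers (y : G)) (zpowers x) (IsPGroup.of_card (n := 1) (by rw [hc, pow_one]))
    (IsPGroup.of_card (n := 1) (by rw [Nat.card_zpowers, hox, pow_one]))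
    (by rw [hc, Nat.card_zpowers, hox])
  have h1 : zpowers (y : G) ≤ M := zpowers_le.mpr y.2
  have h2 := hg.le.trans ((map_mono h1).trans (Subgroup.Normal.map_conj_eq M g).le)
  exact h2 (mem_zpowers x)

theorem abelian_sylow_of_psolvable_normal {G : Type u} [Group G] [Finite G] (hp2 : p ≠ 2)
    (hC : ∀ H K : Subgroup G, IsPGroup p H → IsPGroup p K → Nat.card H = Nat.card K →
      ∃ g : G, K = H.map (MulAut.conj g).toMonoidHom) (P : Sylow p G)
    (H : Subgroup G) [H.Normal] (hsolv : Cfsg.IsPSolvable p H) (hdiv : p ∣ Nat.card H) :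
    IsMulCommutative P ∧ ((P : Subgroup G) ≤ H ∨ IsCyclic P) := by
  classical
  have hp : p.Prime := Fact.out
  rcases Cfsg.Agent.S4023.result hC P with hc | he | ⟨h2, -⟩ | ⟨-, hna, -, hexp⟩
  · haveI := hc
    exact ⟨⟨⟨fun a b => by letI := hc.commGroup; exact mul_comm a b⟩⟩, Or.inr hc⟩
  · exact ⟨he.1, Or.inl fun x hx => le_normal_of_orderP hC hdiv (he.2 x hx)⟩
  · exact absurd h2 hp2
  exfalso
  have hPpow : ∀ x ∈ (P : Subgroup G), x ^ p = 1 := fun x hx => by
    have h := Monoid.pow_exponent_eq_one (⟨x, hx⟩ : (P : Subgroup G))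
    rw [hexp] at h
    simpa using congrArg Subtype.val h
  have hPH : (P : Subgroup G) ≤ H := fun x hx => le_normal_of_orderP hC hdiv (hPpow x hx)
  -- a maximal normal `p'`-subgroup below `H`
  obtain ⟨K, hK⟩ := (Set.toFinite {K : Subgroup G | K.Normal ∧ K ≤ H ∧ ¬ p ∣ Nat.card K}).exists_maximal
    ⟨⊥, inferInstance, bot_le, by rw [card_bot]; exact hp.not_dvd_one⟩
  obtain ⟨hKn, hKH, hKp⟩ := hK.prop
  haveI := hKn
  set π := QuotientGroup.mk' K with hπ
  have hker : ¬ p ∣ Nat.card π.ker := by rw [QuotientGroup.ker_mk']; exact hKp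
  have hsurj : Function.Surjective π := QuotientGroup.mk'_surjective K
  set Hb := H.map π with hHb
  haveI : Hb.Normal := Subgroup.Normal.map inferInstance π hsurj
  set Pb := P.mapSurjective hsurj with hPb
  have hPbc : (Pb : Subgroup (G ⧸ K)) = (P : Subgroup G).map π := Sylow.coe_mapSurjective ..
  -- the conjugacy of subgroups of order `p` passes to the quotient
  have hC' : ∀ A B : Subgroup (G ⧸ K), Nat.card A = p → Nat.card B = p →
      ∃ g : G ⧸ K, B = A.map (MulAut.conj g).toMonoidHom := by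
    have key : ∀ A : Subgroup (G ⧸ K), Nat.card A = p → ∃ R : Subgroup G, Nat.card R = p ∧ R.map π = A := by
      intro A hA
      obtain ⟨a, ha⟩ := exists_prime_orderOf_dvd_card' p (hA.symm ▸ dvd_rfl : p ∣ Nat.card A)
      obtain ⟨Q, hQ⟩ := (IsPGroup.of_card (p := p) (n := 1) (hA.trans (pow_one p).symm)).exists_le_sylow
      obtain ⟨Q', hQ'⟩ := Sylow.mapSurjective_surjective hsurj p Q
      have haQ : (a : G ⧸ K) ∈ (Q' : Subgroup G).map π := by
        rw [← Sylow.coe_mapSurjective hsurj, hQ']; exact hQ a.2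
      obtain ⟨x, hx, hxa⟩ := mem_map.mp haQ
      refine ⟨zpowers x, ?_, ?_⟩
      · rw [← card_map_of_pgroup hker (Q'.isPGroup'.to_le (zpowers_le.mpr hx)), MonoidHom.map_zpowers,
          hxa, Nat.card_zpowers, orderOf_coe, ha]
      · refine eq_of_le_of_card_ge ?_ ?_
        · rw [MonoidHom.map_zpowers, zpowers_le, hxa]; exact a.2
        · rw [MonoidHom.map_zpowers, hxa, Nat.card_zpowers, orderOf_coe, ha, hA]
    intro A B hA hB
    obtain ⟨R, hR, hRA⟩ := key A hA
    obtain ⟨S, hS, hSB⟩ := key B hB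
    obtain ⟨g, hg⟩ := hC R S (IsPGroup.of_card (n := 1) (by rw [hR, pow_one]))
      (IsPGroup.of_card (n := 1) (by rw [hS, pow_one])) (hR.trans hS.symm)
    refine ⟨(g : G ⧸ K), ?_⟩
    rw [← hSB, hg, ← hRA, map_map, map_map]
    rfl
  have hmem : ∀ M : Subgroup (G ⧸ K), M.Normal → p ∣ Nat.card M → ∀ x ∈ (Pb : Subgroup (G ⧸ K)), x ∈ M := by
    intro M hM hpM x hx
    rcases eq_or_ne x 1 with rfl | hx1
    · exact one_mem M
    obtain ⟨y, hy⟩ := exists_prime_orderOf_dvd_card' p hpM
    have hxp : x ^ p = 1 := by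
      rw [hPbc] at hx
      obtain ⟨z, hz, rfl⟩ := hx
      rw [← map_pow, hPpow z hz, map_one]
    obtain ⟨g, hg⟩ := hC' (zpowers (y : G ⧸ K)) (zpowers x)
      (by rw [Nat.card_zpowers, orderOf_coe, hy]) (by rw [Nat.card_zpowers, orderOf_eq_prime hxp hx1])
    have h1 : zpowers (y : G ⧸ K) ≤ M := zpowers_le.mpr y.2
    exact (hg.le.trans ((map_mono h1).trans (Subgroup.Normal.map_conj_eq M g).le)) (mem_zpowers x)
  have hPcard : 1 < Nat.card (P : Subgroup G) := by
    rw [Finite.one_lt_card_iff_nontrivial, ← not_subsingleton_iff_nontrivial]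
    exact fun h => hna ⟨⟨fun a b => Subsingleton.elim _ _⟩⟩
  have hPb0 : Nat.card (Pb : Subgroup (G ⧸ K)) = Nat.card (P : Subgroup G) := by
    rw [hPbc, card_map_of_pgroup hker P.isPGroup']
  haveI hnt : Nontrivial Hb := by
    rw [Subgroup.nontrivial_iff_ne_bot]
    intro h
    have : (Pb : Subgroup (G ⧸ K)) ≤ ⊥ := by rw [hPbc, ← h]; exact map_mono hPH
    rw [le_bot_iff] at this
    rw [this, card_bot] at hPb0
    omega
  -- the `p`-core of the image is a nontrivial normal `p`-subgroup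
  have hps : Cfsg.IsPSolvable p Hb := H10.isPSolvable_of_surjective hsolv (π.subgroupMap H)
    (MonoidHom.subgroupMap_surjective _ _)
  have hR0 : Cfsg.pPrimeCore p Hb = ⊥ := by
    haveI := H1.map_subtype_normal_of_characteristic Hb (Cfsg.pPrimeCore p Hb)
    set W := (Cfsg.pPrimeCore p Hb).map Hb.subtype with hW
    have hWc : ¬ p ∣ Nat.card W := by
      rw [hW, card_map_of_injective Hb.subtype_injective]
      exact hp.coprime_iff_not_dvd.mp (H1.card_pPrimeCore_coprime p Hb).symm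
    have hle : W.comap π ≤ K := hK.2 ⟨inferInstance, ?_, ?_⟩ ((QuotientGroup.ker_mk' K).ge.trans (comap_mono bot_le))
    · have h2 := map_mono (f := π) hle
      rw [map_comap_eq_self_of_surjective hsurj, QuotientGroup.map_mk'_self] at h2
      exact (map_eq_bot_iff_of_injective _ Hb.subtype_injective).mp (le_bot_iff.mp h2)
    · refine (comap_mono (map_subtype_le _)).trans ?_
      rw [hHb, comap_map_eq, QuotientGroup.ker_mk']
      exact sup_le le_rfl hKH
    · rw [H1.card_comap_mk' K W]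
      exact fun h => (hp.dvd_mul.mp h).elim hKp hWc
  have hRne : Cfsg.pCore p Hb ≠ ⊥ := (H10.pCore_or_pPrimeCore_ne_bot hps).resolve_right (· hR0)
  haveI := H1.pCore_characteristic p Hb
  haveI := H1.map_subtype_normal_of_characteristic Hb (Cfsg.pCore p Hb)
  set R := (Cfsg.pCore p Hb).map Hb.subtype with hR
  have hRp : IsPGroup p R := (H1.isPGroup_pCore p Hb).map _
  have hRdvd : p ∣ Nat.card R := by
    rw [hR, card_map_of_injective Hb.subtype_injective]
    exact ((H1.isPGroup_pCore p Hb).card_eq_or_dvd).resolve_left fun h => hRne (card_eq_one.mp h)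
  have hPR : (Pb : Subgroup (G ⧸ K)) ≤ R := fun x hx => hmem R inferInstance hRdvd x hx
  have hRPb : R = (Pb : Subgroup (G ⧸ K)) := Pb.3 hRp hPR
  haveI hPbn : (Pb : Subgroup (G ⧸ K)).Normal := hRPb ▸ inferInstance
  haveI : Nontrivial (Pb : Subgroup (G ⧸ K)) := Finite.one_lt_card_iff_nontrivial.mp (by omega)
  haveI := Pb.isPGroup'.center_nontrivial
  haveI hZn := H1.map_subtype_normal_of_characteristic (Pb : Subgroup (G ⧸ K))
    (center (Pb : Subgroup (G ⧸ K)))
  set Z := (center (Pb : Subgroup (G ⧸ K))).map (Pb : Subgroup (G ⧸ K)).subtype with hZ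
  have hZdvd : p ∣ Nat.card Z := by
    rw [hZ, card_map_of_injective (Pb : Subgroup (G ⧸ K)).subtype_injective]
    exact ((Pb.isPGroup'.to_subgroup _).card_eq_or_dvd).resolve_left
      (Finite.one_lt_card (α := center (Pb : Subgroup (G ⧸ K)))).ne'
  apply hna
  refine ⟨⟨fun a b => ?_⟩⟩
  have ha : π a ∈ (Pb : Subgroup (G ⧸ K)) := hPbc ▸ mem_map_of_mem π a.2
  have hb : π b ∈ (Pb : Subgroup (G ⧸ K)) := hPbc ▸ mem_map_of_mem π b.2
  obtain ⟨c, hc, hca⟩ := mem_map.mp (hmem Z hZn hZdvd _ ha)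
  have h1 := congrArg Subtype.val (mem_center_iff.mp hc ⟨π b, hb⟩)
  simp only [Subgroup.coe_mul] at h1
  rw [show (c : G ⧸ K) = π a from hca] at h1
  have h2 : ((a : G) * b)⁻¹ * (b * a) = 1 := by
    refine eq_one_of_pgroup_ker hker P.isPGroup'
      (mul_mem (inv_mem (mul_mem a.2 b.2)) (mul_mem b.2 a.2)) ?_
    rw [MonoidHom.mem_ker, map_mul, map_inv, map_mul, map_mul, h1, inv_mul_cancel]
  exact Subtype.ext (inv_mul_eq_one.mp h2)

end H33
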