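import Mathlib
import Cfsg.Agent.H2.FPFSubgroup
import Cfsg.Agent.H82.PRankOne
import Cfsg.Agent.H1.Hall

/-!
A group acting semiregularly outside a fixed subgroup `Z₀` of an abelian group `A`, where `A` has
elements outside `Z₀` for two primes `p ≠ q`, cannot have both non-trivial `p`- and `q`-elements.
-/

set_option autoImplicit false
set_option linter.unusedSectionVars false
set_option linter.style.haveILetI false

namespace H33.SR

open Subgroup

variable {W A : Type*} [Group W] [Finite W] [CommGroup A] [Finite A] [MulDistribMulAction W A]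
  {Z₀ : Subgroup A}

/-- The elements of `p`-power order of an abelian group. -/
def prim (p : ℕ) (A : Type*) [CommGroup A] : Subgroup A where
  carrier := {a | ∃ k : ℕ, a ^ p ^ k = 1}
  one_mem' := ⟨0, one_pow _⟩
  mul_mem' := by
    rintro a b ⟨i, ha⟩ ⟨j, hb⟩
    refine ⟨i + j, ?_⟩
    rw [mul_pow, pow_add, pow_mul, ha, one_pow, one_mul, mul_comm, pow_mul, hb, one_pow]
  inv_mem' := by
    rintro a ⟨i, ha⟩
    exact ⟨i, by rw [inv_pow, ha, inv_one]⟩

/-- The hypothesis: `Z₀` is fixed pointwise and nothing else is fixed by a non-trivial element. -/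
structure Semireg (W : Type*) {A : Type*} [Group W] [CommGroup A] [MulDistribMulAction W A]
    (Z₀ : Subgroup A) : Prop where
  fix : ∀ σ : W, ∀ z ∈ Z₀, σ • z = z
  semi : ∀ σ : W, ∀ a : A, σ • a = a → a ∈ Z₀ ∨ σ = 1

theorem smul_mem_prim {p : ℕ} (σ : W) {a : A} (ha : a ∈ prim p A) : σ • a ∈ prim p A := by
  obtain ⟨k, hk⟩ := ha
  exact ⟨k, by rw [← smul_pow', hk, smul_one]⟩

theorem eq_one_of_pow_coprime {p k : ℕ} (hp : p.Prime) (hk : ¬ p ∣ k) {z : A} (hz : z ∈ prim p A)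
    (h : z ^ k = 1) : z = 1 := by
  obtain ⟨j, hj⟩ := hz
  rw [← orderOf_eq_one_iff]
  exact Nat.eq_one_of_dvd_coprimes (((hp.coprime_iff_not_dvd).2 hk).pow_left j)
    (orderOf_dvd_of_pow_eq_one hj) (orderOf_dvd_of_pow_eq_one h)

theorem pow_smul_eq (h : Semireg W Z₀) {σ : W} {a z : A} (hz : z ∈ Z₀) (hσ : σ • a = a * z) :
    ∀ n : ℕ, (σ ^ n) • a = a * z ^ n := by
  intro n
  induction n with
  | zero => simp
  | succ n ih => rw [pow_succ', mul_smul, ih, smul_mul', hσ, h.fix σ _ (pow_mem hz n), pow_succ',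
      mul_assoc]

/-- The product over a subgroup. -/
noncomputable def nrm (X : Subgroup W) : A →* A :=
  haveI := Fintype.ofFinite X
  ∏ x : X, MulDistribMulAction.toMonoidHom A (x : W)

theorem nrm_apply (X : Subgroup W) [Fintype X] (a : A) : nrm X a = ∏ x : X, (x : W) • a := by
  rw [nrm, MonoidHom.finsetProd_apply]
  exact Finset.prod_congr (by ext; simp) fun x _ => rfl

theorem smul_nrm (X : Subgroup W) {σ : W} (hσ : σ ∈ X) (a : A) : σ • nrm X a = nrm X a := by
  classical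
  have := Fintype.ofFinite X
  rw [nrm_apply, Finset.smul_prod']
  exact Fintype.prod_equiv (Equiv.mulLeft ⟨σ, hσ⟩) _ _ fun x => by simp [mul_smul]

theorem nrm_smul (X : Subgroup W) {σ : W} (hσ : ∀ x ∈ X, σ⁻¹ * x * σ ∈ X) (a : A) :
    nrm X (σ • a) = σ • nrm X a := by
  classical
  have := Fintype.ofFinite X
  rw [nrm_apply, nrm_apply, Finset.smul_prod']
  let f : X → X := fun x => ⟨σ⁻¹ * x * σ, hσ x x.2⟩
  have hf : Function.Bijective f := Finite.injective_iff_bijective.mp fun x y hxy => by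
    exact Subtype.ext (mul_left_cancel (mul_right_cancel (congrArg Subtype.val hxy)))
  exact Fintype.prod_bijective f hf _ _ fun x => by simp [f, ← mul_smul, mul_assoc]

/-- The kernel of the norm inside the `p`-part. -/
noncomputable def tker (p : ℕ) (X : Subgroup W) : Subgroup A := prim p A ⊓ (nrm X).ker

theorem nrm_fix (h : Semireg W Z₀) (X : Subgroup W) {z : A} (hz : z ∈ Z₀) :
    nrm X z = z ^ Nat.card X := by
  have := Fintype.ofFinite X
  simp only [nrm_apply, h.fix _ z hz, Finset.prod_const, Finset.card_univ,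
    Nat.card_eq_fintype_card]

theorem tker_inf (h : Semireg W Z₀) {p : ℕ} (hp : p.Prime) {X : Subgroup W}
    (hX : ¬ p ∣ Nat.card X) {t : A} (ht : t ∈ tker p X) (htz : t ∈ Z₀) : t = 1 := by
  refine eq_one_of_pow_coprime hp hX ht.1 ?_
  rw [← nrm_fix h X htz]
  exact ht.2

theorem exists_tker (h : Semireg W Z₀) {p : ℕ} (hp : p.Prime) {X : Subgroup W}
    (hX : ¬ p ∣ Nat.card X) (hXne : X ≠ ⊥) {a : A} (ha : a ∈ prim p A) (haz : a ∉ Z₀) :
    ∃ t : A, t ∈ tker p X ∧ t ≠ 1 := by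
  classical
  have := Fintype.ofFinite X
  obtain ⟨x₀, hx₀, hx₀1⟩ : ∃ x ∈ X, x ≠ 1 := X.bot_or_exists_ne_one.resolve_left hXne
  have he : nrm X a ∈ Z₀ := (h.semi x₀ _ (smul_nrm X hx₀ a)).resolve_right hx₀1
  have hep : nrm X a ∈ prim p A := by
    rw [nrm_apply]
    exact Subgroup.prod_mem _ fun x _ => smul_mem_prim _ ha
  refine ⟨a ^ Nat.card X * (nrm X a)⁻¹, ⟨(prim p A).mul_mem ((prim p A).pow_mem ha _) ((prim p A).inv_mem hep), ?_⟩, fun e => haz ?_⟩
  · show nrm X (a ^ Nat.card X * (nrm X a)⁻¹) = 1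
    rw [map_mul, map_pow, map_inv, nrm_fix h X he, mul_inv_cancel]
  · have h1 : a ^ Nat.card X ∈ Z₀ := by rw [mul_inv_eq_one.1 e]; exact he
    obtain ⟨k, hk⟩ := ha
    have hc : (p ^ k).Coprime (Nat.card X) := ((hp.coprime_iff_not_dvd).2 hX).pow_left k
    have hc' : (Nat.card X).Coprime (orderOf a) :=
      (hc.coprime_dvd_left (orderOf_dvd_of_pow_eq_one hk)).symm
    obtain ⟨m, hm⟩ := exists_pow_eq_self_of_coprime (x := a) hc'
    rw [← hm]
    exact pow_mem h1 m

/-- No non-trivial normal `s`-subgroup, `s ≠ p`, if there is a non-trivial `p`-element. -/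
theorem normal_sgroup_eq_bot (h : Semireg W Z₀) {p : ℕ} (hp : p.Prime) {X : Subgroup W}
    [hXn : X.Normal] {s : ℕ} (hs : s.Prime) (hsp : s ≠ p) (hX : IsPGroup s X)
    {v : W} (hv : ∃ k : ℕ, v ^ p ^ k = 1) (hv1 : v ≠ 1) {a : A} (ha : a ∈ prim p A)
    (haz : a ∉ Z₀) : X = ⊥ := by
  classical
  by_contra hne
  have := Fact.mk hp
  have := Fact.mk hs
  have hXc : ¬ p ∣ Nat.card X := by
    obtain ⟨n, hn⟩ := IsPGroup.iff_card.1 hX
    rw [hn]
    exact fun hd => hsp ((Nat.prime_dvd_prime_iff_eq hp hs).1 (hp.dvd_of_dvd_pow hd)).symm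
  obtain ⟨t, ht, ht1⟩ := exists_tker h hp hXc hne ha haz
  have hinv : ∀ σ : W, ∀ b : A, b ∈ tker p X → σ • b ∈ tker p X := fun σ b hb =>
    ⟨smul_mem_prim σ hb.1, by
      show nrm X (σ • b) = 1
      rw [nrm_smul X (fun x hx => hXn.conj_mem' x hx σ) b, show nrm X b = 1 from hb.2, smul_one]⟩
  letI : MulAction (zpowers v) (tker (A := A) p X) :=
    { smul := fun g b => ⟨(g : W) • (b : A), hinv g b b.2⟩
      one_smul := fun b => Subtype.ext (one_smul W (b : A))
      mul_smul := fun g g' b => Subtype.ext (mul_smul (g : W) (g' : W) (b : A)) }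
  have hP : IsPGroup p (zpowers v) := by
    obtain ⟨k, hk⟩ := hv
    obtain ⟨i, -, hi⟩ := (Nat.dvd_prime_pow hp).1 (orderOf_dvd_of_pow_eq_one hk)
    exact IsPGroup.of_card (n := i) (by rw [Nat.card_zpowers, hi])
  have hTp : IsPGroup p (tker (A := A) p X) := fun b => by
    obtain ⟨k, hk⟩ := b.2.1
    exact ⟨k, Subtype.ext hk⟩
  have : Nontrivial (tker (A := A) p X) :=
    ⟨⟨t, ht⟩, 1, fun e => ht1 (congrArg Subtype.val e)⟩
  have h1 : (1 : tker (A := A) p X) ∈ MulAction.fixedPoints (zpowers v) (tker (A := A) p X) :=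
    fun g => Subtype.ext (smul_one (g : W))
  obtain ⟨b, hb, hb1⟩ := hP.exists_fixed_point_of_prime_dvd_card_of_fixed_point _
    (hTp.card_eq_or_dvd.resolve_left Finite.one_lt_card.ne') h1
  have hfix : v • (b : A) = b := congrArg Subtype.val (hb ⟨v, mem_zpowers v⟩)
  exact hb1 (Subtype.ext (tker_inf h hp hXc b.2 ((h.semi v _ hfix).resolve_right hv1)).symm)

/-- For `s ≠ p` and odd, Sylow `s`-subgroups of a semiregular group are cyclic. -/
theorem isCyclic_sgroup (h : Semireg W Z₀) {p : ℕ} (hp : p.Prime) {s : ℕ} [hs : Fact s.Prime]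
    (hsp : s ≠ p) (hs2 : s ≠ 2) {a : A} (ha : a ∈ prim p A) (haz : a ∉ Z₀) {S : Subgroup W}
    (hS : IsPGroup s S) : IsCyclic S := by
  classical
  by_contra hnc
  obtain ⟨X, -, hX, hXc⟩ := H82.exists_elemAb_sq hs2 hS hnc
  have hXp : ¬ p ∣ Nat.card X := by
    rw [hXc]
    exact fun hd => hsp ((Nat.prime_dvd_prime_iff_eq hp hs.out).1 (hp.dvd_of_dvd_pow hd)).symm
  have hXne : X ≠ ⊥ := by
    intro e
    rw [e, Subgroup.card_bot] at hXc
    nlinarith [hs.out.two_le]
  obtain ⟨t, ht, ht1⟩ := exists_tker h hp hXp hXne ha haz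
  have hcomm : ∀ x y : X, x * y = y * x := fun x y => hX.1.is_comm.comm x y
  have hinv : ∀ σ : X, ∀ b : A, b ∈ tker p X → (σ : W) • b ∈ tker p X := fun σ b hb =>
    ⟨smul_mem_prim _ hb.1, by
      show nrm X ((σ : W) • b) = 1
      rw [nrm_smul X (fun x hx => ?_) b, show nrm X b = 1 from hb.2, smul_one]
      exact mul_mem (mul_mem (inv_mem σ.2) hx) σ.2⟩
  letI : MulDistribMulAction X (tker (A := A) p X) :=
    { smul := fun g b => ⟨(g : W) • (b : A), hinv g b b.2⟩
      one_smul := fun b => Subtype.ext (one_smul W (b : A))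
      mul_smul := fun g g' b => Subtype.ext (mul_smul (g : W) (g' : W) (b : A))
      smul_one := fun g => Subtype.ext (smul_one (g : W))
      smul_mul := fun g b b' => Subtype.ext (smul_mul' (g : W) (b : A) (b' : A)) }
  have : Nontrivial (tker (A := A) p X) :=
    ⟨⟨t, ht⟩, 1, fun e => ht1 (congrArg Subtype.val e)⟩
  have hcyc : IsCyclic X := H2.isCyclic_of_fpf_comm (M := tker (A := A) p X)
    (fun g hg b hb => Subtype.ext (tker_inf h hp hXp b.2
      ((h.semi _ _ (congrArg Subtype.val hb)).resolve_right fun e => hg (Subtype.ext e)))) hcomm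
  obtain ⟨g, hg⟩ := hcyc.exists_generator
  have h1 := orderOf_eq_card_of_forall_mem_zpowers hg
  have h2 : orderOf g ∣ s := orderOf_dvd_of_pow_eq_one (Subtype.ext (hX.2 g g.2))
  rw [h1, hXc] at h2
  have := Nat.le_of_dvd hs.out.pos h2
  nlinarith [hs.out.two_le]

/-- The elements acting trivially on the `p`-part modulo `Z₀`. -/
def stabMod (h : Semireg W Z₀) (p : ℕ) : Subgroup W where
  carrier := {π | ∀ a ∈ prim p A, π • a * a⁻¹ ∈ Z₀}
  one_mem' a _ := by simp
  mul_mem' {σ τ} hσ hτ a ha := by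
    have := mul_mem (hτ a ha) (hσ a ha)
    rwa [show (σ * τ) • a * a⁻¹ = (τ • a * a⁻¹) * (σ • a * a⁻¹) by
      rw [← h.fix σ _ (hτ a ha), mul_smul, smul_mul', smul_inv']
      simp [mul_assoc]]
  inv_mem' {σ} hσ a ha := by
    have := inv_mem (hσ _ (smul_mem_prim σ⁻¹ ha))
    rw [smul_inv_smul, mul_inv_rev, inv_inv] at this
    exact this

theorem stabMod_normal (h : Semireg W Z₀) (p : ℕ) : (stabMod h p).Normal where
  conj_mem π hπ τ a ha := by
    have h1 := hπ _ (smul_mem_prim τ⁻¹ ha)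
    have h2 := h.fix τ _ h1
    rw [smul_mul', smul_inv', smul_inv_smul, ← mul_smul, ← mul_smul] at h2
    rw [h2]
    exact h1

/-- Main result. -/
theorem not_semireg (h : Semireg W Z₀) {p q : ℕ} (hp : p.Prime) (hq : q.Prime) (hpq : p ≠ q)
    (hv : ∃ v : W, v ≠ 1 ∧ ∃ k : ℕ, v ^ p ^ k = 1) (hu : ∃ u : W, u ≠ 1 ∧ ∃ k : ℕ, u ^ q ^ k = 1)
    (ha : ∃ a ∈ prim p A, a ∉ Z₀) (hb : ∃ b ∈ prim q A, b ∉ Z₀) : False := by
  classical
  obtain ⟨v, hv1, hv⟩ := hv
  obtain ⟨u, hu1, hu⟩ := hu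
  obtain ⟨a, ha, haz⟩ := ha
  obtain ⟨b, hb, hbz⟩ := hb
  have key : ∀ (X : Subgroup W), X.Normal → ∀ s : ℕ, s.Prime → IsPGroup s X → X = ⊥ := by
    intro X hX s hs hXs
    by_cases hsp : s = p
    · exact normal_sgroup_eq_bot h hq hs (hsp ▸ hpq) hXs hu hu1 hb hbz
    · exact normal_sgroup_eq_bot h hp hs hsp hXs hv hv1 ha haz
  by_cases h2 : 2 ∣ Nat.card W
  · obtain ⟨r, hr, hr2, c, hc, hcz⟩ : ∃ r : ℕ, r.Prime ∧ r ≠ 2 ∧ ∃ c ∈ prim r A, c ∉ Z₀ := by
      by_cases hp2 : p = 2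
      · exact ⟨q, hq, fun e => hpq (hp2.trans e.symm), b, hb, hbz⟩
      · exact ⟨p, hp, hp2, a, ha, haz⟩
    have hinv : ∀ σ : W, orderOf σ = 2 → ∀ x : A, σ • x * x ∈ Z₀ := by
      intro σ hσ x
      have hσ1 : σ ≠ 1 := fun e => by rw [e, orderOf_one] at hσ; omega
      refine (h.semi σ _ ?_).resolve_right hσ1
      rw [smul_mul', ← mul_smul, ← sq, ← hσ, pow_orderOf_eq_one, one_smul, mul_comm]
    have hK : stabMod h r = ⊥ := by
      refine key _ (stabMod_normal h r) r hr fun π => ?_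
      obtain ⟨j, hj⟩ := hc
      refine ⟨j, Subtype.ext ?_⟩
      have hz := π.2 c ⟨j, hj⟩
      have h1 := pow_smul_eq h hz (σ := (π : W)) (a := c) (by rw [mul_comm, inv_mul_cancel_right]) (r ^ j)
      rw [mul_pow, inv_pow, hj, inv_one, mul_one, ← smul_pow', hj, smul_one, mul_one] at h1
      simpa using (h.semi _ _ h1).resolve_left hcz
    have huniq : ∀ σ τ : W, orderOf σ = 2 → orderOf τ = 2 → σ = τ := by
      intro σ τ hσ hτ
      have hm : σ * τ ∈ stabMod h r := by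
        intro x _
        have h3 := h.fix σ _ (hinv τ hτ x)
        rw [smul_mul', ← mul_smul] at h3
        have h4 : (σ * τ) • x * x⁻¹ = (τ • x * x) * (σ • x * x)⁻¹ := by
          rw [← h3, mul_inv, mul_assoc ((σ * τ) • x), mul_inv_cancel_left]
        rw [h4]
        exact mul_mem (hinv τ hτ x) (inv_mem (hinv σ hσ x))
      rw [hK, Subgroup.mem_bot] at hm
      have : τ⁻¹ = τ := by
        rw [inv_eq_iff_mul_eq_one, ← sq, ← hτ, pow_orderOf_eq_one]
      rw [mul_eq_one_iff_eq_inv, this] at hm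
      exact hm
    have : Fact (Nat.Prime 2) := ⟨Nat.prime_two⟩
    obtain ⟨i, hi⟩ := exists_prime_orderOf_dvd_card' 2 h2
    have hn : (zpowers i).Normal := ⟨fun x hx g => by
      obtain ⟨n, rfl⟩ := mem_zpowers_iff.1 hx
      rw [← conj_zpow, huniq (g * i * g⁻¹) i (by
        rw [← MulAut.conj_apply, MulEquiv.orderOf_eq, hi]) hi]
      exact zpow_mem (mem_zpowers i) n⟩
    have := key _ hn 2 Nat.prime_two (IsPGroup.of_card (n := 1) (by
      rw [Nat.card_zpowers, hi, pow_one]))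
    rw [Subgroup.zpowers_eq_bot] at this
    rw [this, orderOf_one] at hi
    omega
  · have hZ : IsZGroup W := ⟨fun s hs S => by
      have := Fact.mk hs
      by_cases hS : (S : Subgroup W) = ⊥
      · rw [hS]; infer_instance
      have hs2 : s ≠ 2 := by
        rintro rfl
        exact h2 ((S.isPGroup'.card_eq_or_dvd.resolve_left fun e =>
          hS (Subgroup.eq_bot_of_card_eq _ e)).trans (Subgroup.card_subgroup_dvd_card _))
      by_cases hsp : s = p
      · exact isCyclic_sgroup h hq (hsp ▸ hpq) hs2 hb hbz S.isPGroup'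
      · exact isCyclic_sgroup h hp hsp hs2 ha haz S.isPGroup'⟩
    have : Nontrivial W := ⟨v, 1, hv1⟩
    obtain ⟨s, V, hs, hVn, hVne, hVs⟩ := H1.exists_normal_pgroup_ne_bot W
    exact hVne (key V hVn s hs hVs)

end H33.SR
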