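import Cfsg.Agent.H5.TIHall
import Cfsg.Agent.H3.SystemNormalizer
import Cfsg.Agent.H2.NonsolvableStructure
import Cfsg.Agent.H58.AutQ8
import Cfsg.Agent.H86.AutDihedral
import Cfsg.Agent.H70.SL2Facts
import Cfsg.Agent.H28.FCBasic
import Cfsg.Agent.H1.Fitting

/-!
TI Hall subgroups of `π`-separable groups: solvability criterion.
-/

set_option autoImplicit false
set_option linter.style.haveILetI false
set_option linter.unusedSectionVars false

namespace H33

open Subgroup
open scoped Pointwise

universe u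

variable {G : Type u} [Group G] [Finite G]

/-- The chain condition of `π`-separability with respect to the primes of `H`. -/
def SepFor (H : Subgroup G) : Prop :=
  ∃ (n : ℕ) (M : Fin (n + 1) → Subgroup G), M 0 = ⊥ ∧ M (Fin.last n) = ⊤ ∧ Monotone M ∧
    (∀ i, (M i).Normal) ∧
    ∀ i : Fin n, (∀ q : ℕ, q.Prime → q ∣ (M i.castSucc).relIndex (M i.succ) → q ∣ Nat.card H) ∨
      ((M i.castSucc).relIndex (M i.succ)).Coprime (Nat.card H)

/-- The `π'`-core and the normalizer generate, by the Frattini argument on a single prime. -/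
theorem ti_frattini {H K : Subgroup G} (hTI : Cfsg.IsTISubset (H : Set G))
    (hHall : (Nat.card H).Coprime H.index) (hsep : SepFor H) (hH0 : H ≠ ⊥) (hKn : K.Normal)
    (hKc : (Nat.card K).Coprime (Nat.card H))
    (hKbig : ∀ R : Subgroup G, R.Normal → (Nat.card R).Coprime (Nat.card H) → R ≤ K) :
    K ⊔ normalizer (H : Set G) = ⊤ := by
  haveI := hKn
  obtain ⟨n, M, hM0, hMl, -, hMn, hfac⟩ := hsep
  have hlast : ¬ M (Fin.last n) ≤ K := fun h => hH0 (H.eq_bot_of_card_eq (Nat.eq_one_of_dvd_coprimes
    hKc (Subgroup.card_dvd_of_le (le_top.trans (hMl ▸ h))) dvd_rfl))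
  obtain ⟨i, hi1, hi2⟩ : ∃ i : Fin n, M i.castSucc ≤ K ∧ ¬ M i.succ ≤ K := by
    by_contra hcon
    push Not at hcon
    exact hlast (Fin.induction (motive := fun j => M j ≤ K) (hM0 ▸ bot_le) hcon (Fin.last n))
  haveI := hMn i.succ
  set R := M i.succ ⊔ K with hR
  have hKR : K.relIndex R ∣ (M i.castSucc).relIndex (M i.succ) := by
    have hA : K.relIndex R = (K ⊓ M i.succ).relIndex (M i.succ) := by
      rw [hR, Subgroup.relIndex_sup_right, Subgroup.inf_relIndex_right]
    rw [hA, Subgroup.inf_relIndex_right]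
    exact Subgroup.relIndex_dvd_of_le_left _ hi1
  have hcardR : Nat.card R = Nat.card K * K.relIndex R := by
    have h := Subgroup.relIndex_mul_relIndex ⊥ K R bot_le le_sup_right
    rw [Subgroup.relIndex_bot_left, Subgroup.relIndex_bot_left] at h
    exact h.symm
  have hπ : ∀ q : ℕ, q.Prime → q ∣ (M i.castSucc).relIndex (M i.succ) → q ∣ Nat.card H := by
    refine (hfac i).resolve_right fun hc => hi2 (le_sup_left.trans (hKbig R inferInstance ?_))
    rw [hcardR]
    exact hKc.mul_left (hc.coprime_dvd_left hKR)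
  set H₀ := H ⊓ R with hH₀
  have hRK : R = K ⊔ H₀ := by
    refine le_antisymm ?_ (sup_le le_sup_right inf_le_right)
    rw [← Subgroup.relIndex_eq_one]
    refine Nat.eq_one_iff_not_exists_prime_dvd.mpr fun q hq hd => ?_
    have h1 : q ∣ H.index := by
      refine (hd.trans ?_).trans (H3.relIndex_normal_dvd_index H R)
      rw [← Subgroup.inf_relIndex_right H R]
      exact Subgroup.relIndex_dvd_of_le_left _ le_sup_right
    have h2 : q ∣ Nat.card H :=
      hπ q hq ((hd.trans (Subgroup.relIndex_dvd_of_le_left _ le_sup_left)).trans hKR)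
    exact Nat.not_coprime_of_dvd_of_dvd hq.one_lt h2 h1 hHall
  have hH₀ne : H₀ ≠ ⊥ := fun h => hi2 (le_sup_left.trans (by rw [← hR, hRK, h, sup_bot_eq]))
  obtain ⟨q, hq, hqd⟩ := Nat.exists_prime_and_dvd (fun e => hH₀ne (card_eq_one.mp e) :
    Nat.card H₀ ≠ 1)
  haveI := Fact.mk hq
  obtain ⟨S⟩ : Nonempty (Sylow q H₀) := inferInstance
  set Q := (S : Subgroup H₀).map H₀.subtype with hQ
  have hQH : Q ≤ H₀ := map_subtype_le _
  have hQR : Q ≤ R := hQH.trans inf_le_right
  have hQc : Nat.card Q = q ^ (Nat.card H₀).factorization q := by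
    rw [hQ, card_map_of_injective H₀.subtype_injective, S.card_eq_multiplicity]
  have hqK : ¬ q ∣ Nat.card K := fun h => hq.not_dvd_one
    (hKc ▸ Nat.dvd_gcd h (hqd.trans (card_dvd_of_le inf_le_left)))
  have hidx : ¬ q ∣ Q.relIndex R := by
    intro h
    have hR' : Nat.card R ∣ Nat.card K * Nat.card H₀ := by
      rw [hRK, sup_comm, mul_comm]
      exact H1.card_sup_dvd_mul H₀ K
    have hd : q ^ ((Nat.card H₀).factorization q + 1) ∣ Nat.card R := by
      rw [pow_succ, ← hQc, ← relIndex_bot_left (H := R),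
        ← relIndex_mul_relIndex ⊥ Q R bot_le hQR, relIndex_bot_left]
      exact mul_dvd_mul_left _ h
    have h2 : q ^ ((Nat.card H₀).factorization q + 1) ∣ Nat.card H₀ :=
      ((hq.coprime_iff_not_dvd.mpr hqK).pow_left _).dvd_of_dvd_mul_left (hd.trans hR')
    have := (hq.pow_dvd_iff_le_factorization Nat.card_pos.ne').mp h2
    omega
  set P : Sylow q R := (((S.isPGroup'.map H₀.subtype).comap_subtype (K := R))).toSylow hidx
  have hfr := Sylow.normalizer_sup_eq_top P
  rw [show (P : Subgroup R) = Q.subgroupOf R from rfl, map_subgroupOf_eq_of_le hQR] at hfr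
  rw [eq_top_iff, ← hfr, sup_le_iff]
  refine ⟨fun g hg => mem_sup_right ?_, ?_⟩
  · obtain ⟨x, hx, hx1⟩ := Q.bot_or_exists_ne_one.resolve_left fun h => by
      rw [h, card_bot] at hQc
      exact (Nat.one_lt_pow (hq.factorization_pos_of_dvd Nat.card_pos.ne' hqd).ne' hq.one_lt).ne hQc
    exact H5.mem_normalizer_of_ti hTI (hQH hx).1 hx1 (hQH ((mem_normalizer_iff.mp hg x).mp hx)).1
  · rw [hRK]
    exact sup_le le_sup_left ((inf_le_left.trans le_normalizer).trans le_sup_right)

/-- `H` has fixed-point-free modules: it is of Frobenius complement type. -/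
theorem ti_fcInt {H O : Subgroup G} (hTI : Cfsg.IsTISubset (H : Set G))
    (hOn : O.Normal) (hOc : (Nat.card O).Coprime (Nat.card H)) (hOs : Group.IsSolvable O)
    (hnc : ¬ O ≤ centralizer (H : Set G)) : H28.FCInt H := by
  classical
  haveI := hOn
  obtain ⟨A, hA⟩ := (Set.toFinite {A : Subgroup G | A.Normal ∧ A ≤ O ∧ ¬ A ≤ centralizer (H : Set G)}).exists_minimal
    ⟨O, hOn, le_rfl, hnc⟩
  obtain ⟨⟨hAn, hAO, hAc⟩, hAmin⟩ := hA
  haveI := hAn
  haveI hAs : Group.IsSolvable A :=
    Group.isSolvable_of_isSolvable_injective (f := Subgroup.inclusion hAO)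
      (Subgroup.inclusion_injective hAO)
  have hA0 : A ≠ ⊥ := fun h => hAc (h ▸ bot_le)
  have hder : ⁅A, A⁆ ≤ centralizer (H : Set G) := by
    by_contra h
    haveI : Nontrivial A := (Subgroup.nontrivial_iff_ne_bot A).mpr hA0
    have hlt : ⁅A, A⁆ < A := by
      rw [← map_subtype_commutator]
      calc (commutator A).map A.subtype < (⊤ : Subgroup A).map A.subtype :=
            (map_lt_map_iff_of_injective A.subtype_injective).mpr
              (Group.IsSolvable.commutator_lt_top_of_nontrivial A)
        _ = A := by rw [← MonoidHom.range_eq_map, range_subtype]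
    exact hlt.not_ge (hAmin ⟨inferInstance, hlt.le.trans hAO, h⟩ hlt.le)
  set C : Subgroup A := (centralizer (H : Set G)).subgroupOf A with hC
  have hcomm : ∀ a b : A, a * b * a⁻¹ * b⁻¹ ∈ C := fun a b =>
    mem_subgroupOf.mpr (hder (commutator_mem_commutator a.2 b.2))
  haveI hCn : C.Normal := ⟨fun c hc a => by
    have h := mul_mem (hcomm a c) hc
    simpa [mul_assoc] using h⟩
  letI : CommGroup (A ⧸ C) :=
    { (inferInstance : Group (A ⧸ C)) with
      mul_comm := by
        intro a b
        induction a using QuotientGroup.induction_on with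
        | _ a =>
        induction b using QuotientGroup.induction_on with
        | _ b =>
        rw [← QuotientGroup.mk_mul, ← QuotientGroup.mk_mul, QuotientGroup.eq_iff_div_mem,
          div_eq_mul_inv, mul_inv_rev, ← mul_assoc]
        simpa [mul_assoc] using hcomm a b }
  let c : H →* MulAut A := (MulAut.conjNormal (H := A)).comp H.subtype
  have hcC : ∀ (h : H), C ≤ C.comap (c h).toMonoidHom := by
    intro h x hx
    rw [mem_comap, mem_subgroupOf, mem_centralizer_iff]
    intro y hy
    have hx' := mem_centralizer_iff.mp (mem_subgroupOf.mp hx)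
    show y * ((h : G) * x * (h : G)⁻¹) = (h : G) * x * (h : G)⁻¹ * y
    rw [hx' h h.2, mul_inv_cancel_right]
    exact hx' y hy
  let ρm : H →* Monoid.End (A ⧸ C) :=
    { toFun := fun h => QuotientGroup.map C C (c h).toMonoidHom (hcC h)
      map_one' := MonoidHom.ext fun x => by
        induction x using QuotientGroup.induction_on with
        | _ x => simp; rfl
      map_mul' := fun a b => MonoidHom.ext fun x => by
        induction x using QuotientGroup.induction_on with
        | _ x => simp [MulAut.mul_apply]; rfl }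
  have hρ : ∀ (h : H) (a : A), ρm h (a : A ⧸ C) = ((c h a : A) : A ⧸ C) := fun h a => rfl
  have hfree : ∀ h : H, h ≠ 1 → ∀ v : A ⧸ C, ρm h v = v → v = 1 := by
    intro h hh v hv
    induction v using QuotientGroup.induction_on with
    | _ a =>
    rw [hρ, QuotientGroup.eq] at hv
    have hcop : (Nat.card (C.map A.subtype)).Coprime (Nat.card (zpowers (h : G))) :=
      (hOc.coprime_dvd_left (card_dvd_of_le ((map_subtype_le C).trans hAO))).coprime_dvd_right
        (card_dvd_of_le (zpowers_le.mpr h.2))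
    have hCG : C.map A.subtype = centralizer (H : Set G) ⊓ A := subgroupOf_map_subtype _ _
    have hzN : zpowers (h : G) ≤ normalizer ((C.map A.subtype : Subgroup G) : Set G) := by
      rw [zpowers_le]
      refine centralizer_le_normalizer _ ?_
      rw [mem_centralizer_iff, hCG]
      exact fun x hx => (mem_centralizer_iff.mp (mem_inf.mp hx).1 h h.2).symm
    have hstep : (a : G)⁻¹ * ((h : G) * a * (h : G)⁻¹) ∈ C.map A.subtype :=
      ⟨_, C.inv_mem hv, by simp [c]⟩
    -- the coset is fixed by all of `⟨h⟩`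
    have hall : ∀ z ∈ zpowers (h : G), (a : G)⁻¹ * (z * a * z⁻¹) ∈ C.map A.subtype := by
      intro z hz
      obtain ⟨i, rfl⟩ : ∃ i : ℕ, (h : G) ^ i = z :=
        mem_powers_iff_mem_zpowers.mpr hz
      clear hz
      induction i with
      | zero => simp
      | succ i ih =>
        have h1 : (h : G) * ((a : G)⁻¹ * ((h : G) ^ i * a * ((h : G) ^ i)⁻¹)) * (h : G)⁻¹ ∈ C.map A.subtype :=
          (mem_normalizer_iff.mp (hzN (mem_zpowers _)) _).mp ih
        have h2 := mul_mem hstep h1
        rw [pow_succ']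
        convert h2 using 1
        group
    obtain ⟨z, hz, haz⟩ := H1.exists_fixed_mem_coset (A := zpowers (h : G)) (N := C.map A.subtype)
      hzN hcop (Or.inr inferInstance) (k := (a : G)) hall
    have hzA : z ∈ A := by
      have h1 := mul_mem a.2 (map_subtype_le C haz)
      simpa [mul_assoc] using h1
    have hzH : z ∈ centralizer (H : Set G) := by
      have hhz : (h : G) * z = z * h := mem_centralizer_iff.mp hz h (mem_zpowers _)
      have hzN' : z ∈ normalizer (H : Set G) := by
        refine H5.mem_normalizer_of_ti hTI h.2 (fun e => hh (Subtype.ext e)) ?_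
        rw [← hhz, mul_inv_cancel_right]; exact h.2
      rw [mem_centralizer_iff]
      intro y hy
      have h1 : z * y * z⁻¹ * y⁻¹ = 1 := by
        have hd : Disjoint O H := disjoint_of_coprime_natCard hOc
        refine Subgroup.disjoint_def.mp hd ?_ (mul_mem ((mem_normalizer_iff.mp hzN' y).mp hy) (inv_mem hy))
        have h2 := mul_mem (hAO hzA) (hOn.conj_mem _ (inv_mem (hAO hzA)) y)
        simpa [mul_assoc] using h2
      rw [mul_inv_eq_one, mul_inv_eq_iff_eq_mul] at h1
      exact h1.symm
    rw [QuotientGroup.eq_one_iff, hC, mem_subgroupOf]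
    have h1 : (a : G) = z * ((a : G)⁻¹ * z)⁻¹ := by group
    rw [h1]
    refine mul_mem hzH (inv_mem ?_)
    rw [hCG] at haz
    exact (mem_inf.mp haz).1
  -- a prime exponent part
  haveI : Nontrivial (A ⧸ C) := by
    refine Finite.one_lt_card_iff_nontrivial.mp ?_
    rw [← index_eq_card]
    refine C.one_lt_index_of_ne_top fun h => hAc ?_
    exact subgroupOf_eq_top.mp h
  obtain ⟨r, hr, hrd⟩ := Nat.exists_prime_and_dvd
    (Finite.one_lt_card (α := A ⧸ C)).ne'
  haveI := Fact.mk hr
  let V : Subgroup (A ⧸ C) := (powMonoidHom r : A ⧸ C →* A ⧸ C).ker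
  have hV : ∀ (h : H), ∀ v ∈ V, ρm h v ∈ V := fun h v hv => by
    show (ρm h v) ^ r = 1
    rw [← map_pow, show v ^ r = 1 from hv, map_one]
  let ρ : H →* AddMonoid.End (Additive V) :=
    { toFun := fun h =>
        { toFun := fun v => Additive.ofMul ⟨ρm h v.toMul, hV h _ v.toMul.2⟩
          map_zero' := Additive.toMul.injective (Subtype.ext (map_one (ρm h)))
          map_add' := fun x y => Additive.toMul.injective (Subtype.ext (map_mul (ρm h) _ _)) }
      map_one' := AddMonoidHom.ext fun x => Additive.toMul.injective (Subtype.ext (by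
        show ρm 1 (x.toMul : A ⧸ C) = (x.toMul : A ⧸ C)
        rw [map_one]; rfl))
      map_mul' := fun a b => AddMonoidHom.ext fun x => Additive.toMul.injective (Subtype.ext (by
        show ρm (a * b) (x.toMul : A ⧸ C) = ρm a (ρm b (x.toMul : A ⧸ C))
        rw [map_mul]; rfl)) }
  haveI : Nontrivial (Additive V) := by
    obtain ⟨v, hv⟩ := exists_prime_orderOf_dvd_card' r hrd
    have hvV : v ∈ V := show v ^ r = 1 by rw [← hv]; exact pow_orderOf_eq_one v
    refine ⟨Additive.ofMul ⟨v, hvV⟩, 0, fun e => hr.one_lt.ne ?_⟩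
    rw [← hv, eq_comm, orderOf_eq_one_iff]
    exact congrArg Subtype.val (Additive.ofMul.injective e : (⟨v, hvV⟩ : V) = 1)
  have hexp : ∀ x : Additive V, r • x = 0 := fun x =>
    Additive.toMul.injective (Subtype.ext (show (x.toMul : A ⧸ C) ^ r = 1 from x.toMul.2))
  obtain ⟨f, hf1, hfs⟩ := H28.exists_sol_of_exponent hexp ρ (fun h hh x hx =>
    Additive.toMul.injective (Subtype.ext (hfree h hh _
      (congrArg (fun t : Additive V => (t.toMul : A ⧸ C)) hx))))
  refine H28.fcInt_of_sol_charP (fun h => ?_) hf1 hfs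
  have hrA : r ∣ Nat.card A := hrd.trans (card_quotient_dvd_card C)
  exact hr.not_dvd_one (hOc ▸ Nat.dvd_gcd (hrA.trans (card_dvd_of_le hAO)) h)

/-- Commutators of a coprime group of automorphisms of a `p`-group of rank one act trivially. -/
theorem commute_on_rankOne {A R : Type*} [Group A] [Finite A] [Group R] [Finite R] {p : ℕ}
    [Fact p.Prime] (hR : IsPGroup p R) (hcop : (Nat.card A).Coprime (Nat.card R))
    (hrank : IsCyclic R ∨ (p = 2 ∧ ∃ n : ℕ, Nonempty (R ≃* QuaternionGroup (2 ^ n))))
    (f : A →* MulAut R) (a b : A) : f a * f b = f b * f a := by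
  rcases hrank with hc | ⟨rfl, n, ⟨e⟩⟩
  · haveI := hc
    ext x
    obtain ⟨i, hi⟩ := MonoidHom.map_cyclic (f a).toMonoidHom
    obtain ⟨j, hj⟩ := MonoidHom.map_cyclic (f b).toMonoidHom
    simp only [MulEquiv.coe_toMonoidHom] at hi hj
    simp only [MulAut.mul_apply, hi, hj]
    rw [← zpow_mul, ← zpow_mul, mul_comm]
  haveI : NeZero (2 ^ n) := ⟨by positivity⟩
  rcases lt_trichotomy n 1 with hn | rfl | hn
  · have hn0 : n = 0 := by omega
    subst hn0
    haveI : IsCyclic (QuaternionGroup (2 ^ 0)) := QuaternionGroup.quaternionGroup_one_isCyclic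
    haveI : IsCyclic R := isCyclic_of_surjective e.symm.toMonoidHom e.symm.surjective
    ext x
    obtain ⟨i, hi⟩ := MonoidHom.map_cyclic (f a).toMonoidHom
    obtain ⟨j, hj⟩ := MonoidHom.map_cyclic (f b).toMonoidHom
    simp only [MulEquiv.coe_toMonoidHom] at hi hj
    simp only [MulAut.mul_apply, hi, hj]
    rw [← zpow_mul, ← zpow_mul, mul_comm]
  · have h24 : Nat.card (MulAut R) = 24 := by
      rw [Nat.card_congr (MulAut.congr e).toEquiv]
      exact H58.card_mulAut_q8
    have hodd : ¬ 2 ∣ Nat.card f.range := by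
      intro h
      have h2A := h.trans (card_range_dvd f)
      have h2R : 2 ∣ Nat.card R := by
        rw [Nat.card_congr e.toEquiv, Nat.card_eq_fintype_card, QuaternionGroup.card]
        exact ⟨4, by norm_num⟩
      exact Nat.prime_two.not_dvd_one (hcop ▸ Nat.dvd_gcd h2A h2R)
    have h3 : Nat.card f.range ∣ 3 := by
      have hcop2 : (Nat.card f.range).Coprime (2 ^ 3) :=
        ((Nat.prime_two.coprime_iff_not_dvd.mpr hodd).symm).pow_right 3
      refine hcop2.dvd_of_dvd_mul_left ?_
      exact (card_subgroup_dvd_card f.range).trans (dvd_of_eq (h24.trans (by norm_num)))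
    haveI : IsCyclic f.range := by
      haveI := Fact.mk Nat.prime_three
      exact isCyclic_of_card_dvd_prime (p := 3) h3
    letI : CommGroup f.range := IsCyclic.commGroup
    exact congrArg Subtype.val (mul_comm (⟨f a, a, rfl⟩ : f.range) ⟨f b, b, rfl⟩)
  · have h2 : IsPGroup 2 (MulAut R) :=
      (H86.isPGroup_two_mulAut_quaternion n hn).of_equiv (MulAut.congr e).symm
    have htriv : ∀ c : A, f c = 1 := by
      intro c
      obtain ⟨j, hj⟩ := IsPGroup.iff_orderOf.mp h2 (f c)
      have h2R : 2 ∣ Nat.card R := by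
        rw [Nat.card_congr e.toEquiv, Nat.card_eq_fintype_card, QuaternionGroup.card]
        exact Dvd.dvd.mul_right (by norm_num) _
      rw [← orderOf_eq_one_iff]
      exact Nat.eq_one_of_dvd_coprimes ((hcop.symm.coprime_dvd_left h2R).pow_left j)
        (hj ▸ dvd_rfl) ((orderOf_map_dvd f c).trans (orderOf_dvd_natCard c))
    rw [htriv a, htriv b]

theorem sl25_not_solvable :
    ¬ Group.IsSolvable (Matrix.SpecialLinearGroup (Fin 2) (ZMod 5)) := by
  haveI : Fact (Nat.Prime 5) := ⟨by norm_num⟩
  intro h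
  haveI : Nontrivial (Matrix.SpecialLinearGroup (Fin 2) (ZMod 5)) :=
    ⟨⟨⟨!![0, 4; 1, 0], by decide +revert⟩, 1, fun e => by simpa using congrArg (fun M : Matrix.SpecialLinearGroup (Fin 2) (ZMod 5) => M.1 0 0) e⟩⟩
  exact (Group.IsSolvable.commutator_lt_top_of_nontrivial (Matrix.SpecialLinearGroup (Fin 2) (ZMod 5))).ne
    (H70.sl2_perfect (by rw [ZMod.card]; norm_num))

/-- The solvability criterion. -/
theorem ti_main (hcore : H2.PerfectComplementIsSL25.{u}) {H O : Subgroup G}
    (hTI : Cfsg.IsTISubset (H : Set G)) (hnn : ¬ H.Normal)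
    (hHall : (Nat.card H).Coprime (H.subgroupOf (normalizer (H : Set G))).index) (hsep : SepFor H)
    (hO : O = sSup {K : Subgroup G | K.Normal ∧ (Nat.card K).Coprime (Nat.card H)}) :
    O ⊔ normalizer (H : Set G) = ⊤ ∧ (O ⊔ H).Normal ∧
    (Group.IsSolvable G ↔ Group.IsSolvable O ∧
      ∀ K : Subgroup G, K ≤ H → ¬ Nonempty (K ≃* Matrix.SpecialLinearGroup (Fin 2) (ZMod 5))) := by
  classical
  obtain ⟨O', ⟨hO'n, hO'c⟩, hO'max⟩ :=
    (Set.toFinite {K : Subgroup G | K.Normal ∧ (Nat.card K).Coprime (Nat.card H)}).exists_maximal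
      ⟨⊥, inferInstance, by simp⟩
  have hbig : ∀ R : Subgroup G, R.Normal → (Nat.card R).Coprime (Nat.card H) → R ≤ O' := by
    intro R hR hRc
    haveI := hR
    haveI := hO'n
    have h : (O' ⊔ R).Normal ∧ (Nat.card ↥(O' ⊔ R)).Coprime (Nat.card H) :=
      ⟨inferInstance, (hO'c.mul_left hRc).coprime_dvd_left (H1.card_sup_dvd_mul O' R)⟩
    exact le_sup_right.trans (hO'max h le_sup_left)
  have hOO : O = O' := by
    rw [hO]
    exact le_antisymm (sSup_le fun R hR => hbig R hR.1 hR.2) (le_sSup ⟨hO'n, hO'c⟩)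
  subst hOO
  haveI hOn := hO'n
  have hH0 : H ≠ ⊥ := fun h => hnn (h ▸ inferInstance)
  set N := normalizer (H : Set G) with hN
  have hfr : O ⊔ N = ⊤ :=
    ti_frattini hTI (H5.coprime_index_of_ti hTI hHall) hsep hH0 hOn hO'c hbig
  have hnc : ¬ O ≤ centralizer (H : Set G) := fun h => hnn (normalizer_eq_top_iff.mp
    (top_le_iff.mp (hfr.ge.trans (sup_le (h.trans (centralizer_le_normalizer _)) le_rfl))))
  refine ⟨hfr, ?_, ?_⟩
  · rw [← normalizer_eq_top_iff, ← top_le_iff, ← hfr]
    refine sup_le (le_trans le_sup_left le_normalizer) fun x hx => mem_normalizer_fintype fun y hy => ?_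
    obtain ⟨o, ho, h, hh, rfl⟩ := mem_sup_of_normal_left.mp hy
    rw [show x * (o * h) * x⁻¹ = (x * o * x⁻¹) * (x * h * x⁻¹) by group]
    exact mul_mem_sup (hOn.conj_mem o ho x) ((mem_normalizer_iff.mp hx h).mp hh)
  constructor
  · intro hG
    refine ⟨inferInstance, fun K _ ⟨e⟩ => sl25_not_solvable ?_⟩
    exact Group.isSolvable_of_surjective (f := e.toMonoidHom) e.surjective
  rintro ⟨hOs, hno⟩
  have hFC := ti_fcInt hTI hOn hO'c hOs hnc
  haveI hHs : Group.IsSolvable H := by
    by_contra hns
    obtain ⟨P, -, -, ⟨e⟩⟩ := H2.exists_perfect_sl25 hcore hFC hns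
    exact hno (P.map H.subtype) (map_subtype_le P)
      ⟨((P.equivMapOfInjective _ H.subtype_injective).symm.trans e)⟩
  -- a complement of `H` in its normalizer
  haveI : (H.subgroupOf N).Normal := normal_in_normalizer
  have hHc : Nat.card (H.subgroupOf N) = Nat.card H :=
    Nat.card_congr (subgroupOfEquivOfLe le_normalizer).toEquiv
  obtain ⟨Q, hQ⟩ := exists_right_complement'_of_coprime (N := H.subgroupOf N) (hHc ▸ hHall)
  have hQc : (Nat.card Q).Coprime (Nat.card H) := by
    rw [← hQ.symm.index_eq_card]; exact hHall.symm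
  let ψ : Q →* MulAut H := H.normalizerMonoidHom.comp Q.subtype
  have hψ : ∀ (a : Q) (h : H), ((ψ a h : H) : G) = ((a : N) : G) * h * ((a : N) : G)⁻¹ := fun a h => rfl
  have hQG : Q.map N.subtype ≤ N := map_subtype_le Q
  -- the kernel lies in `O`
  have hker : ∀ a : Q, ψ a = 1 → ((a : N) : G) ∈ O := by
    set K : Subgroup G := (ψ.ker.map Q.subtype).map N.subtype with hK
    have hKn : N ≤ normalizer (K : Set G) := by
      intro x hx
      refine mem_normalizer_fintype ?_
      rintro _ ⟨_, ⟨a, ha, rfl⟩, rfl⟩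
      have hx' : (⟨x, hx⟩ : N) ∈ ((H.subgroupOf N ⊔ Q : Subgroup N) : Set N) := by
        rw [hQ.sup_eq_top]; trivial
      rw [normal_mul] at hx'
      obtain ⟨h, hh, q, hq, hxe⟩ := hx'
      refine ⟨_, ⟨(⟨q, hq⟩ : Q) * a * (⟨q, hq⟩ : Q)⁻¹,
        (inferInstance : ψ.ker.Normal).conj_mem a ha _, rfl⟩, ?_⟩
      have hxG : x = (h : G) * (q : G) := congrArg Subtype.val hxe.symm
      have hcomm : ∀ y ∈ H, ((q : G) * ((a : N) : G) * (q : G)⁻¹) * y =
          y * ((q : G) * ((a : N) : G) * (q : G)⁻¹) := by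
        intro y hy
        have ha' : ψ a = 1 := ha
        have hy' : (q : G)⁻¹ * y * (q : G) ∈ H := (mem_normalizer_iff''.mp q.2 y).mp hy
        have h1 := hψ a ⟨_, hy'⟩
        rw [ha'] at h1
        have h2 : (q : G)⁻¹ * y * q = ((a : N) : G) * ((q : G)⁻¹ * y * q) * ((a : N) : G)⁻¹ := h1
        calc ((q : G) * ((a : N) : G) * (q : G)⁻¹) * y
            = (q : G) * (((a : N) : G) * ((q : G)⁻¹ * y * q) * ((a : N) : G)⁻¹) *
              ((a : N) : G) * (q : G)⁻¹ := by group
          _ = (q : G) * ((q : G)⁻¹ * y * q) * ((a : N) : G) * (q : G)⁻¹ := by rw [← h2]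
          _ = y * ((q : G) * ((a : N) : G) * (q : G)⁻¹) := by group
      show (q : G) * ((a : N) : G) * (q : G)⁻¹ = x * ((a : N) : G) * x⁻¹
      rw [hxG]
      have hhH : (h : G) ∈ H := mem_subgroupOf.mp hh
      calc (q : G) * ((a : N) : G) * (q : G)⁻¹
          = ((q : G) * ((a : N) : G) * (q : G)⁻¹) * h * (h : G)⁻¹ := by group
        _ = h * ((q : G) * ((a : N) : G) * (q : G)⁻¹) * (h : G)⁻¹ := by rw [hcomm _ hhH]
        _ = (h : G) * q * ((a : N) : G) * ((h : G) * q)⁻¹ := by group
    haveI : (O ⊔ K).Normal := by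
      rw [← normalizer_eq_top_iff, ← top_le_iff, ← hfr]
      refine sup_le (le_trans le_sup_left le_normalizer) fun x hx => mem_normalizer_fintype fun y hy => ?_
      obtain ⟨o, ho, k, hk, rfl⟩ := mem_sup_of_normal_left.mp hy
      rw [show x * (o * k) * x⁻¹ = (x * o * x⁻¹) * (x * k * x⁻¹) by group]
      exact mul_mem_sup (hOn.conj_mem o ho x) ((mem_normalizer_iff.mp (hKn hx) k).mp hk)
    have hKc : (Nat.card K).Coprime (Nat.card H) := by
      rw [hK, card_map_of_injective N.subtype_injective, card_map_of_injective Q.subtype_injective]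
      exact hQc.coprime_dvd_left (card_subgroup_dvd_card _)
    have hle := hbig (O ⊔ K) inferInstance
      ((hO'c.mul_left hKc).coprime_dvd_left (by
        rw [sup_comm, mul_comm]; exact H1.card_sup_dvd_mul K O))
    exact fun a ha => hle (mem_sup_right ⟨_, ⟨a, ha, rfl⟩, rfl⟩)
  -- commutators of `Q` centralise `H`
  have hcommQ : ∀ a b : Q, ψ (a * b * a⁻¹ * b⁻¹) = 1 := by
    intro a b
    set c := a * b * a⁻¹ * b⁻¹ with hc
    have hcent : ∀ f ∈ Cfsg.fittingSubgroup H, ψ c f = f := by
      have key : Cfsg.fittingSubgroup H ≤ (ψ c).toMonoidHom.eqLocus (MonoidHom.id H) := by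
        rw [H1.fittingSubgroup_eq_iSup_pCore]
        refine iSup_le fun r => ?_
        haveI := Fact.mk r.2
        set R := Cfsg.pCore (r : ℕ) H with hR
        have hinv : ∀ (φ : MulAut H), ∀ x ∈ R, φ x ∈ R := by
          intro φ x hx
          haveI : (R.map φ.toMonoidHom).Normal :=
            (H1.pCore_normal' (r : ℕ) H).map _ φ.surjective
          exact H1.le_pCore ((H1.isPGroup_pCore (r : ℕ) H).map _) (mem_map_of_mem φ.toMonoidHom hx)
        let res : MulAut H →* MulAut R :=
          { toFun := fun φ =>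
              { toFun := fun x => ⟨φ x, hinv φ x x.2⟩
                invFun := fun x => ⟨φ⁻¹ x, hinv φ⁻¹ x x.2⟩
                left_inv := fun x => Subtype.ext (φ.symm_apply_apply x)
                right_inv := fun x => Subtype.ext (φ.apply_symm_apply x)
                map_mul' := fun x y => Subtype.ext (map_mul φ (x : H) y) }
            map_one' := MulEquiv.ext fun x => rfl
            map_mul' := fun φ χ => MulEquiv.ext fun x => rfl }
        have hrank : IsCyclic R ∨ ((r : ℕ) = 2 ∧ ∃ n : ℕ, Nonempty (R ≃* QuaternionGroup (2 ^ n))) := by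
          by_cases hr2 : (r : ℕ) = 2
          · refine (H2.fcInt_isCyclic_or_quaternion hFC ?_).imp_right fun h => ⟨hr2, h⟩
            have := H1.isPGroup_pCore (r : ℕ) H
            rw [← hR] at this
            rwa [hr2] at this
          · exact Or.inl (H2.fcInt_isCyclic_sylow hFC hr2 (H1.isPGroup_pCore (r : ℕ) H))
        have hcomm := commute_on_rankOne (A := Q) (R := R) (H1.isPGroup_pCore (r : ℕ) H)
          (hQc.coprime_dvd_right (card_subgroup_dvd_card R)) hrank (res.comp ψ) a b
        have h1 : (res.comp ψ) c = 1 := by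
          rw [hc, map_mul, map_mul, map_mul, map_inv, map_inv, hcomm]; group
        intro x hx
        exact congrArg (Subtype.val) (DFunLike.congr_fun h1 ⟨x, hx⟩)
      exact fun f hf => key hf
    refine MulEquiv.ext fun h => ?_
    set φ := ψ c with hφ
    have hz : h⁻¹ * φ h ∈ Cfsg.fittingSubgroup H := by
      refine H1.centralizer_fitting_le_of_isSolvable (G := H) inferInstance ?_
      rw [mem_centralizer_iff]
      intro f hf
      haveI : (Cfsg.fittingSubgroup H).Normal := by
        rw [H1.fittingSubgroup_eq_iSup_pCore]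
        exact H1.sSup_normal _ (by rintro _ ⟨p, rfl⟩; exact H1.pCore_normal' _ H)
      have hf' := hcent _ ((inferInstance : (Cfsg.fittingSubgroup H).Normal).conj_mem f hf h)
      rw [map_mul, map_mul, map_inv, hcent f hf] at hf'
      calc f * (h⁻¹ * φ h) = h⁻¹ * (h * f * h⁻¹) * φ h := by group
        _ = h⁻¹ * (φ h * f * (φ h)⁻¹) * φ h := by rw [hf']
        _ = h⁻¹ * φ h * f := by group
    set z := h⁻¹ * φ h with hzdef
    have hpow : ∀ k : ℕ, (φ ^ k) h = h * z ^ k := by
      intro k
      induction k with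
      | zero => simp
      | succ k ih =>
        rw [pow_succ', MulAut.mul_apply, ih, map_mul, map_pow, hcent z hz, pow_succ', ← mul_assoc,
          show h * z = φ h by rw [hzdef, mul_inv_cancel_left]]
    have h1 := hpow (Nat.card Q)
    have hφ1 : φ ^ Nat.card Q = 1 := by rw [hφ, ← map_pow, pow_card_eq_one', map_one]
    rw [hφ1, MulAut.one_apply, left_eq_mul] at h1
    have hz1 : z = 1 := orderOf_eq_one_iff.mp (Nat.eq_one_of_dvd_coprimes hQc
      (orderOf_dvd_of_pow_eq_one h1) (orderOf_dvd_natCard z))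
    rw [MulAut.one_apply]
    exact (inv_mul_eq_one.mp (hzdef ▸ hz1)).symm
  haveI hQs : Group.IsSolvable Q := by
    haveI : Group.IsSolvable (commutator Q) := by
      let f : commutator Q →* O := ((N.subtype.comp Q.subtype).comp (commutator Q).subtype).codRestrict O
        (fun x => by
          refine hker _ ?_
          have hle : commutator Q ≤ ψ.ker := by
            rw [commutator_eq_closure, closure_le]
            rintro _ ⟨u, v, rfl⟩
            exact hcommQ u v
          exact hle x.2)
      exact Group.isSolvable_of_isSolvable_injective (f := f) fun x y hxy =>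
        Subtype.ext (Subtype.ext (Subtype.ext (congrArg (fun t : O => (t : G)) hxy)))
    exact Group.isSolvable_of_ker_le_range (commutator Q).subtype Abelianization.of
      (by rw [Abelianization.ker_of, range_subtype])
  haveI : Group.IsSolvable (H.subgroupOf N) := by
    let e : H.subgroupOf N ≃* H := subgroupOfEquivOfLe le_normalizer
    exact Group.isSolvable_of_isSolvable_injective (f := e.toMonoidHom) e.injective
  haveI : Group.IsSolvable N := by
    haveI : Group.IsSolvable (N ⧸ H.subgroupOf N) :=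
      Group.isSolvable_of_surjective (f := (QuotientGroup.mk' (H.subgroupOf N)).comp Q.subtype) (by
        intro x
        obtain ⟨n, rfl⟩ := QuotientGroup.mk_surjective x
        have hn : n ∈ ((H.subgroupOf N ⊔ Q : Subgroup N) : Set N) := by rw [hQ.sup_eq_top]; trivial
        rw [normal_mul] at hn
        obtain ⟨h, hh, q, hq, rfl⟩ := hn
        refine ⟨⟨q, hq⟩, ?_⟩
        show (q : N ⧸ H.subgroupOf N) = ((h * q : N) : N ⧸ H.subgroupOf N)
        rw [QuotientGroup.mk_mul, (QuotientGroup.eq_one_iff h).mpr hh, one_mul])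
    exact Group.isSolvable_of_ker_le_range (H.subgroupOf N).subtype
      (QuotientGroup.mk' (H.subgroupOf N)) (by simp)
  haveI : Group.IsSolvable (G ⧸ O) :=
    Group.isSolvable_of_surjective (f := (QuotientGroup.mk' O).comp N.subtype) (by
      intro x
      obtain ⟨g, rfl⟩ := QuotientGroup.mk_surjective x
      have hg : g ∈ ((O ⊔ N : Subgroup G) : Set G) := by rw [hfr]; trivial
      rw [normal_mul] at hg
      obtain ⟨o, ho, n, hn, rfl⟩ := hg
      refine ⟨⟨n, hn⟩, ?_⟩
      show (n : G ⧸ O) = ((o * n : G) : G ⧸ O)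
      rw [QuotientGroup.mk_mul, (QuotientGroup.eq_one_iff o).mpr ho, one_mul])
  exact Group.isSolvable_of_ker_le_range O.subtype (QuotientGroup.mk' O) (by simp)

end H33
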